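import Groth.Agent.Sga3A.MTConst
import Groth.Agent.Sga3A.MTFamily
import Groth.Agent.Sga3A.FibRes
import Mathlib.RingTheory.Finiteness.Descent
import Mathlib.RingTheory.Finiteness.FinitePresentationLocal
import Mathlib.RingTheory.Flat.Localization

/-!
Basic properties of Hopf algebras of multiplicative type: flat, cocommutative, finitely presented when
of finite type; stability under base change.
-/

set_option autoImplicit false

open TensorProduct SGA3b Coalgebra Bialgebra
open Groth.Agent.Sga3A.BCIso Groth.Agent.Sga3A.GLBasic Groth.Agent.Sga3A.MTFamily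

namespace K201.MTBasics

universe u

section Const

variable {R : Type u} [CommRing R] {A : Type u} [CommRing A] [HopfAlgebra R A]

theorem free_of_isDiag (h : IsDiag R A) : Module.Free R A := by
  obtain ⟨M, _, ⟨e⟩⟩ := h
  exact Module.Free.of_equiv (e.symm : MonoidAlgebra R M ≃ₐc[R] A).toCoalgEquiv.toLinearEquiv

theorem flat_of_const (h : IsMultTypeConst R A) : Module.Flat R A := by
  obtain ⟨R', _, _, hff, hd⟩ := h
  have := free_of_isDiag hd
  have : Module.Flat R' (R' ⊗[R] A) := inferInstance
  exact Module.Flat.of_flat_tensorProduct R A R'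

theorem finitePresentation_of_isDiag [Algebra.FiniteType R A] (h : IsDiag R A) :
    Algebra.FinitePresentation R A := by
  obtain ⟨M, _, ⟨e⟩⟩ := h
  cases subsingleton_or_nontrivial R with
  | inl hR =>
    have : Subsingleton A := Module.subsingleton R A
    have hbij : Function.Bijective (Algebra.ofId R A) :=
      ⟨Function.injective_of_subsingleton _, fun x => ⟨0, Subsingleton.elim _ _⟩⟩
    exact Algebra.FinitePresentation.equiv (AlgEquiv.ofBijective _ hbij)
  | inr hR =>
    have hft2 : Algebra.FiniteType R (MonoidAlgebra R M) :=
      Algebra.FiniteType.equiv ‹_› (e : _ ≃ₐ[R] _)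
    have hfg : Group.FG M := MonoidAlgebra.finiteType_iff_group_fg.mp hft2
    have := Groth.Agent.Sga3A.FibRes.finitePresentation_monoidAlgebra R M
    exact Algebra.FinitePresentation.equiv (e.symm : MonoidAlgebra R M ≃ₐ[R] A)

theorem finitePresentation_of_const [Algebra.FiniteType R A] (h : IsMultTypeConst R A) :
    Algebra.FinitePresentation R A := by
  obtain ⟨R', _, _, hff, hd⟩ := h
  have := finitePresentation_of_isDiag hd
  exact Algebra.FinitePresentation.of_finitePresentation_tensorProduct_of_faithfullyFlat R'

end Const

variable {R : Type u} [CommRing R] {A : Type u} [CommRing A] [HopfAlgebra R A]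

theorem flat (h : IsMultType R A) : Module.Flat R A := by
  obtain ⟨s, hs, h⟩ := h
  refine Module.flat_of_isLocalized_span R A s hs (fun f : s => Localization.Away f.1 ⊗[R] A)
    (fun f => TensorProduct.mk R (Localization.Away f.1) A 1) fun f => ?_
  have := flat_of_const (h f.1 f.2)
  exact Module.Flat.trans R (Localization.Away f.1) _

theorem finitePresentation [Algebra.FiniteType R A] (h : IsMultType R A) :
    Algebra.FinitePresentation R A := by
  obtain ⟨s, hs, h⟩ := h
  have hspan : Ideal.span (Set.range fun f : s => algebraMap R A f.1) = ⊤ := by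
    have h1 := congrArg (Ideal.map (algebraMap R A)) hs
    rw [Ideal.map_span, Ideal.map_top, Set.image_eq_range] at h1
    exact h1
  let alg : ∀ f : s, Algebra A (Localization.Away f.1 ⊗[R] A) := fun f =>
    Algebra.TensorProduct.rightAlgebra
  have hfp : ∀ f : s, Algebra.FinitePresentation R (Localization.Away f.1 ⊗[R] A) := by
    intro f
    have := finitePresentation_of_const (h f.1 f.2)
    have : Algebra.FinitePresentation R (Localization.Away f.1) :=
      IsLocalization.Away.finitePresentation f.1
    exact Algebra.FinitePresentation.trans R (Localization.Away f.1) _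
  refine Algebra.FinitePresentation.of_span_eq_top_target_of_isLocalizationAway
    (fun f : s => algebraMap R A f.1) hspan (fun f : s => Localization.Away f.1 ⊗[R] A)

theorem comul_comm_of_gbasis {S D M : Type*} [CommRing S] [CommRing D] [Bialgebra S D] [CommGroup M]
    (g : Groth.Agent.Sga3A.MTBasis.GBasis S D M) (x : D) :
    TensorProduct.comm S D D (comul (R := S) x) = comul (R := S) x := by
  have : ((TensorProduct.comm S D D).toLinearMap ∘ₗ comul (R := S) : D →ₗ[S] D ⊗[S] D) =
      comul (R := S) := by
    apply g.b.ext
    intro m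
    simp [(g.gl m).comul_eq_tmul_self]
  exact LinearMap.congr_fun this x

theorem isCocomm (h : IsMultType R A) : IsCocomm R A := by
  have key : ∀ a : A, TensorProduct.comm R A A (comul (R := R) a) = comul (R := R) a := by
    intro a
    obtain ⟨ι, _, S, _, _, hS, _, hd⟩ := exists_family h
    rw [← sub_eq_zero]
    apply hS
    intro i
    obtain ⟨M, _, ⟨e⟩⟩ := hd i
    have h1 := comul_comm_of_gbasis (Groth.Agent.Sga3A.MTBasis.GBasis.ofBialgEquiv e) (1 ⊗ₜ[R] a)
    rw [comul_one_tmul] at h1
    have h2 : ∀ z : A ⊗[R] A, TensorProduct.comm (S i) (S i ⊗[R] A) (S i ⊗[R] A)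
        (TensorProduct.AlgebraTensorModule.distribBaseChange R (S i) A A (1 ⊗ₜ z)) =
        TensorProduct.AlgebraTensorModule.distribBaseChange R (S i) A A
          (1 ⊗ₜ (TensorProduct.comm R A A z)) := by
      intro z
      induction z using TensorProduct.induction_on with
      | zero => simp
      | tmul a b => simp
      | add a b ha hb => simp only [TensorProduct.tmul_add, map_add, ha, hb]
    rw [h2] at h1
    rw [TensorProduct.tmul_sub, sub_eq_zero]
    exact (LinearEquiv.injective _) h1
  refine ⟨?_⟩
  ext a
  exact key a

theorem isMultTypeConst_congr {B : Type u} [CommRing B] [HopfAlgebra R B] (e : A ≃ₐc[R] B)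
    (h : IsMultTypeConst R A) : IsMultTypeConst R B := by
  obtain ⟨R', i1, i2, hff, hd⟩ := h
  exact ⟨R', i1, i2, hff, isDiag_congr (congrBialg R' e) hd⟩

end K201.MTBasics
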