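import Groth.Agent.Sga3B.HaarDef
import Groth.Agent.Sga3A.GLBasic

/-!
Dictionary between bialgebra maps `Y ⊗ C → Y ⊗ A` over `Y` and homomorphisms `IsHom`
(points of `Spec C` with values in `A ⊗ Y`).
-/

set_option autoImplicit false

open TensorProduct Coalgebra Bialgebra WithConv
open Groth.Agent.Sga3A.BCIso Groth.Agent.Sga3A.GLBasic
open Groth.Agent.Sga3B.HaarDef

namespace K201.HomConv

section

variable {R : Type*} [CommRing R] {C : Type*} [CommRing C] [HopfAlgebra R C]
variable {A : Type*} [CommRing A] [HopfAlgebra R A]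
variable {Y : Type*} [CommRing Y] [Algebra R Y]

/-- the identification `A ⊗ (A ⊗ Y) ≃ (Y ⊗ A) ⊗_Y (Y ⊗ A)` -/
noncomputable def E (R A Y : Type*) [CommRing R] [CommRing A] [HopfAlgebra R A] [CommRing Y]
    [Algebra R Y] : A ⊗[R] (A ⊗[R] Y) ≃ₗ[R] (Y ⊗[R] A) ⊗[Y] (Y ⊗[R] A) :=
  ((TensorProduct.assoc R A A Y).symm.trans (TensorProduct.comm R (A ⊗[R] A) Y)).trans
    ((AlgebraTensorModule.distribBaseChange R Y A A).restrictScalars R)

lemma E_tmul (a a' : A) (y : Y) : E R A Y (a ⊗ₜ (a' ⊗ₜ y)) = (y ⊗ₜ[R] a) ⊗ₜ[Y] (1 ⊗ₜ[R] a') := by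
  change (AlgebraTensorModule.distribBaseChange R Y A A) (y ⊗ₜ (a ⊗ₜ a')) = _
  rw [AlgebraTensorModule.distribBaseChange_tmul]

lemma E_mul (z z' : Y ⊗[R] A) :
    E R A Y (T A (ι R A Y) (TensorProduct.comm R Y A z) *
      ι R A (A ⊗[R] Y) (TensorProduct.comm R Y A z')) = z ⊗ₜ[Y] z' := by
  induction z using TensorProduct.induction_on with
  | zero => simp
  | add a b ha hb => rw [map_add, map_add, add_mul, map_add, ha, hb, TensorProduct.add_tmul]
  | tmul y a =>
    induction z' using TensorProduct.induction_on with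
    | zero => simp
    | add a b ha hb => rw [map_add, map_add, mul_add, map_add, ha, hb, TensorProduct.tmul_add]
    | tmul y' a' =>
      simp only [TensorProduct.comm_tmul, T_tmul, ι_apply, Algebra.TensorProduct.tmul_mul_tmul,
        mul_one, one_mul, E_tmul]
      have h1 : (y' ⊗ₜ[R] a' : Y ⊗[R] A) = y' • (1 ⊗ₜ[R] a') := by
        rw [TensorProduct.smul_tmul', smul_eq_mul, mul_one]
      rw [h1, ← TensorProduct.smul_tmul, TensorProduct.smul_tmul', smul_eq_mul, mul_comm y' y]

lemma E_δ (z : Y ⊗[R] A) :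
    E R A Y (δ R A Y (TensorProduct.comm R Y A z)) = comul (R := Y) z := by
  induction z using TensorProduct.induction_on with
  | zero => simp
  | add a b ha hb => rw [map_add, map_add, map_add, ha, hb, map_add]
  | tmul y a =>
    have h1 : comul (R := Y) (y ⊗ₜ[R] a : Y ⊗[R] A) =
        y • AlgebraTensorModule.distribBaseChange R Y A A (1 ⊗ₜ comul (R := R) a) := by
      rw [← comul_one_tmul, ← map_smul, TensorProduct.smul_tmul', smul_eq_mul, mul_one]
    rw [h1]
    simp only [TensorProduct.comm_tmul, δ_tmul]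
    generalize comul (R := R) a = w
    induction w using TensorProduct.induction_on with
    | zero => simp
    | add a b ha hb => simp only [TensorProduct.add_tmul, map_add, TensorProduct.tmul_add, smul_add, ha, hb]
    | tmul b b' =>
      simp only [Algebra.TensorProduct.assoc_tmul, E_tmul, AlgebraTensorModule.distribBaseChange_tmul]
      rw [TensorProduct.smul_tmul', TensorProduct.smul_tmul', smul_eq_mul, mul_one]

/-- the value of a convolution product -/
lemma mul_apply_repr {X : Type*} [CommRing X] [Algebra R X] (f g : WithConv (C →ₐ[R] X)) (c : C) :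
    (f * g) c = ∑ i ∈ (ℛ R c).index, f ((ℛ R c).left i) * g ((ℛ R c).right i) := by
  have : (f * g) c = (lin (f * g)) c := rfl
  rw [this, map_mul, convMul_repr]
  rfl

/-- the comultiplication in terms of `IsHom` -/
theorem isHom_iff (F : WithConv (C →ₐ[R] A ⊗[R] Y)) (φ : C → Y ⊗[R] A)
    (hφ : ∀ c, F c = TensorProduct.comm R Y A (φ c)) :
    IsHom F ↔ ∀ c, comul (R := Y) (φ c) =
      ∑ i ∈ (ℛ R c).index, φ ((ℛ R c).left i) ⊗ₜ[Y] φ ((ℛ R c).right i) := by
  have h1 : ∀ c, E R A Y ((pushG (T A (ι R A Y)) F * pushG (ι R A (A ⊗[R] Y)) F) c) =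
      ∑ i ∈ (ℛ R c).index, φ ((ℛ R c).left i) ⊗ₜ[Y] φ ((ℛ R c).right i) := by
    intro c
    rw [mul_apply_repr, map_sum]
    refine Finset.sum_congr rfl fun i _ => ?_
    rw [pushG_apply, pushG_apply, hφ, hφ, E_mul]
  have h2 : ∀ c, E R A Y ((pushG (δ R A Y) F) c) = comul (R := Y) (φ c) := by
    intro c
    rw [pushG_apply, hφ, E_δ]
  constructor
  · intro hF c
    rw [← h1, ← h2]
    exact congrArg (fun G : WithConv (C →ₐ[R] A ⊗[R] (A ⊗[R] Y)) => E R A Y (G c)) hF.symm
  · intro h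
    apply WithConv.ofConv_injective
    ext c
    apply (E R A Y).injective
    exact (h1 c).trans ((h c).symm.trans (h2 c).symm)

/-- the point attached to a bialgebra map over `Y` -/
noncomputable def toPt (φ : (Y ⊗[R] C) →ₐc[Y] (Y ⊗[R] A)) : WithConv (C →ₐ[R] A ⊗[R] Y) :=
  toConv ((Algebra.TensorProduct.comm R Y A).toAlgHom.comp
    (((φ : (Y ⊗[R] C) →ₐ[Y] (Y ⊗[R] A)).restrictScalars R).comp
      Algebra.TensorProduct.includeRight))

lemma toPt_apply (φ : (Y ⊗[R] C) →ₐc[Y] (Y ⊗[R] A)) (c : C) :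
    toPt φ c = TensorProduct.comm R Y A (φ (1 ⊗ₜ c)) := rfl

theorem isHom_toPt (φ : (Y ⊗[R] C) →ₐc[Y] (Y ⊗[R] A)) : IsHom (toPt φ) := by
  rw [isHom_iff (toPt φ) (fun c => φ (1 ⊗ₜ c)) (toPt_apply φ)]
  intro c
  have h1 : comul (R := Y) (φ (1 ⊗ₜ c)) = TensorProduct.map (φ : Y ⊗[R] C →ₗ[Y] Y ⊗[R] A)
      (φ : Y ⊗[R] C →ₗ[Y] Y ⊗[R] A) (comul (R := Y) ((1 : Y) ⊗ₜ[R] c)) :=
    (CoalgHomClass.map_comp_comul_apply φ _).symm
  rw [h1, comul_one_tmul]
  conv_lhs => rw [← (ℛ R c).eq]
  rw [TensorProduct.tmul_sum, map_sum, map_sum]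
  refine Finset.sum_congr rfl fun i _ => ?_
  rw [AlgebraTensorModule.distribBaseChange_tmul]
  rfl

/-- A homomorphism preserves the unit. -/
theorem counit_of_isHom {F : WithConv (C →ₐ[R] A ⊗[R] Y)} (hF : IsHom F) :
    pushG ((Algebra.TensorProduct.lid R Y).toAlgHom.comp
      (Algebra.TensorProduct.map (counitAlgHom R A) (AlgHom.id R Y))) F = 1 := by
  set ev : A ⊗[R] Y →ₐ[R] Y := (Algebra.TensorProduct.lid R Y).toAlgHom.comp
      (Algebra.TensorProduct.map (counitAlgHom R A) (AlgHom.id R Y)) with hev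
  set ev2 : A ⊗[R] (A ⊗[R] Y) →ₐ[R] Y := ev.comp ((Algebra.TensorProduct.lid R (A ⊗[R] Y)).toAlgHom.comp
      (Algebra.TensorProduct.map (counitAlgHom R A) (AlgHom.id R (A ⊗[R] Y)))) with hev2
  have h1 := congrArg (pushG ev2) hF
  rw [map_mul, pushG_comp, pushG_comp, pushG_comp] at h1
  have c1 : ev2.comp (T A (ι R A Y)) = ev := by
    apply AlgHom.toLinearMap_injective
    ext a y
    simp [ev2, ev]
  have c2 : ev2.comp (ι R A (A ⊗[R] Y)) = ev := by
    apply AlgHom.toLinearMap_injective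
    ext a y
    simp [ev2, ev]
  have c3 : ev2.comp (δ R A Y) = ev := by
    apply AlgHom.toLinearMap_injective
    ext a y
    simp only [AlgebraTensorModule.curry_apply, LinearMap.restrictScalars_self, curry_apply,
      AlgHom.toLinearMap_apply, AlgHom.comp_apply, δ_tmul]
    have h2 : ∀ z : A ⊗[R] A, ev2 (Algebra.TensorProduct.assoc R R R A A Y (z ⊗ₜ y)) =
        counit (R := R) (TensorProduct.lid R A ((counit (R := R)).rTensor A z)) • y := by
      intro z
      induction z using TensorProduct.induction_on with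
      | zero => simp
      | tmul a b => simp [ev2, ev, mul_smul]
      | add a b ha hb => simp only [TensorProduct.add_tmul, map_add, ha, hb, add_smul]
    rw [h2, rTensor_counit_comul]
    simp [ev]
  rw [c1, c2, c3] at h1
  exact mul_eq_left.1 h1

end

section

variable {R : Type*} [CommRing R] {C : Type*} [CommRing C] [HopfAlgebra R C]
variable {A : Type*} [CommRing A] [HopfAlgebra R A]

/-- the bialgebra map attached to a homomorphism over the base -/
theorem exists_bialgHom_of_isHom {Y : Type*} [CommRing Y] [Algebra R Y]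
    (hY : Function.Bijective (algebraMap R Y)) (F : WithConv (C →ₐ[R] A ⊗[R] Y)) (hF : IsHom F) :
    ∃ φ : C →ₐc[R] A, ∀ c, F c = φ c ⊗ₜ 1 := by
  let eY : R ≃ₐ[R] Y := AlgEquiv.ofBijective (Algebra.ofId R Y) hY
  let r : A ⊗[R] Y →ₐ[R] A := (Algebra.TensorProduct.rid R R A).toAlgHom.comp
    (Algebra.TensorProduct.map (AlgHom.id R A) eY.symm.toAlgHom)
  have hr : ∀ z, z = r z ⊗ₜ[R] (1 : Y) := by
    intro z
    induction z using TensorProduct.induction_on with
    | zero => simp
    | add a b ha hb =>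
      rw [map_add, TensorProduct.add_tmul, ← ha, ← hb]
    | tmul a y =>
      obtain ⟨s, rfl⟩ := eY.surjective y
      have : r (a ⊗ₜ eY s) = s • a := by
        change (Algebra.TensorProduct.rid R R A) (a ⊗ₜ (eY.symm (eY s))) = _
        rw [eY.symm_apply_apply]
        simp
      rw [this, TensorProduct.smul_tmul]
      congr 1
      change algebraMap R Y s = _
      rw [Algebra.algebraMap_eq_smul_one]
  let f : C →ₐ[R] A := r.comp F.ofConv
  have hf : ∀ c, F c = f c ⊗ₜ 1 := fun c => hr (F c)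
  have hinj : Function.Injective (fun a : A => a ⊗ₜ[R] (1 : Y)) := by
    intro a b hab
    have : r (a ⊗ₜ 1) = r (b ⊗ₜ 1) := congrArg r hab
    have hr1 : ∀ a : A, r (a ⊗ₜ 1) = a := by
      intro a
      change (Algebra.TensorProduct.rid R R A) (a ⊗ₜ (eY.symm 1)) = _
      rw [map_one]
      simp
    rwa [hr1, hr1] at this
  have hmul := (isHom_iff F (fun c => (1 : Y) ⊗ₜ[R] f c) (fun c => by
    rw [hf, TensorProduct.comm_tmul])).1 hF
  have hco : ∀ c, comul (R := R) (f c) =
      ∑ i ∈ (ℛ R c).index, f ((ℛ R c).left i) ⊗ₜ[R] f ((ℛ R c).right i) := by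
    intro c
    have h1 := hmul c
    rw [comul_one_tmul] at h1
    have h2 : ∑ i ∈ (ℛ R c).index, ((1 : Y) ⊗ₜ[R] f ((ℛ R c).left i)) ⊗ₜ[Y]
        ((1 : Y) ⊗ₜ[R] f ((ℛ R c).right i)) =
        AlgebraTensorModule.distribBaseChange R Y A A
          (1 ⊗ₜ ∑ i ∈ (ℛ R c).index, f ((ℛ R c).left i) ⊗ₜ[R] f ((ℛ R c).right i)) := by
      rw [TensorProduct.tmul_sum, map_sum]
      refine Finset.sum_congr rfl fun i _ => ?_
      rw [AlgebraTensorModule.distribBaseChange_tmul]
    rw [h2] at h1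
    have h3 := (LinearEquiv.injective _) h1
    have h4 : Function.Injective (fun z : A ⊗[R] A => (1 : Y) ⊗ₜ[R] z) := by
      intro x y hxy
      have h5 := congrArg (fun w => TensorProduct.lid R (A ⊗[R] A)
        (eY.symm.toLinearMap.rTensor (A ⊗[R] A) w)) hxy
      simpa using h5
    exact h4 h3
  have hcu : ∀ c, counit (R := R) (f c) = counit (R := R) c := by
    intro c
    have h1 := congrArg (fun G : WithConv (C →ₐ[R] Y) => G c) (counit_of_isHom hF)
    have h2 : (pushG ((Algebra.TensorProduct.lid R Y).toAlgHom.comp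
      (Algebra.TensorProduct.map (counitAlgHom R A) (AlgHom.id R Y))) F) c =
      algebraMap R Y (counit (R := R) (f c)) := by
      rw [pushG_apply, hf]
      simp [Algebra.algebraMap_eq_smul_one]
    have h3 : (1 : WithConv (C →ₐ[R] Y)) c = algebraMap R Y (counit (R := R) c) := rfl
    apply hY.1
    rw [← h2, ← h3]
    exact h1
  refine ⟨BialgHom.ofAlgHom f ?_ ?_, hf⟩
  · ext c
    exact hcu c
  · ext c
    change (TensorProduct.map f.toLinearMap f.toLinearMap) (comul (R := R) c) = comul (R := R) (f c)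
    rw [hco]
    conv_lhs => rw [← (ℛ R c).eq]
    rw [map_sum]
    rfl

end

end K201.HomConv
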