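import Groth.Agent.SGA3b.K201.HaarMT
import Groth.Agent.SGA3b.K201.HomConv

/-!
Lifting (and conjugacy of liftings) of homomorphisms from a group with an invariant integral to a
smooth group along a surjection with nilpotent kernel.
-/

set_option autoImplicit false

open TensorProduct Coalgebra Bialgebra WithConv
open Groth.Agent.Sga3B.HaarDef

namespace K201.SmoothLift

universe u v w

section

variable {R : Type u} [CommRing R] {C : Type v} [CommRing C] [HopfAlgebra R C]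
variable {A : Type w} [CommRing A] [Bialgebra R A]

omit [CommRing R] in
theorem ker_mkA {R : Type*} [CommRing R] {S : Type*} [CommRing S] [Algebra R S] (I : Ideal S) :
    RingHom.ker (Ideal.Quotient.mkₐ R I) = I := by
  ext x
  rw [RingHom.mem_ker]
  exact Ideal.Quotient.eq_zero_iff_mem

/-- lifting along `X → X ⧸ I` -/
theorem exists_lift_quot [Algebra.FormallySmooth R C] (μ : Haar R A) {X : Type*} [CommRing X]
    (I : Ideal X) (hI : IsNilpotent I) [Algebra R X] (F₀ : WithConv (C →ₐ[R] A ⊗[R] (X ⧸ I)))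
    (hF₀ : IsHom F₀) :
    ∃ F : WithConv (C →ₐ[R] A ⊗[R] X), IsHom F ∧ pushG (T A (Ideal.Quotient.mkₐ R I)) F = F₀ := by
  revert F₀
  revert ‹Algebra R X›
  apply Ideal.IsNilpotent.induction_on (S := X) I hI
  · intro S _ I hI _ F₀ hF₀
    exact exists_lift_isHom μ (Ideal.Quotient.mkₐ_surjective R I)
      (by rw [ker_mkA]; exact hI) hF₀
  · intro B _ I J hIJ h₁ h₂ _ F₀ hF₀
    let e : ((B ⧸ I) ⧸ J.map (Ideal.Quotient.mk I)) ≃ₐ[R] B ⧸ J :=
      { (DoubleQuot.quotQuotEquivQuotSup I J).trans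
          (Ideal.quotEquivOfEq (sup_eq_right.mpr hIJ)) with
        commutes' := fun x => rfl }
    obtain ⟨F₁, hF₁, h1⟩ := h₂ (pushG (T A e.symm.toAlgHom) F₀) (hF₀.map e.symm.toAlgHom)
    obtain ⟨F, hF, h2⟩ := h₁ F₁ hF₁
    refine ⟨F, hF, ?_⟩
    have h3 : pushG (T A e.toAlgHom) (pushG (T A (Ideal.Quotient.mkₐ R (J.map (Ideal.Quotient.mk I))))
      (pushG (T A (Ideal.Quotient.mkₐ R I)) F)) = F₀ := by
      rw [h2, h1, pushG_comp, T_comp]
      have : e.toAlgHom.comp e.symm.toAlgHom = AlgHom.id R (B ⧸ J) := by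
        ext x
        exact e.apply_symm_apply x
      rw [this]
      apply WithConv.ofConv_injective
      ext c
      change (T A (AlgHom.id R (B ⧸ J))) (F₀ c) = F₀ c
      simp [T]
    rw [pushG_comp, pushG_comp, T_comp, T_comp] at h3
    exact h3

theorem exists_lift [Algebra.FormallySmooth R C] (μ : Haar R A) {X Y : Type*} [CommRing X]
    [Algebra R X] [CommRing Y] [Algebra R Y] (π : X →ₐ[R] Y) (hπ : Function.Surjective π)
    (hI : IsNilpotent (RingHom.ker π)) (F₀ : WithConv (C →ₐ[R] A ⊗[R] Y))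
    (hF₀ : IsHom F₀) :
    ∃ F : WithConv (C →ₐ[R] A ⊗[R] X), IsHom F ∧ pushG (T A π) F = F₀ := by
  let e := Ideal.quotientKerAlgEquivOfSurjective hπ
  obtain ⟨F, hF, h⟩ := exists_lift_quot μ (RingHom.ker π) hI (pushG (T A e.symm.toAlgHom) F₀)
    (hF₀.map e.symm.toAlgHom)
  refine ⟨F, hF, ?_⟩
  have h3 : pushG (T A e.toAlgHom) (pushG (T A (Ideal.Quotient.mkₐ R (RingHom.ker π))) F) = F₀ := by
    rw [h, pushG_comp, T_comp]
    have : e.toAlgHom.comp e.symm.toAlgHom = AlgHom.id R Y := by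
      ext x
      exact e.apply_symm_apply x
    rw [this]
    apply WithConv.ofConv_injective
    ext c
    change (T A (AlgHom.id R Y)) (F₀ c) = F₀ c
    simp [T]
  rw [pushG_comp, T_comp] at h3
  have h4 : e.toAlgHom.comp (Ideal.Quotient.mkₐ R (RingHom.ker π)) = π := by
    ext x
    rfl
  rwa [h4] at h3

/-- surjectivity on points -/
theorem exists_pt_lift [Algebra.FormallySmooth R C] {X : Type*} [CommRing X]
    (I : Ideal X) (hI : IsNilpotent I) [Algebra R X] (g : WithConv (C →ₐ[R] X ⧸ I)) :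
    ∃ G : WithConv (C →ₐ[R] X), pushG (Ideal.Quotient.mkₐ R I) G = g := by
  obtain ⟨f, hf⟩ := Algebra.FormallySmooth.exists_lift I hI g.ofConv
  exact ⟨toConv f, WithConv.ofConv_injective hf⟩

theorem grp_aux {G : Type*} [Group G] (p a b : G) :
    p * a * p⁻¹ * (p * b * p⁻¹) = p * (a * b) * p⁻¹ := by group

theorem isHom_conj {X : Type*} [CommRing X] [Algebra R X] {F : WithConv (C →ₐ[R] A ⊗[R] X)}
    (hF : IsHom F) (g : WithConv (C →ₐ[R] X)) :
    IsHom (pushG (ι R A X) g * F * (pushG (ι R A X) g)⁻¹) := by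
  have hF2 : pushG (T A (ι R A X)) F * pushG (ι R A (A ⊗[R] X)) F = pushG (δ R A X) F := hF
  change pushG (T A (ι R A X)) (pushG (ι R A X) g * F * (pushG (ι R A X) g)⁻¹) *
    pushG (ι R A (A ⊗[R] X)) (pushG (ι R A X) g * F * (pushG (ι R A X) g)⁻¹) =
    pushG (δ R A X) (pushG (ι R A X) g * F * (pushG (ι R A X) g)⁻¹)
  simp only [map_mul, map_inv, ← hF2]
  have h1 : pushG (T A (ι R A X)) (pushG (ι R A X) g) =
      pushG (ι R A (A ⊗[R] X)) (pushG (ι R A X) g) := by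
    rw [pushG_comp, pushG_comp, T_comp_ι]
  have h2 : pushG (δ R A X) (pushG (ι R A X) g) =
      pushG (ι R A (A ⊗[R] X)) (pushG (ι R A X) g) := by
    rw [pushG_comp, pushG_comp, δ_comp_ι]
  rw [h1, h2]
  exact grp_aux _ _ _

theorem isNilpotent_of_map {S : Type*} [CommRing S] {I J : Ideal S} (hI : IsNilpotent I)
    (hJ : IsNilpotent (J.map (Ideal.Quotient.mk I))) : IsNilpotent J := by
  obtain ⟨n, hn⟩ := hI
  obtain ⟨m, hm⟩ := hJ
  refine ⟨m * n, ?_⟩
  rw [← Ideal.map_pow, Ideal.zero_eq_bot, Ideal.map_eq_bot_iff_le_ker, Ideal.mk_ker] at hm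
  rw [pow_mul, Ideal.zero_eq_bot, eq_bot_iff]
  rw [Ideal.zero_eq_bot] at hn
  rw [← hn]
  exact Ideal.pow_right_mono hm n

variable (R C A) in
/-- conjugacy of liftings, as a property of an ideal -/
def ConjProp {S : Type*} [CommRing S] (I : Ideal S) : Prop :=
  IsNilpotent I ∧ ∀ [Algebra R S] (F F' : WithConv (C →ₐ[R] A ⊗[R] S))
    (_ : IsHom F) (_ : IsHom F')
    (_ : pushG (T A (Ideal.Quotient.mkₐ R I)) F = pushG (T A (Ideal.Quotient.mkₐ R I)) F'),
    ∃ g : WithConv (C →ₐ[R] S), pushG (Ideal.Quotient.mkₐ R I) g = 1 ∧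
      F' = pushG (ι R A S) g * F * (pushG (ι R A S) g)⁻¹

theorem conjProp_of_sq (μ : Haar R A) {S : Type*} [CommRing S] (I : Ideal S) (hI : I ^ 2 = ⊥) :
    ConjProp R C A I := by
  refine ⟨⟨2, hI⟩, ?_⟩
  intro _ F F' hF hF' h
  exact exists_conj_isHom μ (Ideal.Quotient.mkₐ_surjective R I)
    (by rw [ker_mkA]; exact hI) hF hF' h

theorem grp_aux2 {G : Type*} [Group G] {f f' p q : G} (h : f' = p * (q * f * q⁻¹) * p⁻¹) :
    f' = (p * q) * f * (p * q)⁻¹ := by rw [h]; group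

theorem conjProp_step [Algebra.FormallySmooth R C] {B : Type*} [CommRing B] (I J : Ideal B)
    (hIJ : I ≤ J) (h₁ : ConjProp R C A I) (h₂ : ConjProp R C A (J.map (Ideal.Quotient.mk I))) :
    ConjProp R C A J := by
  refine ⟨isNilpotent_of_map h₁.1 h₂.1, ?_⟩
  intro _ F F' hF hF' h
  let e : ((B ⧸ I) ⧸ J.map (Ideal.Quotient.mk I)) ≃ₐ[R] B ⧸ J :=
    { (DoubleQuot.quotQuotEquivQuotSup I J).trans
        (Ideal.quotEquivOfEq (sup_eq_right.mpr hIJ)) with
      commutes' := fun x => rfl }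
  have he : (Ideal.Quotient.mkₐ R (J.map (Ideal.Quotient.mk I))).comp (Ideal.Quotient.mkₐ R I) =
      e.symm.toAlgHom.comp (Ideal.Quotient.mkₐ R J) := by
    ext x
    rw [AlgHom.comp_apply, AlgHom.comp_apply]
    exact (e.symm_apply_eq.2 rfl).symm
  have he' : e.toAlgHom.comp ((Ideal.Quotient.mkₐ R (J.map (Ideal.Quotient.mk I))).comp
      (Ideal.Quotient.mkₐ R I)) = Ideal.Quotient.mkₐ R J := by
    ext x
    rfl
  have h3 : pushG (T A (Ideal.Quotient.mkₐ R (J.map (Ideal.Quotient.mk I))))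
      (pushG (T A (Ideal.Quotient.mkₐ R I)) F) =
      pushG (T A (Ideal.Quotient.mkₐ R (J.map (Ideal.Quotient.mk I))))
      (pushG (T A (Ideal.Quotient.mkₐ R I)) F') := by
    rw [pushG_comp, pushG_comp, T_comp, he, ← T_comp, ← pushG_comp, h, pushG_comp]
  obtain ⟨g₁, hg₁, h4⟩ := h₂.2 _ _ (hF.map (Ideal.Quotient.mkₐ R I))
    (hF'.map (Ideal.Quotient.mkₐ R I)) h3
  obtain ⟨G, rfl⟩ := exists_pt_lift I h₁.1 g₁
  have h5 : pushG (T A (Ideal.Quotient.mkₐ R I)) (pushG (ι R A B) G * F * (pushG (ι R A B) G)⁻¹) =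
      pushG (T A (Ideal.Quotient.mkₐ R I)) F' := by
    rw [h4, map_mul, map_mul, map_inv, pushG_comp, T_comp_ι, pushG_comp]
  obtain ⟨g₂, hg₂, h6⟩ := h₁.2 _ _ (isHom_conj hF G) hF' h5
  refine ⟨g₂ * G, ?_, ?_⟩
  · rw [map_mul]
    have h7 : pushG (Ideal.Quotient.mkₐ R J) g₂ = 1 := by
      rw [← he', ← AlgHom.comp_assoc, ← pushG_comp, hg₂, map_one]
    have h8 : pushG (Ideal.Quotient.mkₐ R J) G = 1 := by
      rw [← he', ← pushG_comp, ← pushG_comp, hg₁, map_one]
    rw [h7, h8, one_mul]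
  · rw [map_mul]
    exact grp_aux2 h6

/-- conjugacy of liftings -/
theorem exists_conj_quot [Algebra.FormallySmooth R C] (μ : Haar R A) {X : Type*} [CommRing X]
    (I : Ideal X) (hI : IsNilpotent I) [Algebra R X] (F F' : WithConv (C →ₐ[R] A ⊗[R] X))
    (hF : IsHom F) (hF' : IsHom F')
    (h : pushG (T A (Ideal.Quotient.mkₐ R I)) F = pushG (T A (Ideal.Quotient.mkₐ R I)) F') :
    ∃ g : WithConv (C →ₐ[R] X), pushG (Ideal.Quotient.mkₐ R I) g = 1 ∧
      F' = pushG (ι R A X) g * F * (pushG (ι R A X) g)⁻¹ := by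
  have H : ConjProp R C A I := Ideal.IsNilpotent.induction_on (S := X) I hI
    (P := fun S _ I => ConjProp R C A I)
    (fun S _ I hI => conjProp_of_sq μ I hI) (fun S _ I J hIJ h1 h2 => conjProp_step I J hIJ h1 h2)
  exact H.2 F F' hF hF' h

end

end K201.SmoothLift
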