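import Groth.Agent.Sga3A.Rigidity
import Groth.Agent.Sga3A.GLHom

/-!
Homomorphisms from a group of multiplicative type which are trivial modulo a nilpotent ideal are
trivial (SGA 3 IX 3.4).
-/

set_option autoImplicit false

open TensorProduct SGA3b Coalgebra Bialgebra
open Groth.Agent.Sga3A.BCIso Groth.Agent.Sga3A.GLBasic Groth.Agent.Sga3A.GLLift
open Groth.Agent.Sga3A.MTFamily Groth.Agent.Sga3A.GLHom Groth.Agent.Sga3A.Rigidity

namespace K201.Triv

universe u

section

variable {R : Type u} [CommRing R] {C : Type u} [CommRing C] [Bialgebra R C]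

theorem ker_counit_induction {S : Type u} [CommRing S] [Algebra R S] {P : Type*} [AddCommGroup P]
    [Module S P] (F : S ⊗[R] C →ₗ[S] P) (N : Submodule S P)
    (h : ∀ c : C, counit (R := R) c = 0 → F (1 ⊗ₜ c) ∈ N) (z : S ⊗[R] C)
    (hz : counit (R := S) z = 0) : F z ∈ N := by
  have key : ∀ z : S ⊗[R] C, F (z - algebraMap S (S ⊗[R] C) (counit (R := S) z)) ∈ N := by
    intro z
    induction z using TensorProduct.induction_on with
    | zero => simp
    | add x y hx hy =>
      have : (x + y) - algebraMap S (S ⊗[R] C) (counit (R := S) (x + y)) =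
          (x - algebraMap S (S ⊗[R] C) (counit (R := S) x)) +
          (y - algebraMap S (S ⊗[R] C) (counit (R := S) y)) := by
        rw [map_add, map_add]; ring
      rw [this, map_add]
      exact N.add_mem hx hy
    | tmul s c =>
      have h1 : s ⊗ₜ[R] c - algebraMap S (S ⊗[R] C) (counit (R := S) (s ⊗ₜ[R] c)) =
          s • ((1 : S) ⊗ₜ[R] (c - algebraMap R C (counit c))) := by
        rw [TensorProduct.counit_tmul, TensorProduct.tmul_sub, smul_sub,
          TensorProduct.smul_tmul', smul_eq_mul, mul_one]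
        congr 1
        rw [CommSemiring.counit_apply, Algebra.TensorProduct.algebraMap_apply,
          Algebra.algebraMap_eq_smul_one, Algebra.algebraMap_eq_smul_one, TensorProduct.tmul_smul,
          TensorProduct.smul_tmul', TensorProduct.smul_tmul', Algebra.smul_def, Algebra.smul_def]
        simp [Algebra.smul_def, mul_comm]
      rw [h1, map_smul]
      exact N.smul_mem _ (h _ (by simp))
  have := key z
  rwa [hz, map_zero, sub_zero] at this

variable {A : Type u} [CommRing A] [HopfAlgebra R A]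

/-- key step: trivial mod `I` implies trivial mod `I * I`. -/
theorem mem_sq (h : IsMultType R A) (w : C →ₐc[R] A) (I : Ideal R)
    (hw : ∀ c : C, counit (R := R) c = 0 → w c ∈ (I • ⊤ : Submodule R A)) (c : C)
    (hc : counit (R := R) c = 0) : w c ∈ ((I * I) • ⊤ : Submodule R A) := by
  obtain ⟨ι, _, S, _, _, hS, _, hd⟩ := exists_family h
  refine hS.mem_smul_top _ fun i => ?_
  obtain ⟨M, _, ⟨e⟩⟩ := hd i
  let wi : S i ⊗[R] C →ₐc[S i] MonoidAlgebra (S i) M :=
    (e : S i ⊗[R] A →ₐc[S i] MonoidAlgebra (S i) M).comp (mapBialg (S i) w)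
  have hwi : ∀ c, wi (1 ⊗ₜ c) = e (1 ⊗ₜ w c) := fun c => rfl
  have h1 : ∀ z : S i ⊗[R] C, counit (R := S i) z = 0 → ∀ m,
      (wi z).coeff m ∈ I.map (algebraMap R (S i)) := by
    intro z hz
    rw [← mem_smul_top_iff_coeff]
    refine ker_counit_induction (wi : S i ⊗[R] C →ₗ[S i] MonoidAlgebra (S i) M) _ ?_ z hz
    intro c hc
    change wi (1 ⊗ₜ c) ∈ _
    rw [hwi]
    exact map_mem_smul_top (e : S i ⊗[R] A →ₗ[S i] MonoidAlgebra (S i) M)
      (tmul_mem_smul_top 1 (hw c hc))
  have h2 : wi (1 ⊗ₜ c) ∈ (((I * I).map (algebraMap R (S i))) • ⊤ :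
      Submodule (S i) (MonoidAlgebra (S i) M)) := by
    rw [mem_smul_top_iff_coeff, Ideal.map_mul]
    intro m
    refine coeff_mem_sq wi _ h1 _ ?_ m
    rw [counit_one_tmul, hc, map_zero]
  rw [hwi] at h2
  have h3 := map_mem_smul_top (e.symm : MonoidAlgebra (S i) M →ₗ[S i] S i ⊗[R] A) h2
  have h4 : (e.symm : MonoidAlgebra (S i) M →ₗ[S i] S i ⊗[R] A) (e (1 ⊗ₜ w c)) = 1 ⊗ₜ w c :=
    e.symm_apply_apply _
  rwa [h4] at h3

theorem mem_pow (h : IsMultType R A) (w : C →ₐc[R] A) (I : Ideal R)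
    (hw : ∀ c : C, counit (R := R) c = 0 → w c ∈ (I • ⊤ : Submodule R A)) (n : ℕ) :
    ∀ c : C, counit (R := R) c = 0 → w c ∈ ((I ^ (2 ^ n)) • ⊤ : Submodule R A) := by
  induction n with
  | zero => simpa using hw
  | succ n ih =>
    intro c hc
    have := mem_sq h w (I ^ (2 ^ n)) ih c hc
    rwa [← pow_add, ← two_mul, ← pow_succ'] at this

theorem mem_pow' (h : IsMultType R A) (w : C →ₐc[R] A) (I : Ideal R)
    (hw : ∀ c : C, counit (R := R) c = 0 → w c ∈ (I • ⊤ : Submodule R A)) (n : ℕ)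
    (c : C) (hc : counit (R := R) c = 0) : w c ∈ ((I ^ n) • ⊤ : Submodule R A) :=
  Submodule.smul_mono_left (Ideal.pow_le_pow_right (Nat.lt_two_pow_self).le)
    (mem_pow h w I hw n c hc)

/-- A homomorphism which is trivial modulo a nilpotent ideal is trivial. -/
theorem eq_zero_of_nilpotent (h : IsMultType R A) (w : C →ₐc[R] A) {I : Ideal R}
    (hI : IsNilpotent I)
    (hw : ∀ c : C, counit (R := R) c = 0 → w c ∈ (I • ⊤ : Submodule R A)) (c : C)
    (hc : counit (R := R) c = 0) : w c = 0 := by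
  obtain ⟨k, hk⟩ := hI
  have := mem_pow' h w I hw k c hc
  rw [hk] at this
  simpa using this

theorem eq_algebraMap_counit (w : C →ₐc[R] A)
    (hw : ∀ c : C, counit (R := R) c = 0 → w c = 0) (c : C) :
    w c = algebraMap R A (counit c) := by
  have h2 := hw (c - algebraMap R C (counit c)) (by simp)
  rw [map_sub, sub_eq_zero] at h2
  rw [h2]
  exact AlgHomClass.commutes w _

end

section

variable {R : Type u} [CommRing R] {C : Type u} [CommRing C] [HopfAlgebra R C] [IsCocomm R C]
variable {A : Type u} [CommRing A] [HopfAlgebra R A]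

theorem mem_smul_top_iff_mem_map {I : Ideal R} (a : A) :
    a ∈ (I • ⊤ : Submodule R A) ↔ a ∈ I.map (algebraMap R A) := by
  rw [Ideal.smul_top_eq_map]; rfl

theorem eq_of_nilpotent (h : IsMultType R A) (φ ψ : C →ₐc[R] A) {I : Ideal R}
    (hI : IsNilpotent I) (hw : ∀ c : C, φ c - ψ c ∈ (I • ⊤ : Submodule R A)) : φ = ψ := by
  apply eq_of_diff
  apply eq_zero_of_nilpotent h _ hI
  intro c hc
  rw [mem_smul_top_iff_mem_map]
  exact diff_mem φ ψ _ (fun c => (mem_smul_top_iff_mem_map _).1 (hw c)) c hc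

end

end K201.Triv
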