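import Mathlib.RingTheory.HopfAlgebra.Convolution

/-! Bialgebra maps between Hopf algebras commute with the antipodes. -/

set_option autoImplicit false

namespace K201.Antipode

section hopf

variable {R A B : Type*} [CommRing R] [CommRing A] [CommRing B] [HopfAlgebra R A] [HopfAlgebra R B]

open LinearMap WithConv HopfAlgebra in
theorem antipode_comp_bialgHom (f : A →ₐc[R] B) :
    antipode R ∘ₗ f.toLinearMap = f.toLinearMap ∘ₗ antipode R := by
  apply toConv_injective
  have h1 : (toConv (antipode R ∘ₗ f.toLinearMap) * toConv f.toLinearMap :
      WithConv (A →ₗ[R] B)) = 1 := by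
    apply ofConv_injective
    calc (toConv (antipode R ∘ₗ f.toLinearMap) * toConv f.toLinearMap :
            WithConv (A →ₗ[R] B)).ofConv
        = (toConv (antipode R) * toConv .id : WithConv (B →ₗ[R] B)).ofConv ∘ₗ
            f.toCoalgHom.toLinearMap := by
          rw [convMul_comp_coalgHom_distrib]; rfl
      _ = (1 : WithConv (A →ₗ[R] B)).ofConv := by
          rw [antipode_mul_id]
          ext a
          simp
  have h2 : (toConv f.toLinearMap * toConv (f.toLinearMap ∘ₗ antipode R) :
      WithConv (A →ₗ[R] B)) = 1 := by
    apply ofConv_injective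
    calc (toConv f.toLinearMap * toConv (f.toLinearMap ∘ₗ antipode R) :
            WithConv (A →ₗ[R] B)).ofConv
        = (AlgHomClass.toAlgHom f).toLinearMap ∘ₗ
            (toConv .id * toConv (antipode R) : WithConv (A →ₗ[R] A)).ofConv := by
          rw [algHom_comp_convMul_distrib]; rfl
      _ = (1 : WithConv (A →ₗ[R] B)).ofConv := by
          rw [id_mul_antipode]
          ext a
          simp only [LinearMap.comp_apply, LinearMap.convOne_apply]
          exact AlgHomClass.commutes f _
  exact left_inv_eq_right_inv h1 h2

theorem antipode_apply (f : A →ₐc[R] B) (a : A) :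
    HopfAlgebra.antipode R (f a) = f (HopfAlgebra.antipode R a) :=
  congr($(antipode_comp_bialgHom f) a)

end hopf

end K201.Antipode
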