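import Groth.Agent.Sga3A.KernelLocal
import Groth.Agent.Sga3A.MTFamily
import Groth.Agent.SGA3b.K201.Antipode

/-!
A monomorphism from a group of multiplicative type to an affine group is a closed immersion.
-/

set_option autoImplicit false

open TensorProduct SGA3b Coalgebra Bialgebra
open Groth.Agent.Sga3A.BCIso Groth.Agent.Sga3A.GLBasic Groth.Agent.Sga3A.MTFamily
open Groth.Agent.Sga3A.KernelLocal

namespace K201.Mono

universe u

section Split

variable {R : Type u} [CommRing R] {M : Type u} [CommGroup M] {C : Type*} [CommRing C]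
  [HopfAlgebra R C] (φ : C →ₐc[R] MonoidAlgebra R M)

theorem one_mem_aIdeal : (1 : R) ∈ aIdeal φ (1 : M) := ⟨1, by rw [map_one, MonoidAlgebra.one_def]⟩

theorem mul_mem_aIdeal {m n : M} {r s : R} (hr : r ∈ aIdeal φ m) (hs : s ∈ aIdeal φ n) :
    r * s ∈ aIdeal φ (m * n) := by
  obtain ⟨c, hc⟩ := hr
  obtain ⟨d, hd⟩ := hs
  exact ⟨c * d, by rw [map_mul, hc, hd, MonoidAlgebra.single_mul_single]⟩

theorem inv_mem_aIdeal {m : M} {r : R} (hr : r ∈ aIdeal φ m) : r ∈ aIdeal φ m⁻¹ := by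
  obtain ⟨c, hc⟩ := hr
  refine ⟨HopfAlgebra.antipode R c, ?_⟩
  rw [← K201.Antipode.antipode_apply φ c, hc]
  simp

/-- the subgroup of the characters in the image at a prime -/
def subgp (m : Ideal R) [hm : m.IsPrime] : Subgroup M where
  carrier := {n | ¬ aIdeal φ n ≤ m}
  one_mem' := fun h => hm.ne_top ((Ideal.eq_top_iff_one _).2 (h (one_mem_aIdeal φ)))
  mul_mem' := by
    intro a b ha hb
    obtain ⟨r, hr, hr'⟩ := SetLike.not_le_iff_exists.1 ha
    obtain ⟨s, hs, hs'⟩ := SetLike.not_le_iff_exists.1 hb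
    refine SetLike.not_le_iff_exists.2 ⟨r * s, mul_mem_aIdeal φ hr hs, fun h => ?_⟩
    exact (hm.mem_or_mem h).elim hr' hs'
  inv_mem' := by
    intro a ha
    obtain ⟨r, hr, hr'⟩ := SetLike.not_le_iff_exists.1 ha
    exact SetLike.not_le_iff_exists.2 ⟨r, inv_mem_aIdeal φ hr, hr'⟩

theorem mem_subgp {m : Ideal R} [m.IsPrime] {n : M} : n ∈ subgp φ m ↔ ¬ aIdeal φ n ≤ m := Iff.rfl

theorem agree (m : Ideal R) [m.IsPrime] (c : C) :
    MonoidAlgebra.lift R (MonoidAlgebra (R ⧸ m) (M ⧸ subgp φ m)) M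
      ((MonoidAlgebra.of (R ⧸ m) (M ⧸ subgp φ m)).comp (QuotientGroup.mk' (subgp φ m))) (φ c) =
    MonoidAlgebra.lift R (MonoidAlgebra (R ⧸ m) (M ⧸ subgp φ m)) M 1 (φ c) := by
  classical
  conv_lhs => rw [← (φ c).sum_coeff_single]
  conv_rhs => rw [← (φ c).sum_coeff_single]
  rw [Finsupp.sum, map_sum, map_sum]
  refine Finset.sum_congr rfl fun n _ => ?_
  rw [MonoidAlgebra.lift_single, MonoidAlgebra.lift_single]
  by_cases hn : n ∈ subgp φ m
  · have : (QuotientGroup.mk' (subgp φ m)) n = 1 := (QuotientGroup.eq_one_iff n).2 hn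
    rw [MonoidHom.comp_apply, this, map_one, MonoidHom.one_apply]
  · rw [mem_subgp, not_not] at hn
    have h1 : (φ c).coeff n ∈ m := hn (coeff_mem_aIdeal φ c n)
    have h2 : ∀ x : MonoidAlgebra (R ⧸ m) (M ⧸ subgp φ m), (φ c).coeff n • x = 0 := by
      intro x
      rw [← algebraMap_smul (R ⧸ m), Ideal.Quotient.algebraMap_eq,
        Ideal.Quotient.eq_zero_iff_mem.2 h1, zero_smul]
    rw [h2, h2]

theorem aIdeal_eq_top
    (hmono : ∀ (T : Type u) [CommRing T] [Algebra R T],
      Function.Injective (fun x : MonoidAlgebra R M →ₐ[R] T =>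
        x.comp (φ : C →ₐ[R] MonoidAlgebra R M))) (n : M) : aIdeal φ n = ⊤ := by
  by_contra hne
  obtain ⟨m, hm, hle⟩ := Ideal.exists_le_maximal _ hne
  have := hm.isPrime
  have h1 := hmono (MonoidAlgebra (R ⧸ m) (M ⧸ subgp φ m)) (a₁ := MonoidAlgebra.lift R _ M
      ((MonoidAlgebra.of (R ⧸ m) (M ⧸ subgp φ m)).comp (QuotientGroup.mk' (subgp φ m))))
    (a₂ := MonoidAlgebra.lift R _ M 1) (AlgHom.ext fun c => agree φ m c)
  have h2 := congrArg (fun f : MonoidAlgebra R M →ₐ[R] MonoidAlgebra (R ⧸ m) (M ⧸ subgp φ m) =>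
    f (MonoidAlgebra.single n 1)) h1
  simp only [MonoidAlgebra.lift_single, one_smul, MonoidHom.comp_apply, MonoidHom.one_apply] at h2
  have h3 : (QuotientGroup.mk' (subgp φ m)) n = 1 := by
    apply MonoidAlgebra.of_injective (R := R ⧸ m)
    rw [h2, map_one]
  exact (mem_subgp φ).1 ((QuotientGroup.eq_one_iff n).1 h3) hle

theorem surjective_of_aIdeal (h : ∀ n : M, aIdeal φ n = ⊤) : Function.Surjective φ := by
  intro x
  induction x using MonoidAlgebra.induction_linear with
  | zero => exact ⟨0, map_zero φ⟩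
  | add x y hx hy =>
    obtain ⟨c, rfl⟩ := hx
    obtain ⟨d, rfl⟩ := hy
    exact ⟨c + d, map_add φ c d⟩
  | single n r =>
    have : r ∈ aIdeal φ n := by rw [h n]; trivial
    exact this

end Split

variable {R : Type u} [CommRing R] {A : Type u} [CommRing A] [HopfAlgebra R A]
variable {C : Type u} [CommRing C] [HopfAlgebra R C]

theorem surjective_of_family (h : IsMultType R A) (φ : C →ₐc[R] A)
    (H : ∀ (S : Type u) [CommRing S] [Algebra R S] (M : Type u) [CommGroup M]
      (e : S ⊗[R] A ≃ₐc[S] MonoidAlgebra S M),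
      Function.Surjective ((e : S ⊗[R] A →ₐc[S] MonoidAlgebra S M).comp (mapBialg S φ))) :
    Function.Surjective φ := by
  obtain ⟨ι, _, S, _, _, hS, _, hd⟩ := exists_family h
  intro a
  have : a ∈ LinearMap.range (φ : C →ₗ[R] A) := by
    apply hS.mem_range
    intro i
    obtain ⟨M, _, ⟨e⟩⟩ := hd i
    obtain ⟨z, hz⟩ := H (S i) M e (e (1 ⊗ₜ a))
    refine ⟨z, ?_⟩
    exact EquivLike.injective e hz
  exact this

theorem surjective_of_mono (h : IsMultType R A) (φ : C →ₐc[R] A)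
    (hmono : ∀ (T : Type u) [CommRing T] [Algebra R T],
      Function.Injective (fun x : A →ₐ[R] T => x.comp (φ : C →ₐ[R] A))) :
    Function.Surjective φ := by
  apply surjective_of_family h φ
  intro S _ _ M _ e
  apply surjective_of_aIdeal
  apply aIdeal_eq_top
  intro T _ _ x y hxy
  let _ : Algebra R T := ((algebraMap S T).comp (algebraMap R S)).toAlgebra
  have : IsScalarTower R S T := IsScalarTower.of_algebraMap_eq fun _ => rfl
  have hx := hmono T (a₁ := ((x.comp (e : S ⊗[R] A →ₐ[S] MonoidAlgebra S M)).restrictScalars R).comp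
      Algebra.TensorProduct.includeRight)
    (a₂ := ((y.comp (e : S ⊗[R] A →ₐ[S] MonoidAlgebra S M)).restrictScalars R).comp
      Algebra.TensorProduct.includeRight) (by
      ext c
      exact congrArg (fun f : S ⊗[R] C →ₐ[S] T => f (1 ⊗ₜ c)) hxy)
  have h2 : x.comp (e : S ⊗[R] A →ₐ[S] MonoidAlgebra S M) =
      y.comp (e : S ⊗[R] A →ₐ[S] MonoidAlgebra S M) := by
    apply Algebra.TensorProduct.ext
    · ext
    · exact hx
  ext m
  · obtain ⟨z, hz⟩ := EquivLike.surjective e (MonoidAlgebra.single m 1)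
    have := congrArg (fun f : S ⊗[R] A →ₐ[S] T => f z) h2
    change x (e z) = y (e z) at this
    rw [hz] at this
    simpa using this

end K201.Mono
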