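import Groth.Agent.Sga3A.BCIso
import Groth.Agent.Sga3A.MTBasis
import Mathlib.RingTheory.HopfAlgebra.GroupLike
import Mathlib.RingTheory.HopfAlgebra.Quotient

/-!
Hopf algebras over a field spanned by group-like elements are diagonalisable.
-/

set_option autoImplicit false

open TensorProduct SGA3b Coalgebra Bialgebra
open Groth.Agent.Sga3A.BCIso
open Groth.Agent.Sga3A.MTBasis (GBasis)

namespace K201.Field

universe u

theorem isDiag_of_span {K : Type u} [Field K] {B : Type u} [CommRing B] [HopfAlgebra K B]
    (h : Submodule.span K {b : B | IsGroupLikeElem K b} = ⊤) : IsDiag K B := by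
  have hli : LinearIndependent K (fun g : GroupLike K B => (g : B)) := by
    have h1 : LinearIndepOn K id {a : B | IsGroupLikeElem K a} := linearIndepOn_isGroupLikeElem
    have h2 := LinearIndependent.comp h1 (GroupLike.valEquiv : GroupLike K B ≃ _)
      (Equiv.injective _)
    exact h2
  have hr : Set.range (fun g : GroupLike K B => (g : B)) = {b : B | IsGroupLikeElem K b} := by
    ext b
    constructor
    · rintro ⟨g, rfl⟩
      exact g.2
    · intro hb
      exact ⟨⟨b, hb⟩, rfl⟩
  let g : GBasis K B (GroupLike K B) :=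
    { b := Module.Basis.mk hli (by rw [hr, h])
      one := by rw [Module.Basis.mk_apply]; rfl
      mul := fun m n => by
        rw [Module.Basis.mk_apply, Module.Basis.mk_apply, Module.Basis.mk_apply]
        rfl
      gl := fun m => by
        rw [Module.Basis.mk_apply]
        exact m.2 }
  exact ⟨GroupLike K B, inferInstance, ⟨g.bialgEquiv.symm⟩⟩

theorem isDiag_of_surjective {K : Type u} [Field K] {D B : Type u} [CommRing D] [HopfAlgebra K D]
    [CommRing B] [HopfAlgebra K B] (hD : IsDiag K D) (π : D →ₐc[K] B)
    (hπ : Function.Surjective π) : IsDiag K B := by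
  apply isDiag_of_span
  obtain ⟨M, _, ⟨e⟩⟩ := hD
  let g := GBasis.ofBialgEquiv e
  rw [eq_top_iff]
  intro b _
  obtain ⟨d, rfl⟩ := hπ b
  have hd : d ∈ Submodule.span K (Set.range g.b) := by rw [g.b.span_eq]; trivial
  have h1 : π d ∈ (Submodule.span K (Set.range g.b)).map (π : D →ₗ[K] B) := ⟨d, hd, rfl⟩
  rw [Submodule.map_span] at h1
  refine Submodule.span_mono ?_ h1
  rintro _ ⟨_, ⟨m, rfl⟩, rfl⟩
  exact (g.gl m).map π

theorem mapBialg_surjective {R S A B : Type*} [CommRing R] [CommRing S] [Algebra R S] [CommRing A]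
    [CommRing B] [Bialgebra R A] [Bialgebra R B] (π : A →ₐc[R] B) (hπ : Function.Surjective π) :
    Function.Surjective (mapBialg S π) := by
  have := LinearMap.lTensor_surjective (R := R) S (g := (π : A →ₗ[R] B)) hπ
  exact this

end K201.Field
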