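import Groth.Agent.SGA3b.K201.Triv
import Groth.Agent.Sga3A.KernelGlobal
import Groth.Agent.Sga3A.FibSpread
import Groth.Agent.S2973
import Mathlib.RingTheory.Filtration

/-!
Homomorphisms from a group of multiplicative type over a local base which are trivial on the closed fibre.
-/

set_option autoImplicit false

open TensorProduct SGA3b Coalgebra Bialgebra
open Groth.Agent.Sga3A.BCIso Groth.Agent.Sga3A.GLBasic
open Groth.Agent.Sga3A.MultBC Groth.Agent.Sga3A.Rigidity

namespace K201.LocalTriv

universe u

variable {R : Type u} [CommRing R] {A : Type u} [CommRing A] [HopfAlgebra R A]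
variable {C : Type u} [CommRing C] [Bialgebra R C]

theorem fg_ker_counit_of_finiteType [Algebra.FiniteType R C] :
    (RingHom.ker (counitAlgHom R C)).FG := by
  obtain ⟨T, hT⟩ := ‹Algebra.FiniteType R C›.out
  classical
  refine ⟨T.image fun t => t - algebraMap R C (counit t), ?_⟩
  set K := Ideal.span ((T.image fun t => t - algebraMap R C (counit (R := R) t) : Finset C) : Set C)
    with hK
  apply le_antisymm
  · rw [hK, Ideal.span_le]
    intro x hx
    rw [Finset.mem_coe, Finset.mem_image] at hx
    obtain ⟨t, _, rfl⟩ := hx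
    rw [SetLike.mem_coe, RingHom.mem_ker, map_sub, counitAlgHom_apply]
    simp
  · have key : ∀ c : C, c - algebraMap R C (counit (R := R) c) ∈ K := by
      intro c
      have hc : c ∈ Algebra.adjoin R (T : Set C) := by rw [hT]; trivial
      induction hc using Algebra.adjoin_induction with
      | mem x hx =>
        apply Ideal.subset_span
        rw [Finset.mem_coe, Finset.mem_image]
        exact ⟨x, hx, rfl⟩
      | algebraMap r => simp
      | add x y _ _ hx hy =>
        rw [map_add, map_add, add_sub_add_comm]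
        exact K.add_mem hx hy
      | mul x y _ _ hx hy =>
        rw [Bialgebra.counit_mul, map_mul]
        have : x * y - algebraMap R C (counit x) * algebraMap R C (counit y) =
          (x - algebraMap R C (counit x)) * y + algebraMap R C (counit x) *
            (y - algebraMap R C (counit y)) := by ring
        rw [this]
        exact K.add_mem (K.mul_mem_right _ hx) (K.mul_mem_left _ hy)
    intro c hc
    rw [RingHom.mem_ker, counitAlgHom_apply] at hc
    have := key c
    rwa [hc, map_zero, sub_zero] at this

theorem triv_of_fg [IsLocalRing R] (h : IsMultType R A) (φ : C →ₐc[R] A)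
    (hfg : (RingHom.ker (counitAlgHom R C)).FG)
    (hs : ∀ c, counit (R := R) c = 0 → φ c ∈ (IsLocalRing.maximalIdeal R • ⊤ : Submodule R A))
    (c : C) (hc : counit (R := R) c = 0) : φ c = 0 := by
  classical
  obtain ⟨R', _, _, _, hloc, hff, M, _, ⟨e⟩⟩ :=
    IsMultTypeConst.exists_local (IsMultType.const_of_isLocalRing h)
  let φ' : R' ⊗[R] C →ₐc[R'] MonoidAlgebra R' M :=
    (e : R' ⊗[R] A →ₐc[R'] MonoidAlgebra R' M).comp (mapBialg R' φ)
  have hφ' : ∀ c, φ' (1 ⊗ₜ c) = e (1 ⊗ₜ φ c) := fun c => rfl
  have hle : Ideal.map (algebraMap R R') (IsLocalRing.maximalIdeal R) ≤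
      IsLocalRing.maximalIdeal R' :=
    ((IsLocalRing.local_hom_TFAE (algebraMap R R')).out 0 2).mp hloc
  have hfg' : (RingHom.ker (counitAlgHom R' (R' ⊗[R] C))).FG := by
    rw [Groth.Agent.Sga3A.KernelGlobal.ker_counit_baseChange]
    exact hfg.map _
  have h1 : ∀ z : R' ⊗[R] C, counit (R := R') z = 0 → ∀ m,
      (φ' z).coeff m ∈ IsLocalRing.maximalIdeal R' := by
    intro z hz
    rw [← mem_smul_top_iff_coeff]
    refine K201.Triv.ker_counit_induction (φ' : R' ⊗[R] C →ₗ[R'] MonoidAlgebra R' M) _ ?_ z hz
    intro c hc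
    change φ' (1 ⊗ₜ c) ∈ _
    rw [hφ']
    exact Submodule.smul_mono_left hle (map_mem_smul_top
      (e : R' ⊗[R] A →ₗ[R'] MonoidAlgebra R' M) (tmul_mem_smul_top 1 (hs c hc)))
  have h2 := core hfg' φ' h1 (1 ⊗ₜ c) (by rw [counit_one_tmul, hc, map_zero])
  rw [hφ'] at h2
  have h3 : (1 : R') ⊗ₜ[R] φ c = 0 := EquivLike.injective e (by rw [h2, map_zero])
  apply Module.FaithfullyFlat.tensorProduct_mk_injective (A := R) (B := R') A
  rw [TensorProduct.mk_apply, TensorProduct.mk_apply, h3, TensorProduct.tmul_zero]

/-- a group of multiplicative type of finite type over a noetherian local ring is separated for the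
adic topology of the maximal ideal. -/
theorem eq_zero_of_forall_mem_pow [IsLocalRing R] [IsNoetherianRing R] [Algebra.FiniteType R A]
    (h : IsMultType R A) (a : A)
    (ha : ∀ n, a ∈ ((IsLocalRing.maximalIdeal R) ^ n • ⊤ : Submodule R A)) : a = 0 := by
  obtain ⟨R', _, _, _, hff, hd⟩ := Groth.Agent.Sga3A.FibSpread.const_of_isLocalRing R A
    (Groth.Agent.S2973.result R A inferInstance h)
  have hN' : IsNoetherianRing R' := Algebra.FiniteType.isNoetherianRing R R'
  obtain ⟨q, hq, hqm⟩ := Ideal.exists_isPrime_liesOver_of_faithfullyFlat (A := R) (B := R')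
    (IsLocalRing.maximalIdeal R)
  have hl : IsLocalHom (algebraMap R (Localization.AtPrime q)) := by
    constructor
    intro a ha
    by_contra hna
    have h1 : a ∈ IsLocalRing.maximalIdeal R := (IsLocalRing.mem_maximalIdeal a).mpr hna
    have h2 : algebraMap R R' a ∈ q := by
      have := hqm.over
      rw [this] at h1
      exact h1
    rw [IsScalarTower.algebraMap_apply R R' (Localization.AtPrime q),
      IsLocalization.AtPrime.isUnit_to_map_iff (Localization.AtPrime q) q] at ha
    exact ha h2
  have hflat : Module.Flat R (Localization.AtPrime q) :=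
    Module.Flat.trans R R' (Localization.AtPrime q)
  have hff' : Module.FaithfullyFlat R (Localization.AtPrime q) :=
    Module.FaithfullyFlat.of_flat_of_isLocalHom
  have hN : IsNoetherianRing (Localization.AtPrime q) :=
    IsLocalization.isNoetherianRing q.primeCompl _ hN'
  obtain ⟨M, _, ⟨e⟩⟩ := isDiag_tower (IsDiag.baseChange (Localization.AtPrime q) hd)
  have hle : Ideal.map (algebraMap R (Localization.AtPrime q)) (IsLocalRing.maximalIdeal R) ≤
      IsLocalRing.maximalIdeal (Localization.AtPrime q) :=
    ((IsLocalRing.local_hom_TFAE (algebraMap R (Localization.AtPrime q))).out 0 2).mp hl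
  have h3 : (1 : Localization.AtPrime q) ⊗ₜ[R] a = 0 := by
    apply EquivLike.injective e
    rw [map_zero]
    ext m
    have h4 : ∀ n, (e ((1 : Localization.AtPrime q) ⊗ₜ[R] a)).coeff m ∈
        (IsLocalRing.maximalIdeal (Localization.AtPrime q)) ^ n := by
      intro n
      have h5 := map_mem_smul_top (e : Localization.AtPrime q ⊗[R] A →ₗ[Localization.AtPrime q]
        MonoidAlgebra (Localization.AtPrime q) M)
        (tmul_mem_smul_top (S := Localization.AtPrime q) 1 (ha n))
      rw [mem_smul_top_iff_coeff] at h5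
      have h6 := h5 m
      rw [Ideal.map_pow] at h6
      exact Ideal.pow_right_mono hle n h6
    have h7 : (e ((1 : Localization.AtPrime q) ⊗ₜ[R] a)).coeff m ∈
        (⨅ n : ℕ, (IsLocalRing.maximalIdeal (Localization.AtPrime q)) ^ n) := by
      rw [Ideal.mem_iInf]
      exact h4
    rw [Ideal.iInf_pow_eq_bot_of_isLocalRing _ (IsLocalRing.maximalIdeal.isMaximal _).ne_top] at h7
    rw [MonoidAlgebra.coeff_zero]
    exact h7
  apply Module.FaithfullyFlat.tensorProduct_mk_injective (A := R) (B := Localization.AtPrime q) A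
  rw [TensorProduct.mk_apply, TensorProduct.mk_apply, h3, TensorProduct.tmul_zero]

theorem triv_of_noetherian [IsLocalRing R] [IsNoetherianRing R] [Algebra.FiniteType R A]
    (h : IsMultType R A) (φ : C →ₐc[R] A)
    (hs : ∀ c, counit (R := R) c = 0 → φ c ∈ (IsLocalRing.maximalIdeal R • ⊤ : Submodule R A))
    (c : C) (hc : counit (R := R) c = 0) : φ c = 0 :=
  eq_zero_of_forall_mem_pow h _ fun n => K201.Triv.mem_pow' h φ _ hs n c hc

end K201.LocalTriv
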