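import Groth.Agent.Sga3A.FibMain

set_option autoImplicit false

open TensorProduct SGA3b

namespace K201.Isotriv

universe u

theorem isMultType_of_isIsotrivial {A : Type u} [CommRing A] {B : Type u} [CommRing B] [HopfAlgebra A B]
    (h : IsIsotrivial A B) : IsMultType A B := by
  obtain ⟨S, _, _, _, _, hff, hd⟩ := h
  exact Groth.Agent.Sga3A.FibMain.isMultType_of_const ⟨S, _, _, hff, hd⟩

end K201.Isotriv
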