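import Mathlib.RingTheory.Flat.Localization
import Mathlib.RingTheory.Localization.BaseChange
import Mathlib.RingTheory.Localization.AtPrime.Basic
import Mathlib.RingTheory.Ideal.Quotient.Operations
import Mathlib.LinearAlgebra.TensorProduct.Tower

/-!
Flatness modulo a power of an ideal, from flatness at the primes containing the ideal.
-/

set_option autoImplicit false

open TensorProduct

namespace K201.FlatQuot

universe u

theorem lTensor_injective {A : Type*} [CommRing A] {C : Type*} [CommRing C] [Algebra A C] (I : Ideal A)
    (hfl : ∀ (q : Ideal C) [q.IsPrime], Ideal.map (algebraMap A C) I ≤ q →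
      Module.Flat A (Localization.AtPrime q)) {J N : Type*} [AddCommGroup J] [Module A J]
    [AddCommGroup N] [Module A N] (m : ℕ) (hJ : ∀ i ∈ I ^ m, ∀ x : J, i • x = 0)
    (g : J →ₗ[A] N) (hg : Function.Injective g) : Function.Injective (g.lTensor C) := by
  rw [injective_iff_map_eq_zero]
  intro x hx
  by_contra hne
  -- the annihilator of `x` in `C`
  let ann : Ideal C := Ideal.span {c : C | c • x = 0}
  have hann : ∀ c ∈ ann, c • x = 0 := by
    intro c hc
    induction hc using Submodule.span_induction with
    | mem c hc => exact hc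
    | zero => rw [zero_smul]
    | add a b _ _ ha hb => rw [add_smul, ha, hb, add_zero]
    | smul a b _ hb => rw [smul_eq_mul, mul_smul, hb, smul_zero]
  have htop : ann ≠ ⊤ := by
    intro h
    apply hne
    have := hann 1 (by rw [h]; trivial)
    rwa [one_smul] at this
  obtain ⟨q, hq, hle⟩ := Ideal.exists_le_maximal ann htop
  have hqp := hq.isPrime
  have key : ∃ s : C, s ∉ q ∧ s • x = 0 := by
    by_cases hIq : Ideal.map (algebraMap A C) I ≤ q
    · have hflat := hfl q hIq
      let f : C →ₗ[C] Localization.AtPrime q := Algebra.linearMap C (Localization.AtPrime q)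
      have hloc : IsLocalizedModule q.primeCompl f := inferInstance
      let F := AlgebraTensorModule.rTensor A J f
      have h1 : F x = 0 := by
        have h2 : Function.Injective (g.lTensor (Localization.AtPrime q)) :=
          Module.Flat.lTensor_preserves_injective_linearMap g hg
        apply h2
        rw [map_zero]
        have h3 : ∀ y : C ⊗[A] J, g.lTensor (Localization.AtPrime q) (F y) =
            AlgebraTensorModule.rTensor A N f (g.lTensor C y) := by
          intro y
          induction y using TensorProduct.induction_on with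
          | zero => simp only [map_zero]
          | tmul c j => rfl
          | add a b ha hb => simp only [map_add, ha, hb]
        rw [h3, hx, map_zero]
      obtain ⟨s, hs⟩ := (IsLocalizedModule.eq_zero_iff q.primeCompl F).1 h1
      exact ⟨s.1, s.2, hs⟩
    · rw [Ideal.map_le_iff_le_comap, SetLike.not_le_iff_exists] at hIq
      obtain ⟨i, hi, hiq⟩ := hIq
      refine ⟨(algebraMap A C i) ^ m, fun h => hiq (hqp.mem_of_pow_mem m h), ?_⟩
      rw [← map_pow, algebraMap_smul]
      clear hx hne hann htop hle
      induction x using TensorProduct.induction_on with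
      | zero => rw [smul_zero]
      | tmul c j => rw [← TensorProduct.tmul_smul, hJ _ (Ideal.pow_mem_pow hi m), TensorProduct.tmul_zero]
      | add a b ha hb => rw [smul_add, ha, hb, add_zero]
  obtain ⟨s, hs, hsx⟩ := key
  exact hs (hle (Ideal.subset_span hsx))

/-- flatness of `(A ⧸ K) ⊗ C` for `I ^ m ≤ K`, if `C` is flat at the primes containing `I`. -/
theorem flat_quot {A : Type u} [CommRing A] {C : Type u} [CommRing C] [Algebra A C] (I : Ideal A)
    (hfl : ∀ (q : Ideal C) [q.IsPrime], Ideal.map (algebraMap A C) I ≤ q →
      Module.Flat A (Localization.AtPrime q)) (K : Ideal A) (m : ℕ) (hm : I ^ m ≤ K) :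
    Module.Flat (A ⧸ K) ((A ⧸ K) ⊗[A] C) := by
  rw [Module.Flat.iff_rTensor_injectiveₛ]
  intro P _ _ N
  let _ : AddCommGroup P := Module.addCommMonoidToAddCommGroup (A ⧸ K)
  let _ : Module A P := Module.compHom P (algebraMap A (A ⧸ K))
  have : IsScalarTower A (A ⧸ K) P := ⟨fun a b x => by
    rw [Algebra.smul_def, mul_smul]; rfl⟩
  have hinj : Function.Injective ((N.subtype.restrictScalars A).lTensor C) :=
    lTensor_injective I hfl m (by
      intro i hi x
      rw [← algebraMap_smul (A ⧸ K) i x]
      have : algebraMap A (A ⧸ K) i = 0 := Ideal.Quotient.eq_zero_iff_mem.2 (hm hi)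
      rw [this, zero_smul]) (N.subtype.restrictScalars A) N.subtype_injective
  let e1 : N ⊗[A ⧸ K] ((A ⧸ K) ⊗[A] C) ≃ₗ[A ⧸ K] N ⊗[A] C :=
    AlgebraTensorModule.cancelBaseChange A (A ⧸ K) (A ⧸ K) N C
  let e2 : P ⊗[A ⧸ K] ((A ⧸ K) ⊗[A] C) ≃ₗ[A ⧸ K] P ⊗[A] C :=
    AlgebraTensorModule.cancelBaseChange A (A ⧸ K) (A ⧸ K) P C
  have hcomm : ∀ x, TensorProduct.comm A P C (e2 (N.subtype.rTensor ((A ⧸ K) ⊗[A] C) x)) =
      (N.subtype.restrictScalars A).lTensor C (TensorProduct.comm A N C (e1 x)) := by
    intro x
    induction x using TensorProduct.induction_on with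
    | zero => simp only [map_zero]
    | tmul n y =>
      induction y using TensorProduct.induction_on with
      | zero => simp only [TensorProduct.tmul_zero, map_zero]
      | tmul a c => simp [e1, e2]
      | add a b ha hb => simp only [TensorProduct.tmul_add, map_add, ha, hb]
    | add a b ha hb => simp only [map_add, ha, hb]
  intro x y hxy
  apply e1.injective
  apply (TensorProduct.comm A N C).injective
  apply hinj
  rw [← hcomm, ← hcomm, hxy]

end K201.FlatQuot
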