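import Groth.Agent.SGA3b.K201.HomBC
import Groth.Agent.Sga3A.LiftGL
import Groth.Agent.Sga3A.GLHom
import Groth.Agent.Sga3A.NilDescent

/-!
Homomorphisms between groups of multiplicative type lift uniquely along surjections with nil kernel.
-/

set_option autoImplicit false

open TensorProduct SGA3b Coalgebra Bialgebra
open Groth.Agent.Sga3A.BCIso Groth.Agent.Sga3A.GLBasic Groth.Agent.Sga3A.GLLift
open Groth.Agent.Sga3A.GLHom Groth.Agent.Sga3A.MTFamily
open K201.HomBC

namespace K201.NilHom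

universe u

section

variable {R : Type u} [CommRing R] {C B : Type u} [CommRing C] [Bialgebra R C] [CommRing B]
  [Bialgebra R B]
variable {S S₀ : Type u} [CommRing S] [CommRing S₀] [Algebra R S] [Algebra R S₀] (π : S →ₐ[R] S₀)

/-- the inverse of `S ⧸ ker π → S₀` -/
theorem exists_inv (hs : Function.Surjective π) :
    ∃ f : S₀ →ₐ[R] (S ⧸ RingHom.ker π), ∀ s, f (π s) = Ideal.Quotient.mk _ s := by
  let e := Ideal.quotientKerAlgEquivOfSurjective hs
  refine ⟨e.symm.toAlgHom, fun s => ?_⟩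
  change e.symm (π s) = _
  rw [AlgEquiv.symm_apply_eq]
  rfl

theorem cancel_mk (x : S ⊗[R] B) (J : Ideal S) :
    cancelBialg R S (S ⧸ J) B (1 ⊗ₜ x) = mapL B (Ideal.Quotient.mkₐ R J) x := by
  induction x using TensorProduct.induction_on with
  | zero => simp only [TensorProduct.tmul_zero, map_zero]
  | tmul s a =>
    rw [cancelBialg_tmul, one_mul]
    rfl
  | add x y hx hy => simp only [TensorProduct.tmul_add, map_add, hx, hy]

theorem sub_mem_of_mapL_eq (hs : Function.Surjective π) {x y : S ⊗[R] B}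
    (h : mapL B π x = mapL B π y) : x - y ∈ (RingHom.ker π • ⊤ : Submodule S (S ⊗[R] B)) := by
  obtain ⟨f, hf⟩ := exists_inv π hs
  have hf' : f.comp π = Ideal.Quotient.mkₐ R (RingHom.ker π) := AlgHom.ext hf
  rw [← one_tmul_eq_iff]
  apply EquivLike.injective (cancelBialg R S (S ⧸ RingHom.ker π) B)
  rw [cancel_mk, cancel_mk, ← hf', ← mapL_comp, ← mapL_comp, h]

theorem mapL_eq_of_sub_mem {x y : S ⊗[R] B}
    (h : x - y ∈ (RingHom.ker π • ⊤ : Submodule S (S ⊗[R] B))) : mapL B π x = mapL B π y := by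
  rw [← sub_eq_zero, ← map_sub]
  generalize x - y = w at h
  induction h using Submodule.smul_induction_on' with
  | smul r hr z _ => rw [mapL_smul, (RingHom.mem_ker.1 hr : π r = 0), zero_smul]
  | add a _ b _ ha hb => rw [map_add, ha, hb, add_zero]

/-- group-like elements lift along surjections with nil kernel -/
theorem gl_lift (hs : Function.Surjective π) (hn : ∀ x, π x = 0 → IsNilpotent x)
    (hE : GLExist S (S ⊗[R] B)) {x₀ : S₀ ⊗[R] B} (hx₀ : IsGroupLikeElem S₀ x₀) :
    ∃ x : S ⊗[R] B, IsGroupLikeElem S x ∧ mapL B π x = x₀ := by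
  obtain ⟨f, hf⟩ := exists_inv π hs
  have hf' : f.comp π = Ideal.Quotient.mkₐ R (RingHom.ker π) := AlgHom.ext hf
  have h1 := isGroupLikeElem_map_id f hx₀
  have h2 := h1.map (cancelBialg R S (S ⧸ RingHom.ker π) B).symm
  obtain ⟨x, hx, hx1⟩ := lift_quot hE (J := RingHom.ker π) (fun x hx => hn x hx) h2
  refine ⟨x, hx, ?_⟩
  have hfinj : Function.Injective f := by
    intro a b hab
    obtain ⟨s, rfl⟩ := hs a
    obtain ⟨t, rfl⟩ := hs b
    rw [hf, hf, Ideal.Quotient.mk_eq_mk_iff_sub_mem, RingHom.mem_ker, map_sub, sub_eq_zero] at hab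
    exact hab
  have hfsurj : Function.Surjective f := by
    intro y
    obtain ⟨s, rfl⟩ := Ideal.Quotient.mk_surjective y
    exact ⟨π s, hf s⟩
  let e : S₀ ≃ₐ[R] (S ⧸ RingHom.ker π) := AlgEquiv.ofBijective f ⟨hfinj, hfsurj⟩
  have h3 : mapL B f (mapL B π x) = mapL B f x₀ := by
    rw [mapL_comp, hf', ← cancel_mk, hx1]
    exact (cancelBialg R S (S ⧸ RingHom.ker π) B).apply_symm_apply _
  have h4 : ∀ z : S₀ ⊗[R] B, mapL B e.symm.toAlgHom (mapL B f z) = z := by
    intro z
    rw [mapL_comp]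
    have : e.symm.toAlgHom.comp f = AlgHom.id R S₀ := by
      ext z
      exact e.symm_apply_apply z
    rw [this]
    simp [mapL]
  rw [← h4 (mapL B π x), h3, h4]

theorem gl_uniq (hs : Function.Surjective π) (hn : ∀ x, π x = 0 → IsNilpotent x)
    (hU : GLUniq S (S ⊗[R] B)) {x y : S ⊗[R] B} (hx : IsGroupLikeElem S x) (hy : IsGroupLikeElem S y)
    (h : mapL B π x = mapL B π y) : x = y :=
  hU (RingHom.ker π) (fun x hx => hn x hx) x y hx hy (sub_mem_of_mapL_eq π hs h)

/-- a bialgebra map out of a split bialgebra is determined by the values on the characters -/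
theorem hom_ext_split {N : Type*} [CommMonoid N] (e : S ⊗[R] C ≃ₐc[S] MonoidAlgebra S N)
    {P : Type*} [AddCommMonoid P] (F G : S ⊗[R] C → P)
    (hF : ∀ x y, F (x + y) = F x + F y) (hG : ∀ x y, G (x + y) = G x + G y)
    (hF0 : F 0 = 0) (hG0 : G 0 = 0)
    (h : ∀ (r : S) (n : N), F (r • e.symm (MonoidAlgebra.single n 1)) =
      G (r • e.symm (MonoidAlgebra.single n 1))) (x : S ⊗[R] C) : F x = G x := by
  obtain ⟨z, rfl⟩ := EquivLike.surjective e.symm x
  induction z using MonoidAlgebra.induction_linear with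
  | zero => rw [map_zero, hF0, hG0]
  | add x y hx hy => rw [map_add, hF, hG, hx, hy]
  | single n r =>
    have : (MonoidAlgebra.single n r : MonoidAlgebra S N) = r • MonoidAlgebra.single n 1 := by simp
    rw [this, map_smul]
    exact h r n

theorem uniq_split (hs : Function.Surjective π) (hn : ∀ x, π x = 0 → IsNilpotent x)
    (hU : GLUniq S (S ⊗[R] B)) {N : Type*} [CommMonoid N] (e : S ⊗[R] C ≃ₐc[S] MonoidAlgebra S N)
    (ψ ψ' : S ⊗[R] C →ₐc[S] S ⊗[R] B) (h : bcHom π ψ = bcHom π ψ') : ψ = ψ' := by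
  apply DFunLike.ext
  apply hom_ext_split e ψ ψ' (map_add ψ) (map_add ψ') (map_zero ψ) (map_zero ψ')
  intro r n
  rw [map_smul, map_smul]
  congr 1
  have h0 : IsGroupLikeElem S (e.symm (MonoidAlgebra.single n 1)) :=
    (MonoidAlgebra.isGroupLikeElem_single_one n).map e.symm
  apply gl_uniq π hs hn hU (h0.map ψ) (h0.map ψ')
  rw [← bcHom_map, ← bcHom_map, h]

theorem exists_split (hs : Function.Surjective π) (hn : ∀ x, π x = 0 → IsNilpotent x)
    (hE : GLExist S (S ⊗[R] B)) (hU : GLUniq S (S ⊗[R] B)) {N : Type*} [CommMonoid N]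
    (e : S ⊗[R] C ≃ₐc[S] MonoidAlgebra S N) (ψ₀ : S₀ ⊗[R] C →ₐc[S₀] S₀ ⊗[R] B) :
    ∃ ψ : S ⊗[R] C →ₐc[S] S ⊗[R] B, bcHom π ψ = ψ₀ := by
  have h0 : ∀ n, IsGroupLikeElem S (e.symm (MonoidAlgebra.single n 1)) := fun n =>
    (MonoidAlgebra.isGroupLikeElem_single_one n).map e.symm
  have h1 : ∀ n, IsGroupLikeElem S₀ (ψ₀ (mapL C π (e.symm (MonoidAlgebra.single n 1)))) :=
    fun n => (isGroupLikeElem_map_id π (h0 n)).map ψ₀
  choose G hG1 hG2 using fun n => gl_lift π hs hn hE (h1 n)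
  let G' : N →* S ⊗[R] B :=
    { toFun := G
      map_one' := by
        apply gl_uniq π hs hn hU (hG1 1) .one
        rw [hG2, map_one, ← MonoidAlgebra.one_def, map_one, map_one, map_one]
      map_mul' := by
        intro m n
        apply gl_uniq π hs hn hU (hG1 _) ((hG1 _).mul (hG1 _))
        rw [hG2, map_mul, hG2, hG2, ← map_mul, ← map_mul, ← map_mul,
          MonoidAlgebra.single_mul_single, mul_one] }
  let ψ : S ⊗[R] C →ₐc[S] S ⊗[R] B := (liftMA G' hG1).comp (e : S ⊗[R] C →ₐc[S] MonoidAlgebra S N)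
  have hψ : ∀ n, ψ (e.symm (MonoidAlgebra.single n 1)) = G n := by
    intro n
    change liftMA G' hG1 (e (e.symm (MonoidAlgebra.single n 1))) = G n
    have : e (e.symm (MonoidAlgebra.single n 1)) = MonoidAlgebra.single n 1 := e.apply_symm_apply _
    rw [this, liftMA_single, one_smul]
    rfl
  refine ⟨ψ, ?_⟩
  have key : ∀ x, mapL B π (ψ x) = ψ₀ (mapL C π x) := by
    apply hom_ext_split e (fun x => mapL B π (ψ x)) (fun x => ψ₀ (mapL C π x))
    · intro x y; simp only [map_add]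
    · intro x y; simp only [map_add]
    · simp only [map_zero]
    · simp only [map_zero]
    · intro r n
      rw [map_smul, mapL_smul, hψ, mapL_smul, map_smul, hG2]
  apply hom_ext
  intro c
  rw [← mapL_one_tmul π c, bcHom_map, key]

end

section

variable {R : Type u} [CommRing R] {C B : Type u} [CommRing C] [HopfAlgebra R C] [CommRing B]
  [HopfAlgebra R B]

theorem glUniq_bc (hB : IsMultType R B) (S : Type u) [CommRing S] [Algebra R S] :
    GLUniq S (S ⊗[R] B) :=
  glUniq_of_isMultType (Groth.Agent.Sga3A.NilDescent.isMultType_baseChange S hB)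

theorem glExist_bc (hB : IsMultType R B) (S : Type u) [CommRing S] [Algebra R S] :
    GLExist S (S ⊗[R] B) :=
  glExist_of_isMultType (Groth.Agent.Sga3A.NilDescent.isMultType_baseChange S hB)

variable (T : Type u) [CommRing T] [Algebra R T]

theorem nil_includeRight (hs : Function.Surjective (algebraMap R T))
    (hn : ∀ x, algebraMap R T x = 0 → IsNilpotent x) (S : Type u) [CommRing S] [Algebra R S] (x : S)
    (hx : (Algebra.TensorProduct.includeRight : S →ₐ[R] T ⊗[R] S) x = 0) : IsNilpotent x := by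
  have h1 : (1 : T) ⊗ₜ[R] x = 0 := hx
  rw [Groth.Agent.Sga3A.LiftGL.one_tmul_eq_zero_iff hs, Ideal.smul_top_eq_map] at h1
  exact isNilpotent_of_mem_map (S := S) (I := RingHom.ker (algebraMap R T)) (fun x hx => hn x hx) x h1

theorem surj_includeRight (hs : Function.Surjective (algebraMap R T))
    (S : Type u) [CommRing S] [Algebra R S] :
    Function.Surjective (Algebra.TensorProduct.includeRight : S →ₐ[R] T ⊗[R] S) := by
  intro x
  induction x using TensorProduct.induction_on with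
  | zero => exact ⟨0, map_zero _⟩
  | tmul t s =>
    obtain ⟨r, rfl⟩ := hs t
    refine ⟨r • s, ?_⟩
    change (1 : T) ⊗ₜ[R] (r • s) = _
    rw [← TensorProduct.smul_tmul, Algebra.algebraMap_eq_smul_one]
  | add x y hx hy =>
    obtain ⟨a, ha⟩ := hx
    obtain ⟨b, hb⟩ := hy
    exact ⟨a + b, by rw [map_add, ha, hb]⟩

/-- Homomorphisms between groups of multiplicative type lift along surjections with nil kernel. -/
theorem exists_lift (hB : IsMultType R B) (hC : IsMultType R C)
    (hs : Function.Surjective (algebraMap R T)) (hn : ∀ x, algebraMap R T x = 0 → IsNilpotent x)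
    (φ₀ : T ⊗[R] C →ₐc[T] T ⊗[R] B) :
    ∃ φ : C →ₐc[R] B, ∀ c, φ₀ (1 ⊗ₜ c) = 1 ⊗ₜ φ c := by
  obtain ⟨ι, _, S, _, _, hS, _, hd⟩ := exists_family hC
  let inT : ∀ (S' : Type u) [CommRing S'] [Algebra R S'], T →ₐ[R] T ⊗[R] S' :=
    fun S' _ _ => Algebra.TensorProduct.includeLeft
  let pr : ∀ (S' : Type u) [CommRing S'] [Algebra R S'], S' →ₐ[R] T ⊗[R] S' :=
    fun S' _ _ => Algebra.TensorProduct.includeRight
  have hψ : ∀ i, ∃ ψ : S i ⊗[R] C →ₐc[S i] S i ⊗[R] B, bcHom (pr (S i)) ψ = bcHom (inT (S i)) φ₀ := by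
    intro i
    obtain ⟨N, _, ⟨e⟩⟩ := hd i
    exact exists_split (pr (S i)) (surj_includeRight T hs (S i)) (nil_includeRight T hs hn (S i))
      (glExist_bc hB (S i)) (glUniq_bc hB (S i)) e _
  choose ψ hψ using hψ
  obtain ⟨φ, hφ⟩ := exists_descent hS ψ (by
    intro i j
    have hd2 : IsDiag (S i ⊗[R] S j) ((S i ⊗[R] S j) ⊗[R] C) := isDiag_of_tower (S i) _ (hd i)
    obtain ⟨N, _, ⟨e⟩⟩ := hd2
    apply uniq_split (pr (S i ⊗[R] S j)) (surj_includeRight T hs _) (nil_includeRight T hs hn _)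
      (glUniq_bc hB _) e
    have c1 : (pr (S i ⊗[R] S j)).comp (Algebra.TensorProduct.includeLeft : S i →ₐ[R] S i ⊗[R] S j) =
        (Algebra.TensorProduct.map (AlgHom.id R T)
          (Algebra.TensorProduct.includeLeft : S i →ₐ[R] S i ⊗[R] S j)).comp (pr (S i)) := by
      ext x; simp [pr]
    have c2 : (pr (S i ⊗[R] S j)).comp (Algebra.TensorProduct.includeRight : S j →ₐ[R] S i ⊗[R] S j) =
        (Algebra.TensorProduct.map (AlgHom.id R T)
          (Algebra.TensorProduct.includeRight : S j →ₐ[R] S i ⊗[R] S j)).comp (pr (S j)) := by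
      ext x; simp [pr]
    rw [bcHom_comp, bcHom_comp, c1, c2, ← bcHom_comp, ← bcHom_comp, hψ, hψ, bcHom_comp, bcHom_comp]
    congr 1)
  refine ⟨φ, fun c => ?_⟩
  rw [← sub_eq_zero]
  -- check after the base changes `T ⊗ B → S i ⊗ (T ⊗ B)`
  have hST : JointlyPure R S := hS
  apply hS
  intro i
  have h1 := congrArg (fun F : (T ⊗[R] S i) ⊗[R] C →ₐc[T ⊗[R] S i] (T ⊗[R] S i) ⊗[R] B => F (1 ⊗ₜ c)) (hψ i)
  simp only [bcHom_one_tmul] at h1
  rw [← hφ, mapL_one_tmul] at h1
  have h2 : ∀ z : T ⊗[R] B, (TensorProduct.leftComm R (S i) T B) ((1 : S i) ⊗ₜ[R] z) =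
      TensorProduct.assoc R T (S i) B (mapL B (inT (S i)) z) := by
    intro z
    induction z using TensorProduct.induction_on with
    | zero => simp only [TensorProduct.tmul_zero, map_zero]
    | tmul s a => simp [inT, mapL]
    | add a b ha hb => simp only [map_add, TensorProduct.tmul_add, ha, hb]
  apply (TensorProduct.leftComm R (S i) T B).injective
  rw [h2, map_sub, map_sub, ← h1, map_zero, mapL_one_tmul, sub_self]

theorem hom_uniq (hB : IsMultType R B) (hC : IsMultType R C)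
    (hs : Function.Surjective (algebraMap R T)) (hn : ∀ x, algebraMap R T x = 0 → IsNilpotent x)
    (φ ψ : C →ₐc[R] B) (h : ∀ c, (1 : T) ⊗ₜ[R] φ c = (1 : T) ⊗ₜ[R] ψ c) : φ = ψ := by
  obtain ⟨ι, _, S, _, _, hS, _, hd⟩ := exists_family hC
  ext c
  rw [← sub_eq_zero]
  apply hS
  intro i
  obtain ⟨N, _, ⟨e⟩⟩ := hd i
  have h1 : mapBialg (S i) φ = mapBialg (S i) ψ := by
    apply uniq_split (Algebra.TensorProduct.includeRight : S i →ₐ[R] T ⊗[R] S i)
      (surj_includeRight T hs _) (nil_includeRight T hs hn _) (glUniq_bc hB _) e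
    apply hom_ext
    intro c
    rw [bcHom_one_tmul, bcHom_one_tmul, mapBialg_tmul, mapBialg_tmul, mapL_one_tmul, mapL_one_tmul]
    have h2 := congrArg (mapL B (Algebra.TensorProduct.includeLeft : T →ₐ[R] T ⊗[R] S i)) (h c)
    rwa [mapL_one_tmul, mapL_one_tmul] at h2
  have h2 := congrArg (fun F : S i ⊗[R] C →ₐc[S i] S i ⊗[R] B => F (1 ⊗ₜ c)) h1
  simp only [mapBialg_tmul] at h2
  rw [TensorProduct.tmul_sub, sub_eq_zero]
  exact h2

end

end K201.NilHom
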