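import Groth.Agent.Sga3A.NilDescent
import Groth.Agent.Sga3A.BCIso
import Groth.Agent.Sga3A.MTBasis

/-!
Base change of quasi-isotrivial and isotrivial groups.
-/

set_option autoImplicit false

open TensorProduct SGA3b
open Groth.Agent.Sga3A.BCIso Groth.Agent.Sga3A.NilDescent Groth.Agent.Sga3A.MultBC

namespace K201.QIBC

universe u

variable {R : Type u} [CommRing R] {A : Type u} [CommRing A] [HopfAlgebra R A]

theorem isQuasiIsotrivial_baseChange (S : Type u) [CommRing S] [Algebra R S] (h : IsQuasiIsotrivial R A) :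
    IsQuasiIsotrivial S (S ⊗[R] A) := by
  obtain ⟨s, hs, H⟩ := h
  refine ⟨algebraMap R S '' s, ?_, ?_⟩
  · rw [← Ideal.map_span, hs, Ideal.map_top]
  · rintro _ ⟨f, hf, rfl⟩
    obtain ⟨R', _, _, het, hff, hd⟩ := H f hf
    have hu : IsUnit ((algebraMap S (Localization.Away (algebraMap R S f))).comp (algebraMap R S) f) :=
      IsLocalization.Away.algebraMap_isUnit (S := Localization.Away (algebraMap R S f)) (algebraMap R S f)
    let : Algebra (Localization.Away f) (Localization.Away (algebraMap R S f)) :=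
      (IsLocalization.Away.lift (S := Localization.Away f) f hu).toAlgebra
    have : IsScalarTower R (Localization.Away f) (Localization.Away (algebraMap R S f)) := by
      refine IsScalarTower.of_algebraMap_eq fun r => ?_
      change _ = IsLocalization.Away.lift (S := Localization.Away f) f hu (algebraMap R _ r)
      rw [IsLocalization.Away.lift_eq]
      rfl
    let : Algebra R R' := ((algebraMap (Localization.Away f) R').comp
      (algebraMap R (Localization.Away f))).toAlgebra
    have : IsScalarTower R (Localization.Away f) R' := IsScalarTower.of_algebraMap_eq (fun _ => rfl)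
    refine ⟨Localization.Away (algebraMap R S f) ⊗[Localization.Away f] R', inferInstance, inferInstance,
      inferInstance, inferInstance, ?_⟩
    have h1 : IsDiag R' (R' ⊗[R] A) := isDiag_tower hd
    let φ : R' →ₐ[R] (Localization.Away (algebraMap R S f) ⊗[Localization.Away f] R') :=
      (Algebra.TensorProduct.includeRight : R' →ₐ[Localization.Away f] _).restrictScalars R
    have h2 := isDiag_of_algHom φ h1
    exact isDiag_tower' (isDiag_tower' h2)

theorem isQuasiIsotrivialConst_congr {B : Type u} [CommRing B] [HopfAlgebra R B] (e : A ≃ₐc[R] B)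
    (h : IsQuasiIsotrivialConst R A) : IsQuasiIsotrivialConst R B := by
  obtain ⟨R', i1, i2, het, hff, hd⟩ := h
  exact ⟨R', i1, i2, het, hff, isDiag_congr (congrBialg R' e) hd⟩

theorem isQuasiIsotrivial_congr {B : Type u} [CommRing B] [HopfAlgebra R B] (e : A ≃ₐc[R] B)
    (h : IsQuasiIsotrivial R A) : IsQuasiIsotrivial R B := by
  obtain ⟨s, hs, H⟩ := h
  exact ⟨s, hs, fun f hf => isQuasiIsotrivialConst_congr (congrBialg _ e) (H f hf)⟩

theorem isIsotrivial_congr {B : Type u} [CommRing B] [HopfAlgebra R B] (e : A ≃ₐc[R] B)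
    (h : IsIsotrivial R A) : IsIsotrivial R B := by
  obtain ⟨R', i1, i2, het, hfin, hff, hd⟩ := h
  exact ⟨R', i1, i2, het, hfin, hff, isDiag_congr (congrBialg R' e) hd⟩

theorem isMultType_congr {B : Type u} [CommRing B] [HopfAlgebra R B] (e : A ≃ₐc[R] B)
    (h : IsMultType R A) : IsMultType R B := by
  obtain ⟨s, hs, H⟩ := h
  refine ⟨s, hs, fun f hf => ?_⟩
  obtain ⟨R', i1, i2, hff, hd⟩ := H f hf
  exact ⟨R', i1, i2, hff, isDiag_congr (congrBialg R' (congrBialg _ e)) hd⟩

theorem isIsotrivial_baseChange (S : Type u) [CommRing S] [Algebra R S] (h : IsIsotrivial R A) :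
    IsIsotrivial S (S ⊗[R] A) := by
  obtain ⟨R', i1, i2, het, hfin, hff, hd⟩ := h
  refine ⟨S ⊗[R] R', inferInstance, inferInstance, inferInstance, inferInstance, inferInstance, ?_⟩
  have h2 := isDiag_of_algHom (Algebra.TensorProduct.includeRight : R' →ₐ[R] S ⊗[R] R') hd
  exact isDiag_tower' h2

/-- quasi-isotriviality over a ring `T` in terms of a tower `R → S → T`. -/
theorem isQuasiIsotrivial_tower {S T : Type u} [CommRing S] [CommRing T] [Algebra R S] [Algebra S T]
    [Algebra R T] [IsScalarTower R S T] :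
    IsQuasiIsotrivial T (T ⊗[S] (S ⊗[R] A)) ↔ IsQuasiIsotrivial T (T ⊗[R] A) :=
  ⟨isQuasiIsotrivial_congr (cancelBialg R S T A), isQuasiIsotrivial_congr (cancelBialg R S T A).symm⟩

/-- base change of a quasi-isotrivial group along a map of `R`-algebras -/
theorem isQuasiIsotrivial_of_algHom {S T : Type u} [CommRing S] [CommRing T] [Algebra R S] [Algebra R T]
    (φ : S →ₐ[R] T) (h : IsQuasiIsotrivial S (S ⊗[R] A)) : IsQuasiIsotrivial T (T ⊗[R] A) := by
  let : Algebra S T := φ.toRingHom.toAlgebra
  have : IsScalarTower R S T := IsScalarTower.of_algebraMap_eq fun r => (φ.commutes r).symm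
  exact isQuasiIsotrivial_tower.1 (isQuasiIsotrivial_baseChange T h)

theorem isIsotrivial_tower {S T : Type u} [CommRing S] [CommRing T] [Algebra R S] [Algebra S T]
    [Algebra R T] [IsScalarTower R S T] :
    IsIsotrivial T (T ⊗[S] (S ⊗[R] A)) ↔ IsIsotrivial T (T ⊗[R] A) :=
  ⟨isIsotrivial_congr (cancelBialg R S T A), isIsotrivial_congr (cancelBialg R S T A).symm⟩

theorem isIsotrivial_of_algHom {S T : Type u} [CommRing S] [CommRing T] [Algebra R S] [Algebra R T]
    (φ : S →ₐ[R] T) (h : IsIsotrivial S (S ⊗[R] A)) : IsIsotrivial T (T ⊗[R] A) := by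
  let : Algebra S T := φ.toRingHom.toAlgebra
  have : IsScalarTower R S T := IsScalarTower.of_algebraMap_eq fun r => (φ.commutes r).symm
  exact isIsotrivial_tower.1 (isIsotrivial_baseChange T h)

end K201.QIBC
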