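import Groth.Agent.SGA3b.K201.HomMod
import Groth.Agent.SGA3b.K201.NilHom
import Groth.Agent.SGA3b.K201.FlatQuot
import Groth.Agent.SGA3b.K201.QIBC
import Groth.Agent.S2987
import Groth.Agent.Sga3A.FibSpread

/-!
Lifting of homomorphisms between groups of multiplicative type, in terms of maps modulo an ideal.
-/

set_option autoImplicit false

open TensorProduct SGA3b Coalgebra Bialgebra
open Groth.Agent.Sga3A.BCIso Groth.Agent.Sga3A.GLBasic Groth.Agent.Sga3A.GLHom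
open K201.Algebraize K201.HomMod

namespace K201.MultLift

universe u

variable {R : Type u} [CommRing R] {C B : Type u} [CommRing C] [HopfAlgebra R C] [CommRing B]
  [HopfAlgebra R B]

theorem exists_lift_mult {K K' : Ideal R} (hle : K' ≤ K) (m : ℕ) (hm : K ^ m ≤ K')
    (hB : IsMultType (R ⧸ K') ((R ⧸ K') ⊗[R] B)) (hC : IsMultType (R ⧸ K') ((R ⧸ K') ⊗[R] C))
    {f : C → B} (hf : IsHomMod K f) :
    ∃ f' : C → B, IsHomMod K' f' ∧ ∀ c, f' c - f c ∈ (K • ⊤ : Submodule R B) := by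
  obtain ⟨φ, hφ⟩ := exists_bialgHom hf
  let _ : Algebra (R ⧸ K') (R ⧸ K) := (Ideal.Quotient.factor hle).toAlgebra
  have : IsScalarTower R (R ⧸ K') (R ⧸ K) := IsScalarTower.of_algebraMap_eq fun _ => rfl
  let φ' : (R ⧸ K) ⊗[R ⧸ K'] ((R ⧸ K') ⊗[R] C) →ₐc[R ⧸ K] (R ⧸ K) ⊗[R ⧸ K'] ((R ⧸ K') ⊗[R] B) :=
    (((cancelBialg R (R ⧸ K') (R ⧸ K) B).symm : _ →ₐc[R ⧸ K] _).comp φ).comp
      (cancelBialg R (R ⧸ K') (R ⧸ K) C : _ →ₐc[R ⧸ K] _)
  have hs : Function.Surjective (algebraMap (R ⧸ K') (R ⧸ K)) := Ideal.Quotient.factor_surjective hle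
  have hn : ∀ x, algebraMap (R ⧸ K') (R ⧸ K) x = 0 → IsNilpotent x := by
    intro x hx
    obtain ⟨x, rfl⟩ := Ideal.Quotient.mk_surjective x
    have hx' : x ∈ K := Ideal.Quotient.eq_zero_iff_mem.1 hx
    refine ⟨m, ?_⟩
    rw [← map_pow]
    exact Ideal.Quotient.eq_zero_iff_mem.2 (hm (Ideal.pow_mem_pow hx' m))
  obtain ⟨ψ, hψ⟩ := K201.NilHom.exists_lift (R ⧸ K) hB hC hs hn φ'
  obtain ⟨f', hf', hψf⟩ := exists_rep ψ
  refine ⟨f', hf', fun c => ?_⟩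
  rw [← one_tmul_eq_iff, ← hφ]
  have h1 := hψ (1 ⊗ₜ c)
  rw [hψf] at h1
  have h2 : φ' (1 ⊗ₜ (1 ⊗ₜ c)) = (cancelBialg R (R ⧸ K') (R ⧸ K) B).symm (φ (1 ⊗ₜ c)) := by
    change (cancelBialg R (R ⧸ K') (R ⧸ K) B).symm (φ ((cancelBialg R (R ⧸ K') (R ⧸ K) C) (1 ⊗ₜ (1 ⊗ₜ c)))) = _
    rw [cancelBialg_tmul, map_one, one_mul]
  rw [h2] at h1
  have h3 := congrArg (cancelBialg R (R ⧸ K') (R ⧸ K) B) h1
  rw [cancelBialg_tmul, map_one, one_mul] at h3
  rw [← h3]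
  exact (cancelBialg R (R ⧸ K') (R ⧸ K) B).apply_symm_apply _

/-- `C` modulo a power of `I` is of multiplicative type, if it is so modulo `I` and flat along `V(I)`. -/
theorem isMultType_quot_pow (I : Ideal R)
    (hfl : ∀ (q : Ideal C) [q.IsPrime], Ideal.map (algebraMap R C) I ≤ q →
      Module.Flat R (Localization.AtPrime q))
    (h0 : IsQuasiIsotrivial (R ⧸ I) ((R ⧸ I) ⊗[R] C)) (K : Ideal R) (m : ℕ) (hm : I ^ m ≤ K) :
    IsMultType (R ⧸ K) ((R ⧸ K) ⊗[R] C) := by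
  have hflat := K201.FlatQuot.flat_quot I hfl K m hm
  apply Groth.Agent.Sga3A.FibSpread.isMultType_of_isQuasiIsotrivial
  let J := I.map (Ideal.Quotient.mk K)
  apply Groth.Agent.S2987.result (R ⧸ K) ((R ⧸ K) ⊗[R] C) J
  · refine ⟨m, ?_⟩
    rw [← Ideal.map_pow, Ideal.zero_eq_bot, Ideal.map_eq_bot_iff_le_ker, Ideal.mk_ker]
    exact hm
  · rw [K201.QIBC.isQuasiIsotrivial_tower]
    refine K201.QIBC.isQuasiIsotrivial_of_algHom (S := R ⧸ I)
      (Ideal.Quotient.liftₐ I (Algebra.ofId R ((R ⧸ K) ⧸ J)) ?_) h0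
    intro i hi
    change Ideal.Quotient.mk J (Ideal.Quotient.mk K i) = 0
    exact Ideal.Quotient.eq_zero_iff_mem.2 (Ideal.mem_map_of_mem _ hi)

/-- uniqueness of lifts modulo a power -/
theorem sub_mem_of_mult {K K' : Ideal R} (hle : K' ≤ K) (m : ℕ) (hm : K ^ m ≤ K')
    (hB : IsMultType (R ⧸ K') ((R ⧸ K') ⊗[R] B)) (hC : IsMultType (R ⧸ K') ((R ⧸ K') ⊗[R] C))
    (φ ψ : C →ₐc[R] B) (h : ∀ c, φ c - ψ c ∈ (K • ⊤ : Submodule R B)) (c : C) :
    φ c - ψ c ∈ (K' • ⊤ : Submodule R B) := by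
  let _ : Algebra (R ⧸ K') (R ⧸ K) := (Ideal.Quotient.factor hle).toAlgebra
  have : IsScalarTower R (R ⧸ K') (R ⧸ K) := IsScalarTower.of_algebraMap_eq fun _ => rfl
  have hs : Function.Surjective (algebraMap (R ⧸ K') (R ⧸ K)) := Ideal.Quotient.factor_surjective hle
  have hn : ∀ x, algebraMap (R ⧸ K') (R ⧸ K) x = 0 → IsNilpotent x := by
    intro x hx
    obtain ⟨x, rfl⟩ := Ideal.Quotient.mk_surjective x
    have hx' : x ∈ K := Ideal.Quotient.eq_zero_iff_mem.1 hx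
    refine ⟨m, ?_⟩
    rw [← map_pow]
    exact Ideal.Quotient.eq_zero_iff_mem.2 (hm (Ideal.pow_mem_pow hx' m))
  have h1 : mapBialg (R ⧸ K') φ = mapBialg (R ⧸ K') ψ := by
    apply K201.NilHom.hom_uniq (R ⧸ K) hB hC hs hn
    have key : ∀ c : (R ⧸ K') ⊗[R] C, (1 : R ⧸ K) ⊗ₜ[R ⧸ K'] (mapBialg (R ⧸ K') φ c) =
        (1 : R ⧸ K) ⊗ₜ[R ⧸ K'] (mapBialg (R ⧸ K') ψ c) := by
      intro c
      induction c using TensorProduct.induction_on with
      | zero => simp only [map_zero]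
      | tmul r c =>
        apply EquivLike.injective (cancelBialg R (R ⧸ K') (R ⧸ K) B)
        rw [mapBialg_tmul, mapBialg_tmul, cancelBialg_tmul, cancelBialg_tmul, one_mul]
        have h2 := (one_tmul_eq_iff K _ _).2 (h c)
        have h3 : ∀ b : B, (algebraMap (R ⧸ K') (R ⧸ K) r) ⊗ₜ[R] b =
            (algebraMap (R ⧸ K') (R ⧸ K) r) • ((1 : R ⧸ K) ⊗ₜ[R] b) := fun b => by
          rw [TensorProduct.smul_tmul', smul_eq_mul, mul_one]
        rw [h3, h3, h2]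
      | add x y hx hy => simp only [map_add, TensorProduct.tmul_add, hx, hy]
    exact key
  rw [← one_tmul_eq_iff, ← mapBialg_tmul, ← mapBialg_tmul, h1]

end K201.MultLift
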