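import Groth.Agent.SGA3b.K201.OpenSubgp
import Groth.Agent.SGA3b.K201.Mono
import Groth.Agent.SGA3b.K201.MultLift
import Groth.Agent.SGA3b.K201.Isotriv
import Groth.Agent.SGA3b.K201.MTBasics
import Groth.Agent.Hensel.PairIdem
import Groth.Agent.Sga3A.FibDomain2
import Groth.Agent.S2980
import Mathlib.RingTheory.Ideal.IdempotentFG
import Mathlib.RingTheory.Smooth.Quotient

/-!
Groups with connected fibres over a complete base which are isotrivial of multiplicative type modulo `I`.
-/

set_option autoImplicit false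

open TensorProduct SGA3b Coalgebra Bialgebra
open Groth.Agent.Sga3A.BCIso Groth.Agent.Sga3A.GLBasic Groth.Agent.Sga3A.KernelLocal
open Groth.Agent.Sga3A.GLHom

namespace K201.ConnFib

universe u

section Surj

variable {R : Type u} [CommRing R] {I : Ideal R} {C B : Type u} [CommRing C] [HopfAlgebra R C] [CommRing B]
  [HopfAlgebra R B]

/-- A homomorphism to (the algebra of) an isotrivial group which is surjective modulo `I ⊆ rad(R)` is
surjective. -/
theorem surjective_of_mod (hI : I ≤ Ideal.jacobson ⊥) {S M : Type u} [CommRing S] [Algebra R S]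
    [Module.Finite R S] [Module.FaithfullyFlat R S] [CommGroup M] (e : S ⊗[R] B ≃ₐc[S] MonoidAlgebra S M)
    (φ : C →ₐc[R] B) (h : ∀ b, ∃ c, b - φ c ∈ (I • ⊤ : Submodule R B)) : Function.Surjective φ := by
  let φ' : S ⊗[R] C →ₐc[S] MonoidAlgebra S M :=
    (e : S ⊗[R] B →ₐc[S] MonoidAlgebra S M).comp (mapBialg S φ)
  have hφ' : ∀ z, φ' z = e (mapBialg S φ z) := fun _ => rfl
  have h1 : ∀ y : S ⊗[R] B, ∃ z, y - mapBialg S φ z ∈ (I • ⊤ : Submodule R (S ⊗[R] B)) := by
    intro y
    induction y using TensorProduct.induction_on with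
    | zero => exact ⟨0, by rw [map_zero, sub_zero]; exact zero_mem _⟩
    | tmul s b =>
      obtain ⟨c, hc⟩ := h b
      refine ⟨s ⊗ₜ c, ?_⟩
      rw [mapBialg_tmul, ← TensorProduct.tmul_sub]
      exact map_mem_smul_top (TensorProduct.mk R S B s) hc
    | add x y hx hy =>
      obtain ⟨a, ha⟩ := hx
      obtain ⟨b, hb⟩ := hy
      refine ⟨a + b, ?_⟩
      rw [map_add, add_sub_add_comm]
      exact add_mem ha hb
  have hIS : I.map (algebraMap R S) ≤ Ideal.jacobson ⊥ :=
    Groth.Agent.Hensel.PairIdem.map_le_jacobson_bot I hI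
  have h2 : ∀ n : M, aIdeal φ' n = ⊤ := by
    intro n
    obtain ⟨z, hz⟩ := h1 (e.symm (MonoidAlgebra.single n 1))
    have h3 := (mem_map_smul_top_iff (S := S) _).2 hz
    have h4 := map_mem_smul_top (e : S ⊗[R] B →ₗ[S] MonoidAlgebra S M) h3
    have h5 : (e : S ⊗[R] B →ₗ[S] MonoidAlgebra S M) (e.symm (MonoidAlgebra.single n 1) - mapBialg S φ z) =
        MonoidAlgebra.single n 1 - φ' z := by
      rw [map_sub]
      congr 1
      exact e.apply_symm_apply _
    rw [h5, mem_smul_top_iff_coeff] at h4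
    have h6 := h4 n
    rw [coeff_sub, MonoidAlgebra.coeff_single, Finsupp.single_eq_same] at h6
    have h7 := coeff_mem_aIdeal φ' z n
    have h8 : IsUnit ((φ' z).coeff n) := by
      have := Ideal.mem_jacobson_bot.1 (hIS h6) (-1)
      have h9 : (1 - (φ' z).coeff n) * (-1) + 1 = (φ' z).coeff n := by ring
      rwa [h9] at this
    exact Ideal.eq_top_of_isUnit_mem _ h7 h8
  have h3 := K201.Mono.surjective_of_aIdeal φ' h2
  have hJ : JointlyPure R (fun _ : PUnit.{u + 1} => S) := JointlyPure.of_faithfullyFlat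
  intro b
  have : b ∈ LinearMap.range (φ : C →ₗ[R] B) := by
    apply hJ.mem_range
    intro _
    obtain ⟨z, hz⟩ := h3 (e (1 ⊗ₜ b))
    exact ⟨z, EquivLike.injective e hz⟩
  exact this

end Surj

section Inj

theorem mem_smul_of_mem {R C : Type*} [CommRing R] [CommRing C] [Algebra R C] (I : Ideal R) (N : Ideal C)
    (K : Submodule R C) (h : ∀ n ∈ K, n ∈ N) (x : C) (hx : x ∈ I • K) :
    x ∈ (I.map (algebraMap R C)) * N := by
  induction hx using Submodule.smul_induction_on' with
  | smul r hr n hn =>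
    rw [Algebra.smul_def]
    exact Ideal.mul_mem_mul (Ideal.mem_map_of_mem _ hr) (h n hn)
  | add a _ b _ ha hb => exact add_mem ha hb

variable {R : Type u} [CommRing R] {I : Ideal R} {C B : Type u} [CommRing C] [HopfAlgebra R C] [CommRing B]
  [HopfAlgebra R B]

/-- A surjection onto a flat Hopf algebra which is injective modulo `I ⊆ rad(R)` is injective, if the fibres of
the source are connected. -/
theorem injective_of_mod [IsNoetherianRing C] (hI : I ≤ Ideal.jacobson ⊥) [Module.Flat R B]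
    (φ : C →ₐc[R] B) (hφ : Function.Surjective φ)
    (h : ∀ c, φ c = 0 → c ∈ (I • ⊤ : Submodule R C))
    (hconn : ∀ (p : Ideal R) [p.IsPrime], ConnectedSpace (PrimeSpectrum (p.ResidueField ⊗[R] C))) :
    Function.Injective φ := by
  let N : Ideal C := RingHom.ker φ
  have hfg : N.FG := IsNoetherian.noetherian N
  -- `N = I N`
  have h1 : N ≤ (I.map (algebraMap R C)) * N := by
    intro n hn
    have h2 : n ∈ LinearMap.ker (φ : C →ₗ[R] B) ⊓ (I • (⊤ : Submodule R C)) := ⟨hn, h n hn⟩
    rw [LinearMap.ker_inf_smul_top_eq_smul_of_flat I (φ : C →ₗ[R] B) hφ] at h2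
    exact mem_smul_of_mem I N _ (fun n hn => hn) n h2
  obtain ⟨x, hx, hxN⟩ := Submodule.exists_sub_one_mem_and_smul_eq_zero_of_fg_of_le_smul _ N hfg h1
  -- normalise
  have hεx : counit (R := R) x - 1 ∈ I := by
    have h2 : Ideal.map (algebraMap R C) I ≤ I.comap (counitAlgHom R C) := by
      rw [Ideal.map_le_iff_le_comap]
      intro i hi
      rw [Ideal.mem_comap, Ideal.mem_comap, AlgHom.commutes]
      exact hi
    have h3 := h2 hx
    rw [Ideal.mem_comap, map_sub, map_one, counitAlgHom_apply] at h3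
    exact h3
  have hu : IsUnit (counit (R := R) x) := by
    have := Ideal.mem_jacobson_bot.1 (hI hεx) 1
    have h9 : (counit (R := R) x - 1) * 1 + 1 = counit (R := R) x := by ring
    rwa [h9] at this
  obtain ⟨v, hv⟩ := hu.exists_left_inv
  have h2 : ∀ n, φ n = 0 → n ∈ N * N := by
    intro n hn
    apply K201.OpenSubgp.mem_mul_self φ hφ (v • x) _ _ n hn
    · rw [map_smul, smul_eq_mul, hv]
    · intro n hn
      have := hxN n hn
      rw [smul_eq_mul] at this
      rw [smul_mul_assoc, this, smul_zero]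
  have h3 : IsIdempotentElem N := le_antisymm Ideal.mul_le_left (fun n hn => h2 n hn)
  obtain ⟨e, he, hNe⟩ := (Ideal.isIdempotentElem_iff_of_fg N hfg).1 h3
  have heN : φ e = 0 := by
    have : e ∈ N := by rw [hNe]; exact Submodule.mem_span_singleton_self e
    exact this
  have hεe : counit (R := R) e = 0 := by
    rw [← CoalgHomClass.counit_comp_apply φ e, heN, map_zero]
  -- `e` is nilpotent
  have hnil : ∀ q : Ideal C, q.IsPrime → e ∈ q := by
    intro q hq
    let p : Ideal R := q.comap (algebraMap R C)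
    have hp : p.IsPrime := inferInstance
    have := hconn p
    have he1 : IsIdempotentElem ((1 : p.ResidueField) ⊗ₜ[R] e) := by
      change ((1 : p.ResidueField) ⊗ₜ[R] e) * ((1 : p.ResidueField) ⊗ₜ[R] e) = _
      rw [Algebra.TensorProduct.tmul_mul_tmul, one_mul]
      congr 1
    rcases Groth.Agent.Sga3A.FibDomain.idem_trivial he1 with h4 | h4
    · let g : p.ResidueField →ₐ[R] q.ResidueField := Ideal.ResidueField.mapₐ p q (Algebra.ofId R C) rfl
      let G : p.ResidueField ⊗[R] C →ₐ[R] q.ResidueField :=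
        Algebra.TensorProduct.lift g (IsScalarTower.toAlgHom R C q.ResidueField) (fun _ _ => .all _ _)
      have h5 := congrArg G h4
      have h6 : G ((1 : p.ResidueField) ⊗ₜ[R] e) = algebraMap C q.ResidueField e := by
        change (Algebra.TensorProduct.lift g (IsScalarTower.toAlgHom R C q.ResidueField)
          (fun _ _ => .all _ _)) ((1 : p.ResidueField) ⊗ₜ[R] e) = _
        rw [Algebra.TensorProduct.lift_tmul, map_one, one_mul]
        rfl
      rw [h6, map_zero, Ideal.algebraMap_residueField_eq_zero] at h5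
      exact h5
    · exfalso
      have h5 := congrArg (counit (R := p.ResidueField)) h4
      rw [counit_one_tmul, hεe, map_zero, Bialgebra.counit_one] at h5
      exact zero_ne_one h5
  have he0 : e = 0 := by
    have h4 : IsNilpotent e := by
      rw [nilpotent_iff_mem_prime]
      exact hnil
    obtain ⟨k, hk⟩ := h4
    rcases Nat.eq_zero_or_pos k with rfl | hk0
    · rw [pow_zero] at hk
      rw [← mul_one e, hk, mul_zero]
    · rw [← he.pow_eq hk0.ne', hk]
  rw [injective_iff_map_eq_zero]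
  intro c hc
  have : c ∈ N := hc
  rw [hNe, he0] at this
  simpa using this

end Inj

section Main

variable {A : Type u} [CommRing A] [IsNoetherianRing A] (I : Ideal A) [IsAdicComplete I A]
    {C : Type u} [CommRing C] [HopfAlgebra A C] [Module.Flat A C]

theorem isQuasiIsotrivial_of_isIsotrivial {R : Type u} [CommRing R] {B : Type u} [CommRing B] [HopfAlgebra R B]
    (h : IsIsotrivial R B) : IsQuasiIsotrivial R B := by
  obtain ⟨S, _, _, het, _, hff, hd⟩ := h
  refine ⟨{1}, by simp, ?_⟩
  rintro f rfl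
  let R₁ := Localization.Away (1 : R)
  refine ⟨R₁ ⊗[R] S, inferInstance, inferInstance, inferInstance, inferInstance, ?_⟩
  have h1 := Groth.Agent.Sga3A.NilDescent.isDiag_of_algHom
    (Algebra.TensorProduct.includeRight : S →ₐ[R] R₁ ⊗[R] S) hd
  exact Groth.Agent.Sga3A.MultBC.isDiag_tower' h1

/-- S5251, with the isomorphism -/
theorem exists_equiv [Algebra.FiniteType A C]
    (hconn : ∀ (p : Ideal A) [p.IsPrime], ConnectedSpace (PrimeSpectrum (p.ResidueField ⊗[A] C)))
    (h0 : IsIsotrivial (A ⧸ I) ((A ⧸ I) ⊗[A] C)) : IsIsotrivial A C := by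
  obtain ⟨B, _, _, hB, ⟨e₀⟩⟩ := Groth.Agent.S2980.result A I ((A ⧸ I) ⊗[A] C) h0
  have hBm : IsMultType A B := K201.Isotriv.isMultType_of_isIsotrivial hB
  have hBfl : Module.Flat A B := K201.MTBasics.flat hBm
  have hB' := hB
  obtain ⟨S, _, _, het, hfin, hff, M, _, ⟨e⟩⟩ := hB'
  have hmB : ∀ K : Ideal A, IsMultType (A ⧸ K) ((A ⧸ K) ⊗[A] B) := fun K =>
    Groth.Agent.Sga3A.NilDescent.isMultType_baseChange _ hBm
  have hfl : ∀ (q : Ideal C) [q.IsPrime], Ideal.map (algebraMap A C) I ≤ q →
      Module.Flat A (Localization.AtPrime q) := fun q _ _ => Module.Flat.trans A C _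
  obtain ⟨f₀, hf₀, hφ₀⟩ := K201.HomMod.exists_rep
    (e₀.symm : ((A ⧸ I) ⊗[A] C) →ₐc[A ⧸ I] ((A ⧸ I) ⊗[A] B))
  obtain ⟨φ, hφ⟩ := K201.Algebraize.exists_lift_of_step e f₀ hf₀ (fun n f hf =>
    K201.MultLift.exists_lift_mult (Ideal.pow_le_pow_right (Nat.le_succ (n + 1))) 2 (by
      rw [← pow_mul]
      exact Ideal.pow_le_pow_right (by omega)) (hmB _)
      (K201.MultLift.isMultType_quot_pow I hfl (isQuasiIsotrivial_of_isIsotrivial h0) (I ^ (n + 2))
        (n + 2) le_rfl) hf)
  have hφe : ∀ c : C, e₀.symm ((1 : A ⧸ I) ⊗ₜ[A] c) = (1 : A ⧸ I) ⊗ₜ[A] (φ c) := by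
    intro c
    refine (hφ₀ c).trans ?_
    rw [one_tmul_eq_iff, ← neg_mem_iff, neg_sub]
    exact hφ c
  have hI : I ≤ Ideal.jacobson ⊥ := IsAdicComplete.le_jacobson_bot I
  have hsurj : Function.Surjective φ := by
    apply surjective_of_mod hI e
    intro b
    obtain ⟨c, hc⟩ := exists_one_tmul I (e₀ ((1 : A ⧸ I) ⊗ₜ[A] b))
    refine ⟨c, ?_⟩
    rw [← one_tmul_eq_iff, ← hφe, hc]
    exact (e₀.symm_apply_apply _).symm
  have hinj : Function.Injective φ := by
    have : IsNoetherianRing C := Algebra.FiniteType.isNoetherianRing A C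
    apply injective_of_mod hI φ hsurj _ hconn
    intro c hc
    rw [← one_tmul_eq_zero_iff]
    apply EquivLike.injective e₀.symm
    rw [hφe, hc, TensorProduct.tmul_zero, map_zero]
  exact K201.QIBC.isIsotrivial_congr (BialgEquiv.ofBijective φ ⟨hinj, hsurj⟩).symm hB

end Main

end K201.ConnFib
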