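import Groth.Agent.Sga3A.PowConv
import Groth.Agent.S3044
import Mathlib.RingTheory.QuasiFinite.Basic
import Mathlib.RingTheory.LocalRing.ResidueField.Ideal
import Mathlib.RingTheory.Localization.BaseChange
import Mathlib.RingTheory.Ideal.Quotient.Operations
import Mathlib.LinearAlgebra.TensorProduct.RightExactness

/-!
# A commutative quasi-finite group of finite type is killed by an integer
-/

set_option autoImplicit false
universe u

open TensorProduct SGA3b Coalgebra Bialgebra WithConv

namespace K201.KillQF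

open Groth.Agent.Sga3A.PowConv

section pow
variable {R : Type u} [CommRing R] {A : Type u} [CommRing A] [HopfAlgebra R A]

theorem comp_convPow {B B' : Type u} [CommRing B]
    [Algebra R B] [CommRing B'] [Algebra R B'] (h : B →ₐ[R] B') (f : WithConv (A →ₐ[R] B)) (n : ℕ) :
    h.comp (f ^ n).ofConv = ((toConv (h.comp f.ofConv)) ^ n).ofConv := by
  induction n with
  | zero =>
    rw [pow_zero, pow_zero]
    ext a
    simp [AlgHom.convOne_def]
  | succ n ih =>
    rw [pow_succ, pow_succ, AlgHom.comp_convMul_distrib, ih]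

theorem powConv_comp (m n : ℕ) (a : A) :
    powConv R A m (powConv R A n a) = powConv R A (m * n) a := by
  have h1 := comp_convPow (powConv R A m) (toConv (AlgHom.id R A)) n
  have h2 : (toConv ((powConv R A m).comp (toConv (AlgHom.id R A)).ofConv)) =
      (toConv (AlgHom.id R A)) ^ m := by
    apply WithConv.ofConv_injective
    rfl
  rw [h2, ← pow_mul] at h1
  exact AlgHom.congr_fun h1 a

theorem counit_powConv (n : ℕ) (a : A) :
    counit (R := R) (powConv R A n a) = counit (R := R) a := by
  have h1 := comp_convPow (counitAlgHom R A) (toConv (AlgHom.id R A)) n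
  have h2 : (toConv ((counitAlgHom R A).comp (toConv (AlgHom.id R A)).ofConv)) = 1 := by
    apply WithConv.ofConv_injective
    ext a
    rfl
  rw [h2, one_pow] at h1
  exact AlgHom.congr_fun h1 a

end pow

theorem one_tmul_eq_zero_iff {R C : Type*} [CommRing R] [CommRing C] [Algebra R C] (I : Ideal R)
    (c : C) : (1 : R ⧸ I) ⊗ₜ[R] c = 0 ↔ c ∈ I.map (algebraMap R C) := by
  rw [← Submodule.restrictScalars_mem R (I.map (algebraMap R C)), ← Ideal.smul_top_eq_map,
    ← LinearMap.ker_tensorProductMk]
  rfl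

/-- the kernel of `C → κ(J) ⊗ C` -/
theorem exists_smul_mem {R C : Type u} [CommRing R] [CommRing C] [Algebra R C] (J : Ideal R)
    [J.IsPrime] (c : C) (h : (1 : J.ResidueField) ⊗ₜ[R] c = 0) :
    ∃ s : R, s ∉ J ∧ s • c ∈ J.map (algebraMap R C) := by
  have h1 : (1 : J.ResidueField) ⊗ₜ[R ⧸ J] ((1 : R ⧸ J) ⊗ₜ[R] c) = 0 := by
    apply (Algebra.TensorProduct.cancelBaseChange R (R ⧸ J) J.ResidueField J.ResidueField C).injective
    rw [map_zero]
    simpa using h
  obtain ⟨s, hs⟩ := (IsLocalizedModule.eq_zero_iff (nonZeroDivisors (R ⧸ J))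
      (TensorProduct.mk (R ⧸ J) J.ResidueField ((R ⧸ J) ⊗[R] C) 1)).mp h1
  obtain ⟨t, ht⟩ := Ideal.Quotient.mk_surjective (s : R ⧸ J)
  refine ⟨t, fun hmem => nonZeroDivisors.ne_zero s.2 (by
    rw [← ht]; exact Ideal.Quotient.eq_zero_iff_mem.mpr hmem), ?_⟩
  rw [← one_tmul_eq_zero_iff, TensorProduct.tmul_smul]
  have h2 : (s : R ⧸ J) • ((1 : R ⧸ J) ⊗ₜ[R] c) = 0 := hs
  rw [← ht] at h2
  exact h2

variable (R : Type u) [CommRing R] (C : Type u) [CommRing C] [HopfAlgebra R C]

/-- `n` kills `Spec C` modulo `J` -/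
def Kill (n : ℕ) (J : Ideal R) : Prop :=
  ∀ c : C, powConv R C n c - algebraMap R C (counit c) ∈ J.map (algebraMap R C)

variable {R C}

theorem counit_mem {J : Ideal R} {c : C} (h : c ∈ J.map (algebraMap R C)) :
    counit (R := R) c ∈ J := by
  have h1 : J.map (algebraMap R C) ≤ J.comap (counitAlgHom R C) := by
    rw [Ideal.map_le_iff_le_comap]
    intro x hx
    rw [Ideal.mem_comap, Ideal.mem_comap, AlgHom.commutes]
    exact hx
  exact h1 h

theorem powConv_mem {J : Ideal R} (n : ℕ) {c : C} (h : c ∈ J.map (algebraMap R C)) :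
    powConv R C n c ∈ J.map (algebraMap R C) := by
  have h1 : J.map (algebraMap R C) ≤ (J.map (algebraMap R C)).comap (powConv R C n) := by
    rw [Ideal.map_le_iff_le_comap]
    intro x hx
    rw [Ideal.mem_comap, Ideal.mem_comap, AlgHom.commutes]
    exact Ideal.mem_map_of_mem _ hx
  exact h1 h

theorem powConv_sub_mem {J J' : Ideal R} {n : ℕ} (h : Kill R C n J) {c : C}
    (hc : c ∈ J'.map (algebraMap R C)) :
    powConv R C n c - algebraMap R C (counit c) ∈ (J * J').map (algebraMap R C) := by
  induction hc using Submodule.span_induction with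
  | mem x hx =>
    obtain ⟨y, hy, rfl⟩ := hx
    rw [AlgHom.commutes, counit_algebraMap, sub_self]
    exact Ideal.zero_mem _
  | zero => simp
  | add x y _ _ hx hy =>
    have := Ideal.add_mem _ hx hy
    convert this using 1
    rw [map_add, map_add, map_add]
    ring
  | smul a x hx' hx =>
    rw [smul_eq_mul, map_mul, counit_mul, map_mul]
    have h1 : powConv R C n a * powConv R C n x -
        algebraMap R C (counit a) * algebraMap R C (counit x) =
        (powConv R C n a - algebraMap R C (counit a)) * powConv R C n x +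
        algebraMap R C (counit a) * (powConv R C n x - algebraMap R C (counit x)) := by ring
    rw [h1]
    refine Ideal.add_mem _ ?_ (Ideal.mul_mem_left _ _ hx)
    rw [Ideal.map_mul]
    exact Ideal.mul_mem_mul (h a) (powConv_mem n hx')

theorem Kill.mul {J J' : Ideal R} {n n' : ℕ} (h : Kill R C n J) (h' : Kill R C n' J') :
    Kill R C (n * n') (J * J') := by
  intro c
  have h1 := powConv_sub_mem h (h' c)
  rw [map_sub, map_sub, counit_powConv, counit_algebraMap, sub_self, map_zero, sub_zero,
    powConv_comp, AlgHom.commutes] at h1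
  exact h1

theorem Kill.mono {J J' : Ideal R} (hJ : J ≤ J') {n : ℕ} (h : Kill R C n J) : Kill R C n J' :=
  fun c => Ideal.map_mono hJ (h c)

/-- The set where `s` times the difference vanishes mod `J` is a subalgebra. -/
theorem smul_mem_of_adjoin {J : Ideal R} {n : ℕ} {s : R} {S : Set C}
    (hS : Algebra.adjoin R S = ⊤)
    (h : ∀ c ∈ S, s • (powConv R C n c - algebraMap R C (counit c)) ∈ J.map (algebraMap R C))
    (c : C) : s • (powConv R C n c - algebraMap R C (counit c)) ∈ J.map (algebraMap R C) := by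
  have hc : c ∈ Algebra.adjoin R S := hS ▸ Algebra.mem_top
  induction hc using Algebra.adjoin_induction with
  | mem x hx => exact h x hx
  | algebraMap r =>
    rw [AlgHom.commutes, counit_algebraMap, sub_self, smul_zero]
    exact Ideal.zero_mem _
  | add x y _ _ hx hy =>
    have := Ideal.add_mem _ hx hy
    convert this using 1
    rw [map_add, map_add, map_add, ← smul_add]
    congr 1
    ring
  | mul x y _ _ hx hy =>
    have h1 : s • (powConv R C n (x * y) - algebraMap R C (counit (x * y))) =
        powConv R C n x * (s • (powConv R C n y - algebraMap R C (counit y))) +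
        algebraMap R C (counit y) * (s • (powConv R C n x - algebraMap R C (counit x))) := by
      rw [map_mul, counit_mul, map_mul, Algebra.smul_def, Algebra.smul_def, Algebra.smul_def]
      ring
    rw [h1]
    exact Ideal.add_mem _ (Ideal.mul_mem_left _ _ hy) (Ideal.mul_mem_left _ _ hx)

theorem kill_of_smul {J : Ideal R} {n n' : ℕ} {s : R}
    (h : ∀ c : C, s • (powConv R C n c - algebraMap R C (counit c)) ∈ J.map (algebraMap R C))
    (h' : Kill R C n' (J ⊔ Ideal.span {s})) : Kill R C (n * n') J := by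
  intro c
  have h1 := h' c
  rw [Ideal.map_sup, Ideal.map_span, Set.image_singleton] at h1
  obtain ⟨x, hx, y, hy, hxy⟩ := Submodule.mem_sup.mp h1
  obtain ⟨y, rfl⟩ := Ideal.mem_span_singleton'.mp hy
  have h2 : powConv R C (n * n') c - algebraMap R C (counit c) =
      powConv R C n (powConv R C n' c - algebraMap R C (counit c)) := by
    rw [map_sub, powConv_comp, AlgHom.commutes]
  have h3 : counit (R := R) (powConv R C n' c - algebraMap R C (counit c)) = 0 := by
    rw [map_sub, counit_powConv, counit_algebraMap, sub_self]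
  rw [← hxy, map_add, counit_mul, counit_algebraMap] at h3
  have h4 : algebraMap R C (counit x) + algebraMap R C (counit (R := R) y * s) = 0 := by
    rw [← map_add, h3, map_zero]
  rw [h2, ← hxy, map_add, map_mul, AlgHom.commutes]
  have h5 : powConv R C n x + powConv R C n y * algebraMap R C s =
      powConv R C n x + (s • (powConv R C n y - algebraMap R C (counit y)) -
        algebraMap R C (counit x)) := by
    rw [Algebra.smul_def]
    rw [map_mul] at h4
    linear_combination h4
  rw [h5]
  exact Ideal.add_mem _ (powConv_mem n hx) (Ideal.sub_mem _ (h y)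
    (Ideal.mem_map_of_mem _ (counit_mem hx)))

/-- A finite type algebra: killing modulo the union of a chain. -/
theorem exists_mem_of_sSup [hft : Algebra.FiniteType R C] {c : Set (Ideal R)} (hne : c.Nonempty)
    (hc : IsChain (· ≤ ·) c) {n : ℕ} (h : Kill R C n (sSup c)) : ∃ J ∈ c, Kill R C n J := by
  classical
  obtain ⟨S, hS⟩ := hft.out
  have key : ∀ x : C, x ∈ (sSup c).map (algebraMap R C) → ∃ J ∈ c, x ∈ J.map (algebraMap R C) := by
    intro x hx
    have h1 : (sSup c).map (algebraMap R C) = sSup ((fun J => J.map (algebraMap R C)) '' c) := by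
      rw [sSup_image, sSup_eq_iSup, Ideal.map_iSup]
      simp only [Ideal.map_iSup]
    rw [h1, Submodule.mem_sSup_of_directed (hne.image _)] at hx
    · obtain ⟨_, ⟨J, hJ, rfl⟩, hx⟩ := hx
      exact ⟨J, hJ, hx⟩
    · rintro _ ⟨J, hJ, rfl⟩ _ ⟨J', hJ', rfl⟩
      obtain ⟨K, hK, h1, h2⟩ := hc.directedOn J hJ J' hJ'
      exact ⟨_, ⟨K, hK, rfl⟩, Ideal.map_mono h1, Ideal.map_mono h2⟩
  have key2 : ∀ T : Finset C, ∃ J ∈ c, ∀ x ∈ T,
      powConv R C n x - algebraMap R C (counit x) ∈ J.map (algebraMap R C) := by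
    intro T
    induction T using Finset.induction_on with
    | empty =>
      obtain ⟨J, hJ⟩ := hne
      exact ⟨J, hJ, by simp⟩
    | insert a T _ ih =>
      obtain ⟨J, hJ, hT⟩ := ih
      obtain ⟨J', hJ', ha⟩ := key _ (h a)
      obtain ⟨K, hK, h1, h2⟩ := hc.directedOn J hJ J' hJ'
      refine ⟨K, hK, fun x hx => ?_⟩
      rcases Finset.mem_insert.mp hx with rfl | hx
      · exact Ideal.map_mono h2 ha
      · exact Ideal.map_mono h1 (hT x hx)
  obtain ⟨J, hJ, h1⟩ := key2 S
  refine ⟨J, hJ, fun x => ?_⟩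
  have := smul_mem_of_adjoin (J := J) (n := n) (s := 1) hS (fun c hc => by
    rw [one_smul]; exact h1 c hc) x
  rwa [one_smul] at this

theorem exists_kill_prime [hft : Algebra.FiniteType R C] (J : Ideal R) [J.IsPrime]
    [Module.Finite J.ResidueField (J.ResidueField ⊗[R] C)] :
    ∃ n : ℕ, 0 < n ∧ ∃ s : R, s ∉ J ∧
      ∀ c : C, s • (powConv R C n c - algebraMap R C (counit c)) ∈ J.map (algebraMap R C) := by
  classical
  have hnt : Nontrivial (J.ResidueField ⊗[R] C) := by
    have h0 : Function.Surjective (counit (R := J.ResidueField) (A := J.ResidueField ⊗[R] C)) :=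
      fun r => ⟨algebraMap _ _ r, counit_algebraMap r⟩
    exact h0.nontrivial
  refine ⟨Module.finrank J.ResidueField (J.ResidueField ⊗[R] C), Module.finrank_pos, ?_⟩
  set n := Module.finrank J.ResidueField (J.ResidueField ⊗[R] C)
  have hn := Groth.Agent.S3044.result J.ResidueField (J.ResidueField ⊗[R] C)
  have h1 : ∀ x, powConv J.ResidueField (J.ResidueField ⊗[R] C) n x =
      algebraMap _ _ (counit (R := J.ResidueField) x) := fun x => by
    have := congrArg (fun f => f.ofConv x) hn
    exact this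
  have h2 : ∀ c : C, ∃ s : R, s ∉ J ∧
      s • (powConv R C n c - algebraMap R C (counit c)) ∈ J.map (algebraMap R C) := fun c =>
    exists_smul_mem J _ (powConv_trivial_of_baseChange R C J.ResidueField n h1 c)
  choose s hs hs' using h2
  obtain ⟨S, hS⟩ := hft.out
  refine ⟨∏ c ∈ S, s c, ?_, ?_⟩
  · intro h
    obtain ⟨c, _, hc⟩ := (Ideal.IsPrime.prod_mem_iff).mp h
    exact hs c hc
  · intro x
    refine smul_mem_of_adjoin hS (fun c hc => ?_) x
    rw [← Finset.mul_prod_erase S s hc, mul_comm, mul_smul, Algebra.smul_def]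
    exact Ideal.mul_mem_left _ _ (hs' c)

variable (R C) in
theorem exists_kill [hft : Algebra.FiniteType R C] [Algebra.QuasiFinite R C] :
    ∃ n : ℕ, 0 < n ∧ ∀ c : C, powConv R C n c = algebraMap R C (counit c) := by
  classical
  by_contra hcon
  have hbot : ¬ ∃ n : ℕ, 0 < n ∧ Kill R C n ⊥ := by
    rintro ⟨n, hn, h⟩
    refine hcon ⟨n, hn, fun c => ?_⟩
    have := h c
    rw [Ideal.map_bot, Ideal.mem_bot, sub_eq_zero] at this
    exact this
  obtain ⟨J, -, hJ⟩ := zorn_le_nonempty₀ {J : Ideal R | ¬ ∃ n : ℕ, 0 < n ∧ Kill R C n J}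
    (by
      intro c hcs hc y hy
      refine ⟨sSup c, ?_, fun z hz => le_sSup hz⟩
      rintro ⟨n, hn, h⟩
      obtain ⟨J, hJc, hJ⟩ := exists_mem_of_sSup ⟨y, hy⟩ hc h
      exact hcs hJc ⟨n, hn, hJ⟩) ⊥ hbot
  obtain ⟨hJn, hJmax⟩ := hJ
  have hup : ∀ I : Ideal R, J ≤ I → ¬ I ≤ J → ∃ n : ℕ, 0 < n ∧ Kill R C n I := by
    intro I h1 h2
    by_contra h3
    exact h2 (hJmax h3 h1)
  have hprime : J.IsPrime := by
    rw [Ideal.isPrime_iff]
    constructor
    · rintro rfl
      exact hJn ⟨1, one_pos, fun c => by rw [Ideal.map_top]; trivial⟩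
    · intro x y hxy
      by_contra hcon'
      push Not at hcon'
      obtain ⟨n, hn, h⟩ := hup (J ⊔ Ideal.span {x}) le_sup_left (fun h => hcon'.1
        (h ((le_sup_right : _ ≤ J ⊔ Ideal.span {x}) (Ideal.mem_span_singleton_self x))))
      obtain ⟨n', hn', h'⟩ := hup (J ⊔ Ideal.span {y}) le_sup_left (fun h => hcon'.2
        (h ((le_sup_right : _ ≤ J ⊔ Ideal.span {y}) (Ideal.mem_span_singleton_self y))))
      refine hJn ⟨n * n', Nat.mul_pos hn hn', (h.mul h').mono ?_⟩
      rw [Ideal.sup_mul, Ideal.mul_sup, Ideal.mul_sup, Ideal.span_singleton_mul_span_singleton]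
      refine sup_le (sup_le Ideal.mul_le_left Ideal.mul_le_left)
        (sup_le Ideal.mul_le_right ?_)
      rw [Ideal.span_singleton_le_iff_mem]
      exact hxy
  obtain ⟨n, hn, s, hs, h⟩ := exists_kill_prime (R := R) (C := C) J
  obtain ⟨n', hn', h'⟩ := hup (J ⊔ Ideal.span {s}) le_sup_left (fun h => hs
    (h ((le_sup_right : _ ≤ J ⊔ Ideal.span {s}) (Ideal.mem_span_singleton_self s))))
  exact hJn ⟨n * n', Nat.mul_pos hn hn', kill_of_smul h h'⟩

end K201.KillQF
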