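import Groth.Agent.SGA3b.K201.FibreZero
import Groth.Agent.SGA3b.K201.LocalTriv
import Groth.Agent.SGA3b.K201.Field
import Groth.Agent.Sga3A.MTTorsion
import Groth.Agent.Sga3A.MTConst
import Groth.Agent.Sga3A.FibRes
import Groth.Agent.Sga3A.TorsionDense
import Groth.Agent.Flat2B.FibKer

/-!
Closed subgroups of groups of multiplicative type which are trivial on the closed fibre.
-/

set_option autoImplicit false

open TensorProduct SGA3b Coalgebra Bialgebra
open Groth.Agent.Sga3A.BCIso Groth.Agent.Sga3A.GLBasic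
open Groth.Agent.Sga3A.MTBasis (GBasis)
open Groth.Agent.Sga3A.MTTorsion Groth.Agent.Sga3A.MTConst
open Groth.Agent.Sga3A.MultBC

namespace K201.TorsTriv

universe u

section Aug

variable {R : Type u} [CommRing R] {B : Type u} [CommRing B] [Bialgebra R B]

/-- vanishing of an element in a fibre can be checked after a field extension -/
theorem one_tmul_eq_zero_of_field {K L : Type*} [Field K] [Field L] [Algebra R K] [Algebra R L]
    (f : K →ₐ[R] L) {N : Type*} [AddCommGroup N] [Module R N] (n : N) (h : (1 : L) ⊗ₜ[R] n = 0) :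
    (1 : K) ⊗ₜ[R] n = 0 := by
  let _ : Algebra K L := f.toRingHom.toAlgebra
  have : IsScalarTower R K L := IsScalarTower.of_algebraMap_eq fun r => (f.commutes r).symm
  obtain ⟨g, hg⟩ := LinearMap.exists_leftInverse_of_injective (Algebra.linearMap K L)
    (LinearMap.ker_eq_bot.2 (algebraMap K L).injective)
  have h1 := congrArg (LinearMap.rTensor N (g.restrictScalars R)) h
  rw [LinearMap.rTensor_tmul, map_zero] at h1
  have h2 : g 1 = 1 := by
    have := LinearMap.congr_fun hg 1
    simpa using this
  rw [LinearMap.restrictScalars_apply, h2] at h1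
  exact h1

theorem sub_mem_mul (p : Ideal R) {b : B} (h : b ∈ (p • ⊤ : Submodule R B)) :
    b - algebraMap R B (counit b) ∈
      (p.map (algebraMap R B)) * (RingHom.ker (counitAlgHom R B)) := by
  induction h using Submodule.smul_induction_on' with
  | smul r hr b _ =>
    have : r • b - algebraMap R B (counit (r • b)) =
        algebraMap R B r * (b - algebraMap R B (counit b)) := by
      rw [map_smul, smul_eq_mul, map_mul, Algebra.smul_def]
      ring
    rw [this]
    apply Ideal.mul_mem_mul (Ideal.mem_map_of_mem _ hr)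
    rw [RingHom.mem_ker, map_sub, counitAlgHom_apply]
    simp
  | add x _ y _ hx hy =>
    rw [map_add, map_add, add_sub_add_comm]
    exact add_mem hx hy

theorem mem_mul (p : Ideal R) {b : B} (h : b ∈ (p • ⊤ : Submodule R B)) (hb : counit (R := R) b = 0) :
    b ∈ (p.map (algebraMap R B)) * (RingHom.ker (counitAlgHom R B)) := by
  have := sub_mem_mul p h
  rwa [hb, map_zero, sub_zero] at this

/-- trivial fibres imply trivial, for an affine group (monoid) scheme with finitely generated augmentation ideal -/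
theorem ker_counit_eq_bot_of_fibres (hK : (RingHom.ker (counitAlgHom R B)).FG)
    (h : ∀ p : Ideal R, ∀ _ : p.IsPrime, ∀ b : B, counit (R := R) b = 0 →
      (1 : p.ResidueField) ⊗ₜ[R] b = 0) : RingHom.ker (counitAlgHom R B) = ⊥ := by
  apply K201.FibreZero.eq_bot_of_fibres (R := R) _ hK
  intro q hq b hb
  have := hq.isPrime
  have h1 := h (q.comap (algebraMap R B)) inferInstance b hb
  rw [Groth.Agent.Flat2B.FibKer.one_tmul_eq_zero_iff] at h1
  obtain ⟨r, hr, h2⟩ := h1
  refine ⟨r, hr, ?_⟩
  have h3 := mem_mul _ h2 (by rw [map_smul]; rw [RingHom.mem_ker, counitAlgHom_apply] at hb; rw [hb, smul_zero])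
  rw [Algebra.smul_def] at h3
  exact Ideal.mul_mono_left Ideal.map_comap_le h3

end Aug

section Split

variable {R : Type u} [CommRing R] {B : Type u} [CommRing B] [HopfAlgebra R B]

/-- a diagonalisable group over a field whose torsion subgroups are trivial is trivial. -/
theorem triv_of_torsion (S : Type u) [CommRing S] [Nontrivial S] [Algebra R S] {M : Type u} [CommGroup M] [Group.FG M]
    (g : GBasis S (S ⊗[R] B) M)
    (ht : ∀ n : ℕ, 0 < n → RingHom.ker (counitAlgHom R B) ≤ torsionIdeal R B n)
    (b : B) (hb : counit (R := R) b = 0) : (1 : S) ⊗ₜ[R] b = 0 := by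
  have h1 : ∀ (n : ℕ), 0 < n → ∀ x : S ⊗[R] B, counit (R := S) x = 0 → toQ g n x = 0 := by
    intro n hn x hx
    refine (Submodule.mem_bot S).1
      (K201.Triv.ker_counit_induction (toQ g n : S ⊗[R] B →ₗ[S] MonoidAlgebra S (Q M n)) ⊥ ?_ x hx)
    intro c hc
    rw [Submodule.mem_bot]
    apply map_torsionIdeal_eq_zero S g n (toQ g n) _ (ht n hn hc)
    intro m
    rw [toQ_b, MonoidAlgebra.single_pow, one_pow, ← QuotientGroup.mk_pow,
      show (QuotientGroup.mk (m ^ n) : Q M n) = 1 from (QuotientGroup.eq_one_iff (m ^ n)).2 ⟨m, rfl⟩,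
      MonoidAlgebra.one_def]
  have h2 : ∀ m : M, m = 1 := by
    intro m
    by_contra hm
    obtain ⟨l, hl, hlm⟩ := Groth.Agent.Sga3A.FibRes.exists_notMem_range hm
    apply hlm
    have h3 := h1 l hl (g.b m - 1) (by
      rw [map_sub, (g.gl m).counit_eq_one, Bialgebra.counit_one, sub_self])
    rw [map_sub, map_one, sub_eq_zero, toQ_b, MonoidAlgebra.one_def] at h3
    have h4 : (QuotientGroup.mk m : Q M l) = 1 := MonoidAlgebra.of_injective (R := S) h3
    exact (QuotientGroup.eq_one_iff m).1 h4
  have h5 : ∀ x : S ⊗[R] B, counit (R := S) x = 0 → x = 0 := by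
    intro x hx
    have h6 := g.b.linearCombination_repr x
    have h7 : g.b.repr x = Finsupp.single 1 (g.b.repr x 1) := by
      ext m
      rw [h2 m, Finsupp.single_eq_same]
    rw [h7, Finsupp.linearCombination_single] at h6
    rw [← h6, map_smul, (g.gl 1).counit_eq_one, smul_eq_mul, mul_one] at hx
    rw [← h6, hx, zero_smul]
  apply h5
  rw [counit_one_tmul, hb, map_zero]

end Split

section Main

theorem torsionIdeal_le_ker (R : Type u) [CommRing R] (A : Type u) [CommRing A] [HopfAlgebra R A] (n : ℕ) :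
    torsionIdeal R A n ≤ RingHom.ker (counitAlgHom R A) := by
  rw [torsionIdeal, Ideal.map_le_iff_le_comap]
  intro x hx
  rw [Ideal.mem_comap, RingHom.mem_ker, counitAlgHom_apply]
  rw [RingHom.mem_ker, counitAlgHom_apply] at hx
  have h1 := Groth.Agent.Sga3A.PowConv.powConv_map R A (counitBialgHom R A) n x
  rw [counitBialgHom_apply, counitBialgHom_apply, hx, map_zero] at h1
  exact h1.symm

variable {R : Type u} [CommRing R] [IsLocalRing R] {A : Type u} [CommRing A] [HopfAlgebra R A]

theorem finite_torsion [Algebra.FiniteType R A] (hA : IsMultType R A) (n : ℕ) (hn : 0 < n) :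
    Module.Finite R (A ⧸ torsionIdeal R A n) := by
  obtain ⟨S, _, _, _, M, _, _, ⟨g⟩⟩ := exists_gbasis (IsMultType.const_of_isLocalRing hA)
  exact finite_quot g n hn

/-- For a closed subgroup (or just an ideal in the augmentation ideal) trivial on the closed fibre -/
theorem ker_le_sup [Algebra.FiniteType R A] (hA : IsMultType R A) (J : Ideal A)
    (hJ : J ≤ RingHom.ker (counitAlgHom R A))
    (hs : RingHom.ker (counitAlgHom R A) ≤ J ⊔ Ideal.map (algebraMap R A) (IsLocalRing.maximalIdeal R))
    (n : ℕ) (hn : 0 < n) : RingHom.ker (counitAlgHom R A) ≤ J ⊔ torsionIdeal R A n := by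
  have hfin := finite_torsion hA n hn
  set T := torsionIdeal R A n with hT
  have hTK : T ≤ RingHom.ker (counitAlgHom R A) := torsionIdeal_le_ker R A n
  let N : Submodule R (A ⧸ T) := ((J.map (Ideal.Quotient.mk T)).restrictScalars R) ⊔ Submodule.span R {1}
  have hN : (⊤ : Submodule R (A ⧸ T)) ≤ N := by
    apply Submodule.le_of_le_smul_of_le_jacobson_bot (I := IsLocalRing.maximalIdeal R) hfin.fg_top
      (IsLocalRing.maximalIdeal_le_jacobson _)
    rintro x -
    obtain ⟨a, rfl⟩ := Ideal.Quotient.mk_surjective x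
    have h1 : a - algebraMap R A (counit a) ∈ J ⊔ Ideal.map (algebraMap R A) (IsLocalRing.maximalIdeal R) := by
      apply hs
      rw [RingHom.mem_ker, map_sub, counitAlgHom_apply]
      simp
    obtain ⟨j, hj, m, hm, h2⟩ := Submodule.mem_sup.1 h1
    have h3 : a = (algebraMap R A (counit a) + j) + m := by
      rw [add_assoc, h2]; ring
    rw [h3, map_add]
    apply Submodule.add_mem_sup
    · rw [map_add]
      apply add_mem
      · apply Submodule.mem_sup_right
        rw [Submodule.mem_span_singleton]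
        refine ⟨counit a, ?_⟩
        rw [Algebra.smul_def, mul_one]
        rfl
      · exact Submodule.mem_sup_left (Ideal.mem_map_of_mem _ hj)
    · have h4 : (Ideal.Quotient.mk T) m ∈
          Ideal.map (algebraMap R (A ⧸ T)) (IsLocalRing.maximalIdeal R) := by
        have := Ideal.mem_map_of_mem (Ideal.Quotient.mk T) hm
        rw [Ideal.map_map] at this
        exact this
      rw [Ideal.smul_top_eq_map]
      exact h4
  intro a ha
  have h5 : (Ideal.Quotient.mk T) a ∈ N := hN trivial
  obtain ⟨x, hx, y, hy, h6⟩ := Submodule.mem_sup.1 h5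
  rw [Submodule.restrictScalars_mem, Ideal.mem_map_iff_of_surjective _ Ideal.Quotient.mk_surjective] at hx
  obtain ⟨j, hj, rfl⟩ := hx
  obtain ⟨r, rfl⟩ := Submodule.mem_span_singleton.1 hy
  have h7 : a - (j + algebraMap R A r) ∈ T := by
    rw [← Ideal.Quotient.eq_zero_iff_mem, map_sub, ← h6, map_add, Algebra.smul_def, mul_one, sub_eq_zero]
    rfl
  have h8 := hTK h7
  rw [RingHom.mem_ker] at ha
  rw [RingHom.mem_ker, map_sub, map_add, ha, (RingHom.mem_ker.1 (hJ hj)), zero_add, zero_sub, neg_eq_zero,
    AlgHom.commutes] at h8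
  have h9 : r = 0 := h8
  rw [h9, map_zero, add_zero] at h7
  rw [show a = j + (a - j) by ring]
  exact Submodule.add_mem_sup hj h7

/-- S5254 -/
theorem hopfIdeal_eq [Algebra.FiniteType R A] (hA : IsMultType R A)
    (J : Ideal A) [J.IsHopfIdeal R]
    (hs : J ⊔ Ideal.map (algebraMap R A) (IsLocalRing.maximalIdeal R) =
      RingHom.ker (counitAlgHom R A) ⊔ Ideal.map (algebraMap R A) (IsLocalRing.maximalIdeal R)) :
    J = RingHom.ker (counitAlgHom R A) := by
  let π : A →ₐc[R] A ⧸ J := Bialgebra.Quotient.mkBialgHom J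
  have hπ : Function.Surjective π := Ideal.Quotient.mk_surjective
  have hcπ : ∀ a, counit (R := R) (π a) = counit (R := R) a := fun a => CoalgHomClass.counit_comp_apply π a
  have hJ : J ≤ RingHom.ker (counitAlgHom R A) := by
    intro a ha
    rw [RingHom.mem_ker, counitAlgHom_apply, ← hcπ]
    have : π a = 0 := Ideal.Quotient.eq_zero_iff_mem.2 ha
    rw [this, map_zero]
  have h1 : ∀ n, 0 < n → RingHom.ker (counitAlgHom R (A ⧸ J)) ≤ torsionIdeal R (A ⧸ J) n := by
    intro n hn x hx
    obtain ⟨a, rfl⟩ := hπ x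
    have ha : a ∈ RingHom.ker (counitAlgHom R A) := by
      rw [RingHom.mem_ker, counitAlgHom_apply] at hx ⊢
      rw [← hcπ, hx]
    obtain ⟨j, hj, t, ht, rfl⟩ := Submodule.mem_sup.1
      (ker_le_sup hA J hJ (le_sup_left.trans hs.ge) n hn ha)
    have h2 : π j = 0 := Ideal.Quotient.eq_zero_iff_mem.2 hj
    rw [map_add, h2, zero_add]
    exact Groth.Agent.Sga3A.TorsionDense.torsionIdeal_le_comap R A π n ht
  have : Algebra.FiniteType R (A ⧸ J) := Algebra.FiniteType.of_surjective (π : A →ₐ[R] A ⧸ J) hπ
  have h3 : RingHom.ker (counitAlgHom R (A ⧸ J)) = ⊥ := by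
    apply ker_counit_eq_bot_of_fibres K201.LocalTriv.fg_ker_counit_of_finiteType
    intro p hp b hb
    obtain ⟨R', _, _, hff, hd⟩ := IsMultType.const_of_isLocalRing hA
    obtain ⟨q, hq, hqm⟩ := Ideal.exists_isPrime_liesOver_of_faithfullyFlat (A := R) (B := R') p
    have hd2 : IsDiag q.ResidueField (q.ResidueField ⊗[R] A) :=
      isDiag_tower (IsDiag.baseChange q.ResidueField hd)
    have hd3 : IsDiag q.ResidueField (q.ResidueField ⊗[R] (A ⧸ J)) :=
      K201.Field.isDiag_of_surjective hd2 (mapBialg q.ResidueField π) (K201.Field.mapBialg_surjective π hπ)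
    obtain ⟨M, _, ⟨e⟩⟩ := hd3
    have g := GBasis.ofBialgEquiv e
    have hfg : Group.FG M := fg_of_gbasis g
    have h4 := triv_of_torsion q.ResidueField g h1 b hb
    exact one_tmul_eq_zero_of_field (Ideal.ResidueField.mapₐ p q (Algebra.ofId R R') hqm.over) b h4
  apply le_antisymm hJ
  intro a ha
  have h5 : π a ∈ RingHom.ker (counitAlgHom R (A ⧸ J)) := by
    rw [RingHom.mem_ker, counitAlgHom_apply] at ha ⊢
    rw [hcπ, ha]
  rw [h3] at h5
  exact Ideal.Quotient.eq_zero_iff_mem.1 h5

end Main

end K201.TorsTriv
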