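import Groth.Agent.SGA3b.K201.HomBC
import Groth.Agent.Sga3A.GLHom
import Groth.Agent.Sga3A.MTBasis

/-!
Lifting of homomorphisms between groups of multiplicative type, from liftings of group-like elements:
general form along an arbitrary base change `R → T`.
-/

set_option autoImplicit false

open TensorProduct SGA3b Coalgebra Bialgebra
open Groth.Agent.Sga3A.BCIso Groth.Agent.Sga3A.GLBasic Groth.Agent.Sga3A.GLLift
open Groth.Agent.Sga3A.GLHom Groth.Agent.Sga3A.MTFamily
open Groth.Agent.Sga3A.MTBasis (GBasis)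
open K201.HomBC

namespace K201.GenHom

universe u

section

variable {R : Type u} [CommRing R] {C B : Type u} [CommRing C] [Bialgebra R C] [CommRing B]
  [Bialgebra R B]
variable {S S₀ : Type u} [CommRing S] [CommRing S₀] [Algebra R S] [Algebra R S₀] (π : S →ₐ[R] S₀)

variable (B) in
/-- group-like elements lift along `π` -/
def GLEx : Prop := ∀ x₀ : S₀ ⊗[R] B, IsGroupLikeElem S₀ x₀ →
  ∃ x : S ⊗[R] B, IsGroupLikeElem S x ∧ mapL B π x = x₀

variable (B) in
/-- liftings of group-like elements are unique -/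
def GLUn : Prop := ∀ x y : S ⊗[R] B, IsGroupLikeElem S x → IsGroupLikeElem S y →
  mapL B π x = mapL B π y → x = y

/-- idempotents lift uniquely along `π` -/
def IdemBij : Prop := (∀ e₀ : S₀, IsIdempotentElem e₀ → ∃ e : S, IsIdempotentElem e ∧ π e = e₀) ∧
  ∀ x y : S, IsIdempotentElem x → IsIdempotentElem y → π x = π y → x = y

theorem glUn_of_idemBij (h : IdemBij π) {M : Type*} [CommGroup M] (g : GBasis S (S ⊗[R] B) M) :
    GLUn B π := by
  classical
  intro x y hx hy hxy
  apply g.b.repr.injective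
  ext m
  have hx' := g.repr_mul_repr hx m m
  have hy' := g.repr_mul_repr hy m m
  rw [if_pos rfl] at hx' hy'
  apply h.2 _ _ hx' hy'
  have h1 := g.bc_repr π x m
  have h2 := g.bc_repr π y m
  rw [← h1, ← h2]
  exact congrArg (fun z => (g.bc π).b.repr z m) hxy

theorem glEx_of_idemBij (h : IdemBij π) {M : Type*} [CommGroup M] (g : GBasis S (S ⊗[R] B) M) :
    GLEx B π := by
  classical
  intro x₀ hx₀
  have h1 : ∀ m, IsIdempotentElem ((g.bc π).b.repr x₀ m) := fun m => by
    have := (g.bc π).repr_mul_repr hx₀ m m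
    rwa [if_pos rfl] at this
  choose e he he' using fun m => h.1 _ (h1 m)
  have horth : ∀ m n, m ≠ n → e m * e n = 0 := by
    intro m n hmn
    apply h.2
    · exact (he m).mul (he n)
    · exact IsIdempotentElem.zero
    · have := (g.bc π).repr_mul_repr hx₀ m n
      rw [if_neg hmn] at this
      rw [map_mul, he', he', this, map_zero]
  have hz : ∀ m, e m ≠ 0 → (g.bc π).b.repr x₀ m ≠ 0 := by
    intro m hm hm0
    apply hm
    apply h.2 _ _ (he m) IsIdempotentElem.zero
    rw [he', hm0, map_zero]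
  have hfin : (Function.support e).Finite :=
    ((g.bc π).b.repr x₀).hasFiniteSupport.subset fun m hm => hz m hm
  let y : MonoidAlgebra S M := MonoidAlgebra.ofCoeff (Finsupp.ofSupportFinite e hfin)
  have hy : ∀ m, y.coeff m = e m := fun m => rfl
  have hmul : ∀ m n, e m * e n = if m = n then e m else 0 := by
    intro m n
    split_ifs with hmn
    · rw [← hmn]; exact he m
    · exact horth m n hmn
  have hygl : IsGroupLikeElem S y := by
    rw [isGroupLikeElem_iff_coeff]
    refine ⟨?_, fun m => by rw [hy]; exact he m, fun m n hmn => by rw [hy, hy]; exact horth m n hmn⟩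
    apply h.2 _ _ _ IsIdempotentElem.one
    · rw [Finsupp.sum, map_sum, map_one]
      have h2 := (g.bc π).sum_repr hx₀
      rw [Finsupp.sum] at h2
      rw [← h2]
      simp only [hy, he']
      apply Finset.sum_subset
      · intro m hm
        rw [Finsupp.mem_support_iff] at hm ⊢
        exact hz m hm
      · intro m _ hm
        rw [Finsupp.mem_support_iff, not_not, hy] at hm
        rw [← he', hm, map_zero]
    · rw [Finsupp.sum]
      change (∑ m ∈ y.coeff.support, e m) * (∑ m ∈ y.coeff.support, e m) = ∑ m ∈ y.coeff.support, e m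
      rw [Finset.sum_mul_sum]
      simp only [hmul]
      apply Finset.sum_congr rfl
      intro m hm
      rw [Finset.sum_ite_eq, if_pos hm]
  refine ⟨g.bialgEquiv y, hygl.map g.bialgEquiv, ?_⟩
  apply (g.bc π).b.repr.injective
  ext m
  have h3 := g.bc_repr π (g.bialgEquiv y) m
  refine h3.trans ?_
  have h4 : ∀ z : MonoidAlgebra S M, g.b.repr (g.bialgEquiv z) m = z.coeff m := by
    intro z
    induction z using MonoidAlgebra.induction_linear with
    | zero => simp
    | add a b ha hb => simp only [map_add, Finsupp.add_apply, MonoidAlgebra.coeff_add, ha, hb]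
    | single n s => simp [Finsupp.single_apply]
  rw [h4, hy, he']

theorem hom_ext_split {N : Type*} [CommMonoid N] (e : S ⊗[R] C ≃ₐc[S] MonoidAlgebra S N)
    {P : Type*} [AddCommMonoid P] (F G : S ⊗[R] C → P)
    (hF : ∀ x y, F (x + y) = F x + F y) (hG : ∀ x y, G (x + y) = G x + G y)
    (hF0 : F 0 = 0) (hG0 : G 0 = 0)
    (h : ∀ (r : S) (n : N), F (r • e.symm (MonoidAlgebra.single n 1)) =
      G (r • e.symm (MonoidAlgebra.single n 1))) (x : S ⊗[R] C) : F x = G x := by
  obtain ⟨z, rfl⟩ := EquivLike.surjective e.symm x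
  induction z using MonoidAlgebra.induction_linear with
  | zero => rw [map_zero, hF0, hG0]
  | add x y hx hy => rw [map_add, hF, hG, hx, hy]
  | single n r =>
    have : (MonoidAlgebra.single n r : MonoidAlgebra S N) = r • MonoidAlgebra.single n 1 := by simp
    rw [this, map_smul]
    exact h r n

theorem uniq_split (hU : GLUn B π) {N : Type*} [CommMonoid N] (e : S ⊗[R] C ≃ₐc[S] MonoidAlgebra S N)
    (ψ ψ' : S ⊗[R] C →ₐc[S] S ⊗[R] B) (h : bcHom π ψ = bcHom π ψ') : ψ = ψ' := by
  apply DFunLike.ext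
  apply hom_ext_split e ψ ψ' (map_add ψ) (map_add ψ') (map_zero ψ) (map_zero ψ')
  intro r n
  rw [map_smul, map_smul]
  congr 1
  have h0 : IsGroupLikeElem S (e.symm (MonoidAlgebra.single n 1)) :=
    (MonoidAlgebra.isGroupLikeElem_single_one n).map e.symm
  apply hU _ _ (h0.map ψ) (h0.map ψ')
  rw [← bcHom_map, ← bcHom_map, h]

theorem exists_split (hE : GLEx B π) (hU : GLUn B π) {N : Type*} [CommMonoid N]
    (e : S ⊗[R] C ≃ₐc[S] MonoidAlgebra S N) (ψ₀ : S₀ ⊗[R] C →ₐc[S₀] S₀ ⊗[R] B) :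
    ∃ ψ : S ⊗[R] C →ₐc[S] S ⊗[R] B, bcHom π ψ = ψ₀ := by
  have h0 : ∀ n, IsGroupLikeElem S (e.symm (MonoidAlgebra.single n 1)) := fun n =>
    (MonoidAlgebra.isGroupLikeElem_single_one n).map e.symm
  have h1 : ∀ n, IsGroupLikeElem S₀ (ψ₀ (mapL C π (e.symm (MonoidAlgebra.single n 1)))) :=
    fun n => (isGroupLikeElem_map_id π (h0 n)).map ψ₀
  choose G hG1 hG2 using fun n => hE _ (h1 n)
  let G' : N →* S ⊗[R] B :=
    { toFun := G
      map_one' := by
        apply hU _ _ (hG1 1) .one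
        rw [hG2, map_one, ← MonoidAlgebra.one_def, map_one, map_one, map_one]
      map_mul' := by
        intro m n
        apply hU _ _ (hG1 _) ((hG1 _).mul (hG1 _))
        rw [hG2, map_mul, hG2, hG2, ← map_mul, ← map_mul, ← map_mul,
          MonoidAlgebra.single_mul_single, mul_one] }
  let ψ : S ⊗[R] C →ₐc[S] S ⊗[R] B := (liftMA G' hG1).comp (e : S ⊗[R] C →ₐc[S] MonoidAlgebra S N)
  have hψ : ∀ n, ψ (e.symm (MonoidAlgebra.single n 1)) = G n := by
    intro n
    change liftMA G' hG1 (e (e.symm (MonoidAlgebra.single n 1))) = G n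
    have : e (e.symm (MonoidAlgebra.single n 1)) = MonoidAlgebra.single n 1 := e.apply_symm_apply _
    rw [this, liftMA_single, one_smul]
    rfl
  refine ⟨ψ, ?_⟩
  have key : ∀ x, mapL B π (ψ x) = ψ₀ (mapL C π x) := by
    apply hom_ext_split e (fun x => mapL B π (ψ x)) (fun x => ψ₀ (mapL C π x))
    · intro x y; simp only [map_add]
    · intro x y; simp only [map_add]
    · simp only [map_zero]
    · simp only [map_zero]
    · intro r n
      rw [map_smul, mapL_smul, hψ, mapL_smul, map_smul, hG2]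
  apply hom_ext
  intro c
  rw [← mapL_one_tmul π c, bcHom_map, key]

end

section

variable {R : Type u} [CommRing R] {C B : Type u} [CommRing C] [HopfAlgebra R C] [CommRing B]
  [HopfAlgebra R B]
variable (T : Type u) [CommRing T] [Algebra R T]
variable {ι : Type u} {S : ι → Type u} [∀ i, CommRing (S i)] [∀ i, Algebra R (S i)]

/-- `S' → T ⊗ S'` -/
abbrev pr (R T S' : Type u) [CommRing R] [CommRing T] [Algebra R T] [CommRing S'] [Algebra R S'] :
    S' →ₐ[R] T ⊗[R] S' := Algebra.TensorProduct.includeRight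

/-- `T → T ⊗ S'` -/
abbrev inT (R T S' : Type u) [CommRing R] [CommRing T] [Algebra R T] [CommRing S'] [Algebra R S'] :
    T →ₐ[R] T ⊗[R] S' := Algebra.TensorProduct.includeLeft

theorem exists_lift_of_family [Finite ι] (hS : JointlyPure R S) (hd : ∀ i, IsDiag (S i) (S i ⊗[R] C))
    (hE : ∀ i, GLEx B (pr R T (S i))) (hU : ∀ i, GLUn B (pr R T (S i)))
    (hU2 : ∀ i j, GLUn B (pr R T (S i ⊗[R] S j))) (φ₀ : T ⊗[R] C →ₐc[T] T ⊗[R] B) :
    ∃ φ : C →ₐc[R] B, ∀ c, φ₀ (1 ⊗ₜ c) = 1 ⊗ₜ φ c := by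
  have hψ : ∀ i, ∃ ψ : S i ⊗[R] C →ₐc[S i] S i ⊗[R] B,
      bcHom (pr R T (S i)) ψ = bcHom (inT R T (S i)) φ₀ := by
    intro i
    obtain ⟨N, _, ⟨e⟩⟩ := hd i
    exact exists_split (pr R T (S i)) (hE i) (hU i) e _
  choose ψ hψ using hψ
  obtain ⟨φ, hφ⟩ := exists_descent hS ψ (by
    intro i j
    have hd2 : IsDiag (S i ⊗[R] S j) ((S i ⊗[R] S j) ⊗[R] C) := isDiag_of_tower (S i) _ (hd i)
    obtain ⟨N, _, ⟨e⟩⟩ := hd2
    apply uniq_split (pr R T (S i ⊗[R] S j)) (hU2 i j) e
    have c1 : (pr R T (S i ⊗[R] S j)).comp (Algebra.TensorProduct.includeLeft : S i →ₐ[R] S i ⊗[R] S j) =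
        (Algebra.TensorProduct.map (AlgHom.id R T)
          (Algebra.TensorProduct.includeLeft : S i →ₐ[R] S i ⊗[R] S j)).comp (pr R T (S i)) := by
      ext x; simp [pr]
    have c2 : (pr R T (S i ⊗[R] S j)).comp (Algebra.TensorProduct.includeRight : S j →ₐ[R] S i ⊗[R] S j) =
        (Algebra.TensorProduct.map (AlgHom.id R T)
          (Algebra.TensorProduct.includeRight : S j →ₐ[R] S i ⊗[R] S j)).comp (pr R T (S j)) := by
      ext x; simp [pr]
    rw [bcHom_comp, bcHom_comp, c1, c2, ← bcHom_comp, ← bcHom_comp, hψ, hψ, bcHom_comp, bcHom_comp]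
    congr 1)
  refine ⟨φ, fun c => ?_⟩
  rw [← sub_eq_zero]
  apply hS
  intro i
  have h1 := congrArg (fun F : (T ⊗[R] S i) ⊗[R] C →ₐc[T ⊗[R] S i] (T ⊗[R] S i) ⊗[R] B => F (1 ⊗ₜ c)) (hψ i)
  simp only [bcHom_one_tmul] at h1
  rw [← hφ, mapL_one_tmul] at h1
  have h2 : ∀ z : T ⊗[R] B, (TensorProduct.leftComm R (S i) T B) ((1 : S i) ⊗ₜ[R] z) =
      TensorProduct.assoc R T (S i) B (mapL B (inT R T (S i)) z) := by
    intro z
    induction z using TensorProduct.induction_on with
    | zero => simp only [TensorProduct.tmul_zero, map_zero]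
    | tmul s a => simp [inT, mapL]
    | add a b ha hb => simp only [map_add, TensorProduct.tmul_add, ha, hb]
  apply (TensorProduct.leftComm R (S i) T B).injective
  rw [h2, map_sub, map_sub, ← h1, map_zero, mapL_one_tmul, sub_self]

theorem hom_uniq_of_family (hS : JointlyPure R S) (hd : ∀ i, IsDiag (S i) (S i ⊗[R] C))
    (hU : ∀ i, GLUn B (pr R T (S i))) (φ ψ : C →ₐc[R] B)
    (h : ∀ c, (1 : T) ⊗ₜ[R] φ c = (1 : T) ⊗ₜ[R] ψ c) : φ = ψ := by
  ext c
  rw [← sub_eq_zero]
  apply hS
  intro i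
  obtain ⟨N, _, ⟨e⟩⟩ := hd i
  have h1 : mapBialg (S i) φ = mapBialg (S i) ψ := by
    apply uniq_split (pr R T (S i)) (hU i) e
    apply hom_ext
    intro c
    rw [bcHom_one_tmul, bcHom_one_tmul, mapBialg_tmul, mapBialg_tmul, mapL_one_tmul, mapL_one_tmul]
    have h2 := congrArg (mapL B (inT R T (S i))) (h c)
    rwa [mapL_one_tmul, mapL_one_tmul] at h2
  have h2 := congrArg (fun F : S i ⊗[R] C →ₐc[S i] S i ⊗[R] B => F (1 ⊗ₜ c)) h1
  simp only [mapBialg_tmul] at h2
  rw [TensorProduct.tmul_sub, sub_eq_zero]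
  exact h2

end

end K201.GenHom
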