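import Groth.Agent.Sga3A.FibMain
import Groth.Agent.Sga3A.MTTorsion
import Groth.Agent.Sga3A.MTConst
import Groth.Agent.Sga3A.TorsionDense
import Mathlib.RingTheory.LocalRing.Module

/-!
# Flat groups with fibres of multiplicative type and finite torsion kernels
-/

set_option autoImplicit false
universe u

open TensorProduct SGA3b IsLocalRing

namespace K201.TorsFib

open Groth.Agent.Sga3A
open FibRes BCIso MTBasis FibDef FibDomain FibCompat

theorem finite_torsion_baseChange {R A : Type u} [CommRing R] [CommRing A] [HopfAlgebra R A]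
    (S : Type u) [CommRing S] [Algebra R S] (n : ℕ)
    (h : Module.Finite R (A ⧸ torsionIdeal R A n)) :
    Module.Finite S ((S ⊗[R] A) ⧸ torsionIdeal S (S ⊗[R] A) n) := by
  let π : S ⊗[R] A →ₐ[S] (S ⊗[R] A) ⧸ torsionIdeal S (S ⊗[R] A) n :=
    Ideal.Quotient.mkₐ S (torsionIdeal S (S ⊗[R] A) n)
  let q : (A ⧸ torsionIdeal R A n) →ₐ[R] (S ⊗[R] A) ⧸ torsionIdeal S (S ⊗[R] A) n :=
    Ideal.Quotient.liftₐ _ ((π.restrictScalars R).comp
      (Algebra.TensorProduct.includeRight : A →ₐ[R] S ⊗[R] A)) (by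
        intro a ha
        exact Ideal.Quotient.eq_zero_iff_mem.mpr
          (TorsionDense.torsionIdeal_le_comap_includeRight R A S n ha))
  let f : S ⊗[R] (A ⧸ torsionIdeal R A n) →ₐ[S] (S ⊗[R] A) ⧸ torsionIdeal S (S ⊗[R] A) n :=
    Algebra.TensorProduct.lift (Algebra.ofId _ _) q (fun _ _ => .all _ _)
  refine Module.Finite.of_surjective f.toLinearMap ?_
  intro y
  obtain ⟨y, rfl⟩ := Ideal.Quotient.mk_surjective y
  induction y using TensorProduct.induction_on with
  | zero => exact ⟨0, by rw [map_zero, map_zero]⟩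
  | add x y hx hy =>
    obtain ⟨a, ha⟩ := hx
    obtain ⟨b, hb⟩ := hy
    exact ⟨a + b, by rw [map_add, map_add, ha, hb]⟩
  | tmul s a =>
    refine ⟨s ⊗ₜ Ideal.Quotient.mk _ a, ?_⟩
    change f (s ⊗ₜ Ideal.Quotient.mk _ a) = _
    simp only [f, Algebra.TensorProduct.lift_tmul]
    change algebraMap S _ s * π (1 ⊗ₜ a) = π (s ⊗ₜ a)
    rw [← Algebra.smul_def, ← map_smul, TensorProduct.smul_tmul', smul_eq_mul, mul_one]

theorem finrank_le {R T L : Type*} [CommRing R] [IsLocalRing R] [AddCommGroup T] [Module R T]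
    [Module.Finite R T] [Field L] [Algebra R L] :
    Module.finrank L (L ⊗[R] T) ≤ Module.finrank (ResidueField R) (ResidueField R ⊗[R] T) := by
  classical
  let b := Module.finBasis (ResidueField R) (ResidueField R ⊗[R] T)
  obtain ⟨v, hv⟩ := (TensorProduct.mk_surjective R T (ResidueField R)
    Ideal.Quotient.mk_surjective).comp_left b
  have h1 : Submodule.span R (Set.range v) = ⊤ :=
    IsLocalRing.span_eq_top_of_tmul_eq_basis v b (fun i => congrFun hv i)
  have h2 : Submodule.span L (Set.range fun i => (1 : L) ⊗ₜ[R] v i) = ⊤ := by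
    rw [← Submodule.baseChange_top, ← h1, Submodule.baseChange_span, ← Set.range_comp]
    rfl
  have h3 : Module.finrank L (Submodule.span L (Set.range fun i => (1 : L) ⊗ₜ[R] v i)) ≤ _ :=
    finrank_range_le_card _
  rw [h2, finrank_top, Fintype.card_fin] at h3
  exact h3

/-- A surjection of finitely generated commutative groups which is not more than
bijective modulo `n` for all `n` is injective. -/
theorem injective_of_card_le {N M : Type*} [CommGroup N] [CommGroup M] [Group.FG N]
    [Group.FG M] (h : N →* M) (hs : Function.Surjective h)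
    (hc : ∀ l : ℕ, 0 < l → Nat.card (Q N l) ≤ Nat.card (Q M l)) : Function.Injective h := by
  rw [injective_iff_map_eq_one]
  intro n hn
  by_contra hne
  obtain ⟨l, hl, hl'⟩ := exists_notMem_range hne
  have hfN : Finite (Q N l) := MTTorsion.finite_Q N l hl
  have hfM : Finite (Q M l) := MTTorsion.finite_Q M l hl
  let φ : Q N l →* Q M l := QuotientGroup.map _ _ h (by
    rintro _ ⟨x, rfl⟩
    exact ⟨h x, by simp [powMonoidHom_apply]⟩)
  have hφs : Function.Surjective φ := by
    intro y
    obtain ⟨y, rfl⟩ := QuotientGroup.mk_surjective y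
    obtain ⟨x, rfl⟩ := hs y
    exact ⟨QuotientGroup.mk x, rfl⟩
  have hφ : Function.Bijective φ :=
    (Nat.bijective_iff_surjective_and_card φ).mpr
      ⟨hφs, le_antisymm (hc l hl) (Nat.card_le_card_of_surjective φ hφs)⟩
  apply hl'
  have h1 : φ (QuotientGroup.mk n) = φ 1 := by
    rw [map_one]
    change (QuotientGroup.mk (h n) : Q M l) = 1
    rw [hn]; rfl
  exact (QuotientGroup.eq_one_iff n).mp (hφ.1 h1)

theorem card_Q {R A S M : Type u} [CommRing R] [CommRing A] [HopfAlgebra R A] [Field S]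
    [Algebra R S] [CommGroup M] [Group.FG M] (e : (S ⊗[R] A) ≃ₐc[S] MonoidAlgebra S M) (l : ℕ)
    (hl : 0 < l) :
    Module.finrank S (S ⊗[R] (A ⧸ torsionIdeal R A l)) = Nat.card (Q M l) := by
  have hfM : Finite (Q M l) := MTTorsion.finite_Q M l hl
  have := Fintype.ofFinite (Q M l)
  rw [(MTTorsion.equivQ (GBasis.ofBialgEquiv e) l).toLinearEquiv.finrank_eq,
    Module.finrank_eq_card_basis (MonoidAlgebra.basis (Q M l) S), Nat.card_eq_fintype_card]

/-- The domain case. -/
theorem exists_equiv_of_domain {R A M L N : Type u} [CommRing R] [IsDomain R] [IsLocalRing R]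
    [CommRing A] [HopfAlgebra R A] [CommGroup M] [Group.FG M] [Field L] [Algebra R L]
    [CommGroup N] [Module.Flat R A] [Algebra.FinitePresentation R A]
    [Algebra (FractionRing R) L] [IsScalarTower R (FractionRing R) L]
    (hR : ∃ r : R, r ≠ 0 ∧ ¬ IsUnit r)
    (q : ∀ l : ℕ, A →ₐc[R] MonoidAlgebra R (Q M l))
    (hq : ∀ l, 0 < l → Function.Surjective (q l))
    (e : (L ⊗[R] A) ≃ₐc[L] MonoidAlgebra L N)
    (e₀ : (ResidueField R ⊗[R] A) ≃ₐc[ResidueField R] MonoidAlgebra (ResidueField R) M)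
    (hfin : ∀ n : ℕ, 0 < n → Module.Finite R (A ⧸ torsionIdeal R A n))
    (hC : ∀ r : R, r ≠ 0 → ¬ IsUnit r → Compat q r) :
    Nonempty (A ≃ₐc[R] MonoidAlgebra R M) := by
  have hRL : Function.Injective (algebraMap R L) := by
    rw [IsScalarTower.algebraMap_eq R (FractionRing R) L]
    exact (algebraMap (FractionRing R) L).injective.comp (IsFractionRing.injective R _)
  obtain ⟨h, hsurj, hl⟩ := exists_hom hR q hq e hC
  have hNfg : Group.FG N := MTConst.fg_of_gbasis (GBasis.ofBialgEquiv e)
  have hinj : Function.Injective h := by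
    refine injective_of_card_le h hsurj fun l hl0 => ?_
    have := hfin l hl0
    rw [← card_Q e l hl0, ← card_Q e₀ l hl0]
    exact finrank_le
  obtain ⟨ρ, hs, hρ, hρq⟩ := exists_rho q e hC h hsurj hl
  have hρi : Function.Injective ρ := by
    intro a b hab
    have h1 : MonoidAlgebra.mapDomainBialgHom L h (e (1 ⊗ₜ a)) =
        MonoidAlgebra.mapDomainBialgHom L h (e (1 ⊗ₜ b)) := by rw [← hρ, ← hρ, hab]
    have h2 : e (1 ⊗ₜ a) = e (1 ⊗ₜ b) := by
      refine MonoidAlgebra.mapDomain_injective hinj ?_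
      exact h1
    have h3 : (1 : L) ⊗ₜ[R] a = 1 ⊗ₜ b := EquivLike.injective e h2
    exact FibDomain.one_tmul_injective hRL h3
  exact ⟨BialgEquiv.ofBijective ρ ⟨hρi, hs⟩⟩

/-- The domain case. -/
theorem exists_equiv_of_domain' (R A M : Type u) [CommRing R] [IsDomain R] [HenselianLocalRing R]
    [IsSepClosed (ResidueField R)] (hR : ¬ IsField R) [CommRing A] [HopfAlgebra R A] [CommGroup M]
    [Group.FG M] [Module.Flat R A] [Algebra.FinitePresentation R A]
    (hK : IsMultType (FractionRing R) (FractionRing R ⊗[R] A))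
    (hfin : ∀ n : ℕ, 0 < n → Module.Finite R (A ⧸ torsionIdeal R A n))
    (h : ∀ r ∈ maximalIdeal R, r ≠ 0 → DiagMod R A M (Ideal.span {r}))
    (e₀ : (ResidueField R ⊗[R] A) ≃ₐc[ResidueField R] MonoidAlgebra (ResidueField R) M) :
    Nonempty (A ≃ₐc[R] MonoidAlgebra R M) := by
  classical
  choose q hqs hq using FibTors.exists_quotient_torsion R A M hR hK h e₀
  let q' : ∀ l : ℕ, A →ₐc[R] MonoidAlgebra R (Q M l) := fun l =>
    if hl : 0 < l then q l hl else
      (BialgHom.ofAlgHom (Algebra.ofId R (MonoidAlgebra R (Q M l))) (by ext) (by ext)).comp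
        (Bialgebra.counitBialgHom R A)
  have hq' : ∀ l (hl : 0 < l), q' l = q l hl := fun l hl => dif_pos hl
  have hC : ∀ r : R, r ≠ 0 → ¬ IsUnit r → Compat q' r := fun r hr0 hru =>
    compat_of_residue q' e₀ (fun l hl a => by rw [hq' l hl, hq l hl]; rfl) r hru
      (h r ((mem_maximalIdeal r).mpr hru) hr0)
  obtain ⟨L, _, _, N, _, ⟨e⟩⟩ := FibLocal.exists_splitting_field _ _ hK
  let _ : Algebra R L := ((algebraMap (FractionRing R) L).comp (algebraMap R (FractionRing R))).toAlgebra
  have : IsScalarTower R (FractionRing R) L := IsScalarTower.of_algebraMap_eq (fun _ => rfl)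
  have hR' : ∃ r : R, r ≠ 0 ∧ ¬ IsUnit r := by
    by_contra hcon
    push Not at hcon
    exact hR ⟨⟨0, 1, zero_ne_one⟩, mul_comm, fun {a} ha => (hcon a ha).exists_right_inv⟩
  exact exists_equiv_of_domain hR' q' (fun l hl => by rw [hq' l hl]; exact hqs l hl)
    ((cancelBialg R (FractionRing R) L A).symm.trans e) e₀ hfin hC

/-- The strictly henselian case. -/
theorem exists_equiv_of_fibres (R A M : Type u) [CommRing R] [HenselianLocalRing R]
    [IsSepClosed (ResidueField R)] [CommRing A] [HopfAlgebra R A] [CommGroup M] [Group.FG M]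
    [Module.Flat R A] [Algebra.FinitePresentation R A]
    (e₀ : (ResidueField R ⊗[R] A) ≃ₐc[ResidueField R] MonoidAlgebra (ResidueField R) M)
    (hfib : ∀ (p : Ideal R) [p.IsPrime], IsMultType p.ResidueField (p.ResidueField ⊗[R] A))
    (hfin : ∀ n : ℕ, 0 < n → Module.Finite R (A ⧸ torsionIdeal R A n)) :
    Nonempty (A ≃ₐc[R] MonoidAlgebra R M) := by
  classical
  by_contra hcon
  have hbot : ¬ DiagMod R A M ⊥ := fun h => hcon (FibLocal.diagMod_iff_of_bot h)
  obtain ⟨J, -, hJ⟩ := zorn_le_nonempty₀ {J : Ideal R | J ≤ maximalIdeal R ∧ ¬ DiagMod R A M J}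
    (by
      intro c hcs hc y hy
      refine ⟨sSup c, ⟨sSup_le fun J hJ => (hcs hJ).1, fun h => ?_⟩, fun z hz => le_sSup hz⟩
      obtain ⟨J, hJc, hJ⟩ := FibChain.exists_mem_diagMod_of_sSup R A M c ⟨y, hy⟩ hc h
      exact (hcs hJc).2 hJ) ⊥ ⟨bot_le, hbot⟩
  obtain ⟨⟨hJm, hJn⟩, hJmax⟩ := hJ
  have hJtop : J ≠ ⊤ := fun h => (maximalIdeal.isMaximal R).ne_top (top_le_iff.mp (h ▸ hJm))
  have hens : HenselianLocalRing (R ⧸ J) := FibLocal.henselianLocalRing_quotient R J hJtop
  have hsep : IsSepClosed (ResidueField (R ⧸ J)) := FibLocal.isSepClosed_residueField_quotient R J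
  -- larger ideals
  have hup : ∀ I : Ideal (R ⧸ J), I ≠ ⊥ → I ≤ maximalIdeal (R ⧸ J) →
      DiagMod (R ⧸ J) ((R ⧸ J) ⊗[R] A) M I := by
    intro I hI hIm
    have h1 : J ≤ I.comap (Ideal.Quotient.mk J) := by
      intro x hx
      rw [Ideal.mem_comap, Ideal.Quotient.eq_zero_iff_mem.mpr hx]
      exact I.zero_mem
    have h2 : ¬ (I.comap (Ideal.Quotient.mk J) ≤ J) := by
      intro h
      apply hI
      rw [eq_bot_iff]
      intro x hx
      obtain ⟨x, rfl⟩ := Ideal.Quotient.mk_surjective x
      exact Ideal.Quotient.eq_zero_iff_mem.mpr (h hx)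
    have h3 : I.comap (Ideal.Quotient.mk J) ≤ maximalIdeal R := by
      refine IsLocalRing.le_maximalIdeal fun h => ?_
      rw [Ideal.comap_eq_top_iff] at h
      rw [h] at hIm
      exact (maximalIdeal.isMaximal (R ⧸ J)).ne_top (top_le_iff.mp hIm)
    have h4 : DiagMod R A M (I.comap (Ideal.Quotient.mk J)) := by
      by_contra h5
      exact h2 (hJmax ⟨h3, h5⟩ h1)
    let f : (R ⧸ I.comap (Ideal.Quotient.mk J)) →ₐ[R] (R ⧸ J) ⧸ I :=
      Ideal.quotientMapₐ I (Ideal.Quotient.mkₐ R J) le_rfl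
    obtain ⟨e⟩ := TypeLemma.diag_of_algHom f h4
    exact ⟨(cancelBialg R (R ⧸ J) ((R ⧸ J) ⧸ I) A).trans e⟩
  have hdom : IsDomain (R ⧸ J) := by
    have : NoZeroDivisors (R ⧸ J) := by
      refine ⟨fun {a b} hab => ?_⟩
      by_contra hcon'
      push Not at hcon'
      have ha : a ∈ maximalIdeal (R ⧸ J) := by
        rw [mem_maximalIdeal]
        intro hu
        exact hcon'.2 ((hu.mul_right_eq_zero).mp hab)
      have hb : b ∈ maximalIdeal (R ⧸ J) := by
        rw [mem_maximalIdeal]
        intro hu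
        exact hcon'.1 ((hu.mul_left_eq_zero).mp hab)
      apply hJn
      exact FibLocal.diagMod_iff_of_bot (FibGlue.diagMod_bot_of_mul_eq_zero (R ⧸ J) ((R ⧸ J) ⊗[R] A) M a b ha hb hab
        (hup _ (by rw [Ne, Ideal.span_singleton_eq_bot]; exact hcon'.1)
          (by rwa [Ideal.span_singleton_le_iff_mem]))
        (hup _ (by rw [Ne, Ideal.span_singleton_eq_bot]; exact hcon'.2)
          (by rwa [Ideal.span_singleton_le_iff_mem])))
    exact NoZeroDivisors.to_isDomain _
  have hprime : J.IsPrime := (Ideal.Quotient.isDomain_iff_prime J).mp hdom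
  have hnf : ¬ IsField (R ⧸ J) := by
    intro h
    have h1 : J.IsMaximal := Ideal.Quotient.maximal_of_isField J h
    have h2 : J = maximalIdeal R := eq_maximalIdeal h1
    subst h2
    exact hJn ⟨e₀⟩
  -- closed fibre
  have hlh : IsLocalHom (Ideal.Quotient.mk J) := Ideal.Quotient.mk_surjective.isLocalHom _
  let g : ResidueField R →ₐ[R] ResidueField (R ⧸ J) :=
    { ResidueField.map (Ideal.Quotient.mk J) with
      commutes' := fun r => rfl }
  obtain ⟨e₁⟩ := TypeLemma.diag_of_algHom g ⟨e₀⟩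
  -- generic fibre
  have hm := hfib J
  let K' := FractionRing (R ⧸ J)
  let i₀ : J.ResidueField ≃ₐ[R ⧸ J] K' := IsLocalization.algEquiv (nonZeroDivisors (R ⧸ J)) _ _
  let i : J.ResidueField ≃ₐ[R] K' := i₀.restrictScalars R
  have hK : IsMultType K' (K' ⊗[R ⧸ J] ((R ⧸ J) ⊗[R] A)) := by
    let _ : Algebra J.ResidueField K' := i.toRingHom.toAlgebra
    have : IsScalarTower R J.ResidueField K' := .of_algebraMap_eq' (i : J.ResidueField →ₐ[R] K').comp_algebraMap.symm
    exact FibLocal.isDiag_congr' ((cancelBialg R J.ResidueField K' A).trans (cancelBialg R (R ⧸ J) K' A).symm)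
      (NilDescent.isMultType_baseChange K' hm)
  refine hJn (exists_equiv_of_domain' (R ⧸ J) ((R ⧸ J) ⊗[R] A) M hnf hK
    (fun n hn => finite_torsion_baseChange (R ⧸ J) n (hfin n hn)) ?_
    ((cancelBialg R (R ⧸ J) (ResidueField (R ⧸ J)) A).trans e₁))
  intro r hr hr0
  exact hup _ (by rw [Ne, Ideal.span_singleton_eq_bot]; exact hr0)
    (by rwa [Ideal.span_singleton_le_iff_mem])

/-- All fibres over fields are of multiplicative type. -/
def AllFib (R A : Type u) [CommRing R] [CommRing A] [HopfAlgebra R A] : Prop :=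
  ∀ (L : Type u) [Field L] [Algebra R L], IsMultType L (L ⊗[R] A)

theorem allFib_of_fibres {R A : Type u} [CommRing R] [CommRing A] [HopfAlgebra R A]
    (hfib : ∀ (p : Ideal R) [p.IsPrime], IsMultType p.ResidueField (p.ResidueField ⊗[R] A)) :
    AllFib R A := by
  intro L _ _
  have hp : (RingHom.ker (algebraMap R L)).IsPrime := RingHom.ker_isPrime _
  have h1 := hfib (RingHom.ker (algebraMap R L))
  let φ : (RingHom.ker (algebraMap R L)).ResidueField →ₐ[R] L :=
    Ideal.ResidueField.liftₐ _ (Algebra.ofId R L) le_rfl (by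
      intro x hx
      simp only [Submonoid.mem_comap, IsUnit.mem_submonoid_iff]
      exact (isUnit_iff_ne_zero).mpr (fun h => hx h))
  let _ : Algebra (RingHom.ker (algebraMap R L)).ResidueField L := φ.toRingHom.toAlgebra
  have : IsScalarTower R (RingHom.ker (algebraMap R L)).ResidueField L :=
    .of_algebraMap_eq' φ.comp_algebraMap.symm
  let e := cancelBialg R (RingHom.ker (algebraMap R L)).ResidueField L A
  exact FibLocal.isDiag_congr' e (NilDescent.isMultType_baseChange L h1)

theorem AllFib.baseChange {R A : Type u} [CommRing R] [CommRing A] [HopfAlgebra R A]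
    (h : AllFib R A) (S : Type u) [CommRing S] [Algebra R S] : AllFib S (S ⊗[R] A) := by
  intro L _ _
  let _ : Algebra R L := ((algebraMap S L).comp (algebraMap R S)).toAlgebra
  have : IsScalarTower R S L := .of_algebraMap_eq' rfl
  exact FibLocal.isDiag_congr' (cancelBialg R S L A).symm (h L)

/-- The local case. -/
theorem isMultType_of_isLocalRing (R A : Type u) [CommRing R] [IsLocalRing R] [CommRing A]
    [HopfAlgebra R A] [Module.Flat R A] [Algebra.FinitePresentation R A] (h : AllFib R A)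
    (hfin : ∀ n : ℕ, 0 < n → Module.Finite R (A ⧸ torsionIdeal R A n)) :
    IsMultType R A := by
  obtain ⟨S, _, _, _, _, hS⟩ := Groth.Agent.S0537.result R
  have hff : Module.FaithfullyFlat R S := Groth.Agent.S0539.result R S
  have hhens : HenselianLocalRing S := Hensel.IsStrictHenselization.henselian R
  have hsep : IsSepClosed (ResidueField S) :=
    (Hensel.IsStrictHenselization.isSepClosure (R := R) (S := S)).sep_closed
  have h' := h.baseChange S
  obtain ⟨M, _, ⟨e₀⟩⟩ := FibMain.isDiag_of_isSepClosed (ResidueField S)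
    (ResidueField S ⊗[S] (S ⊗[R] A)) inferInstance (h' (ResidueField S))
  have hfg : Group.FG M := by
    have : Algebra.FiniteType (ResidueField S) (MonoidAlgebra (ResidueField S) M) :=
      Algebra.FiniteType.equiv inferInstance
        (e₀ : (ResidueField S ⊗[S] (S ⊗[R] A)) ≃ₐ[ResidueField S] _)
    exact MonoidAlgebra.finiteType_iff_group_fg.mp this
  obtain ⟨e⟩ := exists_equiv_of_fibres S (S ⊗[R] A) M e₀ (fun p _ => h' p.ResidueField)
    (fun n hn => finite_torsion_baseChange S n (hfin n hn))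
  exact FibMain.isMultType_of_const ⟨S, _, _, hff, M, _, ⟨e⟩⟩

theorem isMultType_of_fibres (R : Type u) [CommRing R] (A : Type u) [CommRing A] [HopfAlgebra R A]
    [Module.Flat R A] (hfp : Algebra.FinitePresentation R A)
    (hfib : ∀ (p : Ideal R) [p.IsPrime], IsMultType p.ResidueField (p.ResidueField ⊗[R] A))
    (hfin : ∀ n : ℕ, 0 < n → Module.Finite R (A ⧸ torsionIdeal R A n)) :
    IsMultType R A := by
  have h := allFib_of_fibres hfib
  refine FibSpread.isMultType_of_forall_localization' R A @Groth.Agent.S2973.result fun p _ => ?_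
  exact isMultType_of_isLocalRing _ _ (h.baseChange (Localization.AtPrime p))
    (fun n hn => finite_torsion_baseChange _ n (hfin n hn))

end K201.TorsFib
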