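import Groth.Agent.Sga3A.MTFamily

/-!
Base change of bialgebra maps `Y ⊗ C → Y ⊗ B` along `Y → Z`, and descent of bialgebra maps along
jointly pure families.
-/

set_option autoImplicit false

open TensorProduct SGA3b Coalgebra Bialgebra
open Groth.Agent.Sga3A.BCIso Groth.Agent.Sga3A.GLBasic

namespace K201.HomBC

universe u

section

variable {R : Type*} [CommRing R] {C B D : Type*} [CommRing C] [Bialgebra R C] [CommRing B]
  [Bialgebra R B] [CommRing D] [Bialgebra R D]
variable {Y Z W : Type*} [CommRing Y] [CommRing Z] [CommRing W] [Algebra R Y] [Algebra R Z] [Algebra R W]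

variable (B) in
/-- `Y ⊗ B → Z ⊗ B` -/
noncomputable abbrev mapL (g : Y →ₐ[R] Z) : Y ⊗[R] B →ₐ[R] Z ⊗[R] B :=
  Algebra.TensorProduct.map g (AlgHom.id R B)

theorem mapL_comp (g : Y →ₐ[R] Z) (k : Z →ₐ[R] W) (x : Y ⊗[R] B) :
    mapL B k (mapL B g x) = mapL B (k.comp g) x := by
  induction x using TensorProduct.induction_on with
  | zero => simp only [map_zero]
  | tmul s a => simp [mapL]
  | add x y hx hy => simp only [map_add, hx, hy]

theorem mapL_smul (g : Y →ₐ[R] Z) (s : Y) (z : Y ⊗[R] B) : mapL B g (s • z) = g s • mapL B g z := by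
  induction z using TensorProduct.induction_on with
  | zero => simp only [map_zero, smul_zero]
  | tmul t b => simp [mapL, TensorProduct.smul_tmul']
  | add x y hx hy => simp only [smul_add, map_add, hx, hy]

theorem hom_ext {φ ψ : Y ⊗[R] C →ₐc[Y] Y ⊗[R] B} (h : ∀ c, φ (1 ⊗ₜ c) = ψ (1 ⊗ₜ c)) : φ = ψ := by
  ext x
  induction x using TensorProduct.induction_on with
  | zero => simp only [map_zero]
  | tmul s a =>
    have : s ⊗ₜ[R] a = s • ((1 : Y) ⊗ₜ[R] a) := by rw [TensorProduct.smul_tmul', smul_eq_mul, mul_one]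
    rw [this, map_smul, map_smul, h]
  | add x y hx hy => simp only [map_add, hx, hy]

theorem cancel_one_tmul (g : Y →ₐ[R] Z) (x : Y ⊗[R] B) :
    letI := g.toRingHom.toAlgebra
    haveI : IsScalarTower R Y Z := IsScalarTower.of_algebraMap_eq fun r => (g.commutes r).symm
    cancelBialg R Y Z B (1 ⊗ₜ x) = mapL B g x := by
  let _ := g.toRingHom.toAlgebra
  have : IsScalarTower R Y Z := IsScalarTower.of_algebraMap_eq fun r => (g.commutes r).symm
  induction x using TensorProduct.induction_on with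
  | zero => simp only [TensorProduct.tmul_zero, map_zero]
  | tmul s a =>
    rw [cancelBialg_tmul, one_mul]
    rfl
  | add x y hx hy => simp only [TensorProduct.tmul_add, map_add, hx, hy]

/-- base change of a bialgebra map along `Y → Z` -/
noncomputable def bcHom (g : Y →ₐ[R] Z) (φ : Y ⊗[R] C →ₐc[Y] Y ⊗[R] B) : Z ⊗[R] C →ₐc[Z] Z ⊗[R] B :=
  letI := g.toRingHom.toAlgebra
  haveI : IsScalarTower R Y Z := IsScalarTower.of_algebraMap_eq fun r => (g.commutes r).symm
  ((cancelBialg R Y Z B : _ →ₐc[Z] _).comp (mapBialg Z φ)).comp ((cancelBialg R Y Z C).symm : _ →ₐc[Z] _)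

theorem bcHom_one_tmul (g : Y →ₐ[R] Z) (φ : Y ⊗[R] C →ₐc[Y] Y ⊗[R] B) (c : C) :
    bcHom g φ (1 ⊗ₜ c) = mapL B g (φ (1 ⊗ₜ c)) := by
  let _ := g.toRingHom.toAlgebra
  have : IsScalarTower R Y Z := IsScalarTower.of_algebraMap_eq fun r => (g.commutes r).symm
  have h1 : bcHom g φ (1 ⊗ₜ c) = cancelBialg R Y Z B (mapBialg Z φ ((cancelBialg R Y Z C).symm (1 ⊗ₜ c))) := rfl
  rw [h1, cancelBialg_symm_tmul, mapBialg_tmul]
  exact cancel_one_tmul g _

theorem bcHom_map (g : Y →ₐ[R] Z) (φ : Y ⊗[R] C →ₐc[Y] Y ⊗[R] B) (x : Y ⊗[R] C) :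
    bcHom g φ (mapL C g x) = mapL B g (φ x) := by
  induction x using TensorProduct.induction_on with
  | zero => simp only [map_zero]
  | tmul s a =>
    have h1 : s ⊗ₜ[R] a = s • ((1 : Y) ⊗ₜ[R] a) := by rw [TensorProduct.smul_tmul', smul_eq_mul, mul_one]
    have h2 : mapL C g (s ⊗ₜ[R] a) = g s • ((1 : Z) ⊗ₜ[R] a) := by
      simp [mapL, TensorProduct.smul_tmul']
    rw [h2, map_smul, bcHom_one_tmul, h1, map_smul, mapL_smul]
  | add x y hx hy => simp only [map_add, hx, hy]

theorem bcHom_comp (g : Y →ₐ[R] Z) (k : Z →ₐ[R] W) (φ : Y ⊗[R] C →ₐc[Y] Y ⊗[R] B) :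
    bcHom k (bcHom g φ) = bcHom (k.comp g) φ := by
  apply hom_ext
  intro c
  rw [bcHom_one_tmul, bcHom_one_tmul, bcHom_one_tmul, mapL_comp]

/-- `mapBialg` in terms of `mapL`. -/
theorem mapL_one_tmul (g : Y →ₐ[R] Z) (b : B) : mapL B g (1 ⊗ₜ b) = 1 ⊗ₜ b := by
  simp [mapL]

end

section

variable {R : Type u} [CommRing R] {C B : Type u} [CommRing C] [Bialgebra R C] [CommRing B]
  [Bialgebra R B]
variable {ι : Type u} {S : ι → Type u} [∀ i, CommRing (S i)] [∀ i, Algebra R (S i)]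

theorem assoc_mapL_left (Y Z : Type u) [CommRing Y] [CommRing Z] [Algebra R Y] [Algebra R Z] (z : Y ⊗[R] B) :
    TensorProduct.assoc R Y Z B (mapL B (Algebra.TensorProduct.includeLeft : Y →ₐ[R] Y ⊗[R] Z) z) =
      (TensorProduct.mk R Z B 1).lTensor Y z := by
  induction z using TensorProduct.induction_on with
  | zero => simp only [map_zero]
  | tmul s a => simp [mapL]
  | add a b ha hb => simp only [map_add, ha, hb]

theorem assoc_mapL_right (Y Z : Type u) [CommRing Y] [CommRing Z] [Algebra R Y] [Algebra R Z] (z : Z ⊗[R] B) :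
    TensorProduct.assoc R Y Z B (mapL B (Algebra.TensorProduct.includeRight : Z →ₐ[R] Y ⊗[R] Z) z) =
      (1 : Y) ⊗ₜ[R] z := by
  induction z using TensorProduct.induction_on with
  | zero => simp only [map_zero, TensorProduct.tmul_zero]
  | tmul s a => simp [mapL]
  | add a b ha hb => simp only [map_add, TensorProduct.tmul_add, ha, hb]

/-- a map which becomes a bialgebra map after a jointly pure family of base changes is one. -/
theorem exists_of_family (hS : JointlyPure R S) (ψ : ∀ i, S i ⊗[R] C →ₐc[S i] S i ⊗[R] B)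
    (f : C → B) (hf : ∀ i c, (1 : S i) ⊗ₜ[R] f c = ψ i (1 ⊗ₜ c)) :
    ∃ φ : C →ₐc[R] B, ∀ c, φ c = f c := by
  have hmul : ∀ c d, f (c * d) = f c * f d := by
    intro c d
    rw [← sub_eq_zero]
    apply hS
    intro i
    have h1 : (1 : S i) ⊗ₜ[R] (f c * f d) = ((1 : S i) ⊗ₜ[R] f c) * ((1 : S i) ⊗ₜ[R] f d) := by
      rw [Algebra.TensorProduct.tmul_mul_tmul, one_mul]
    have h2 : (1 : S i) ⊗ₜ[R] (c * d) = ((1 : S i) ⊗ₜ[R] c) * ((1 : S i) ⊗ₜ[R] d) := by
      rw [Algebra.TensorProduct.tmul_mul_tmul, one_mul]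
    rw [TensorProduct.tmul_sub, h1, hf, hf, hf, h2, map_mul, sub_self]
  have hadd : ∀ c d, f (c + d) = f c + f d := by
    intro c d
    rw [← sub_eq_zero]
    apply hS
    intro i
    rw [TensorProduct.tmul_sub, TensorProduct.tmul_add, hf, hf, hf, TensorProduct.tmul_add, map_add, sub_self]
  have hsmul : ∀ (r : R) c, f (r • c) = r • f c := by
    intro r c
    rw [← sub_eq_zero]
    apply hS
    intro i
    have h1 : (1 : S i) ⊗ₜ[R] (r • c) = algebraMap R (S i) r • ((1 : S i) ⊗ₜ[R] c) := by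
      rw [TensorProduct.tmul_smul, algebraMap_smul]
    have h2 : (1 : S i) ⊗ₜ[R] (r • f c) = algebraMap R (S i) r • ((1 : S i) ⊗ₜ[R] f c) := by
      rw [TensorProduct.tmul_smul, algebraMap_smul]
    rw [TensorProduct.tmul_sub, h2, hf, hf, h1, map_smul, sub_self]
  have hone : f 1 = 1 := by
    rw [← sub_eq_zero]
    apply hS
    intro i
    rw [TensorProduct.tmul_sub, hf, sub_eq_zero]
    exact map_one (ψ i)
  let F : C →ₐ[R] B := AlgHom.ofLinearMap
    { toFun := f, map_add' := hadd, map_smul' := hsmul } hone hmul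
  have hF : ∀ c, F c = f c := fun _ => rfl
  refine ⟨BialgHom.ofAlgHom F ?_ ?_, hF⟩
  · ext c
    change counit (R := R) (F c) = counit (R := R) c
    rw [← sub_eq_zero]
    apply hS
    intro i
    have h1 := CoalgHomClass.counit_comp_apply (ψ i) (1 ⊗ₜ[R] c)
    rw [← hf, counit_one_tmul, counit_one_tmul] at h1
    rw [TensorProduct.tmul_sub, hF]
    have h2 : ∀ r : R, (1 : S i) ⊗ₜ[R] r = algebraMap R (S i) r ⊗ₜ[R] (1 : R) := by
      intro r
      rw [Algebra.algebraMap_eq_smul_one, TensorProduct.smul_tmul, smul_eq_mul, mul_one]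
    rw [h2, h2, h1, sub_self]
  · ext c
    change (TensorProduct.map F.toLinearMap F.toLinearMap) (comul (R := R) c) = comul (R := R) (F c)
    rw [← sub_eq_zero]
    apply hS
    intro i
    rw [TensorProduct.tmul_sub, sub_eq_zero]
    apply (TensorProduct.AlgebraTensorModule.distribBaseChange R (S i) B B).injective
    rw [← comul_one_tmul (S := S i) (F c), hF, hf]
    have h1 : comul (R := S i) (ψ i (1 ⊗ₜ c)) = TensorProduct.map (ψ i : S i ⊗[R] C →ₗ[S i] S i ⊗[R] B)
      (ψ i : S i ⊗[R] C →ₗ[S i] S i ⊗[R] B) (comul (R := S i) ((1 : S i) ⊗ₜ[R] c)) :=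
      (CoalgHomClass.map_comp_comul_apply (ψ i) _).symm
    rw [h1, comul_one_tmul]
    generalize comul (R := R) c = z
    induction z using TensorProduct.induction_on with
    | zero => simp only [TensorProduct.tmul_zero, map_zero]
    | tmul x y =>
      rw [TensorProduct.map_tmul, AlgebraTensorModule.distribBaseChange_tmul,
        AlgebraTensorModule.distribBaseChange_tmul, TensorProduct.map_tmul]
      congr 1
      · exact hf i x
      · exact hf i y
    | add a b ha hb => simp only [TensorProduct.tmul_add, map_add, ha, hb]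

/-- descent of bialgebra maps along a finite jointly pure family -/
theorem exists_descent [Finite ι] (hS : JointlyPure R S) (ψ : ∀ i, S i ⊗[R] C →ₐc[S i] S i ⊗[R] B)
    (h : ∀ i j, bcHom (Algebra.TensorProduct.includeLeft : S i →ₐ[R] S i ⊗[R] S j) (ψ i) =
      bcHom (Algebra.TensorProduct.includeRight : S j →ₐ[R] S i ⊗[R] S j) (ψ j)) :
    ∃ φ : C →ₐc[R] B, ∀ i c, (1 : S i) ⊗ₜ[R] φ c = ψ i (1 ⊗ₜ c) := by
  have key : ∀ c : C, ∃ b : B, ∀ i, (1 : S i) ⊗ₜ[R] b = ψ i (1 ⊗ₜ c) := by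
    intro c
    apply hS.exists_eq
    intro i j
    have h1 := congrArg (fun F : (S i ⊗[R] S j) ⊗[R] C →ₐc[S i ⊗[R] S j] (S i ⊗[R] S j) ⊗[R] B =>
      TensorProduct.assoc R (S i) (S j) B (F (1 ⊗ₜ c))) (h i j)
    simp only [bcHom_one_tmul] at h1
    rw [assoc_mapL_left, assoc_mapL_right] at h1
    exact h1.symm
  choose f hf using key
  obtain ⟨φ, hφ⟩ := exists_of_family hS ψ f (fun i c => hf c i)
  exact ⟨φ, fun i c => by rw [hφ, hf]⟩

end

end K201.HomBC
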