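import Groth.Agent.SGA3b.K201.Coef
import Groth.Agent.SGA3b.K201.HomBC
import Groth.Agent.FormalA.AdicFin
import Groth.Agent.S2978
import Mathlib.RingTheory.Coalgebra.Basic

/-!
Algebraisation of compatible systems of homomorphisms from an isotrivial group of multiplicative type
(SGA 3 IX 7.1).
-/

set_option autoImplicit false

open TensorProduct SGA3b Coalgebra Bialgebra
open Groth.Agent.Sga3A.BCIso Groth.Agent.Sga3A.GLBasic
open K201.Coef

namespace K201.Algebraize

universe u

section

variable {R : Type u} [CommRing R] {C B : Type u} [CommRing C] [Bialgebra R C] [CommRing B]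
  [Bialgebra R B]

/-- `f : C → B` is a bialgebra map modulo `K`. -/
structure IsHomMod (K : Ideal R) (f : C → B) : Prop where
  add : ∀ c d, f (c + d) - (f c + f d) ∈ (K • ⊤ : Submodule R B)
  smul : ∀ (r : R) c, f (r • c) - r • f c ∈ (K • ⊤ : Submodule R B)
  one : f 1 - 1 ∈ (K • ⊤ : Submodule R B)
  mul : ∀ c d, f (c * d) - f c * f d ∈ (K • ⊤ : Submodule R B)
  counit : ∀ c, counit (R := R) (f c) - counit (R := R) c ∈ K
  comul : ∀ c, comul (R := R) (f c) - ∑ i ∈ (ℛ R c).index, f ((ℛ R c).left i) ⊗ₜ[R] f ((ℛ R c).right i) ∈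
    (K • ⊤ : Submodule R (B ⊗[R] B))

theorem mul_mem_smul_top {K : Ideal R} {x : B} (hx : x ∈ (K • ⊤ : Submodule R B)) (y : B) :
    x * y ∈ (K • ⊤ : Submodule R B) :=
  map_mem_smul_top ((LinearMap.mul R B).flip y) hx

theorem tmul_mem {K : Ideal R} {x : B} (hx : x ∈ (K • ⊤ : Submodule R B)) (y : B) :
    x ⊗ₜ[R] y ∈ (K • ⊤ : Submodule R (B ⊗[R] B)) :=
  map_mem_smul_top ((TensorProduct.mk R B B).flip y) hx

theorem tmul_mem' {K : Ideal R} {x : B} (hx : x ∈ (K • ⊤ : Submodule R B)) (y : B) :
    y ⊗ₜ[R] x ∈ (K • ⊤ : Submodule R (B ⊗[R] B)) :=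
  map_mem_smul_top (TensorProduct.mk R B B y) hx

theorem tmul_sub_mem {K : Ideal R} {x x' y y' : B} (hx : x - x' ∈ (K • ⊤ : Submodule R B))
    (hy : y - y' ∈ (K • ⊤ : Submodule R B)) :
    x ⊗ₜ[R] y - x' ⊗ₜ[R] y' ∈ (K • ⊤ : Submodule R (B ⊗[R] B)) := by
  have : x ⊗ₜ[R] y - x' ⊗ₜ[R] y' = (x - x') ⊗ₜ[R] y + x' ⊗ₜ[R] (y - y') := by
    rw [TensorProduct.sub_tmul, TensorProduct.tmul_sub]; abel
  rw [this]
  exact add_mem (tmul_mem hx y) (tmul_mem' hy x')

theorem mul_sub_mem {K : Ideal R} {x x' y y' : B} (hx : x - x' ∈ (K • ⊤ : Submodule R B))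
    (hy : y - y' ∈ (K • ⊤ : Submodule R B)) :
    x * y - x' * y' ∈ (K • ⊤ : Submodule R B) := by
  have : x * y - x' * y' = (x - x') * y + (y - y') * x' := by ring
  rw [this]
  exact add_mem (mul_mem_smul_top hx y) (mul_mem_smul_top hy x')

/-- a function which is a bialgebra map modulo all powers of `I` is a bialgebra map, if everything is
separated. -/
theorem exists_bialgHom_of_forall {I : Ideal R} [IsHausdorff I R] [IsHausdorff I B] [IsHausdorff I (B ⊗[R] B)]
    (f : C → B) (hf : ∀ n : ℕ, IsHomMod (I ^ n) f) : ∃ φ : C →ₐc[R] B, ∀ c, φ c = f c := by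
  have hadd : ∀ c d, f (c + d) = f c + f d := fun c d => eq_of_forall (I := I) fun n => (hf n).add c d
  have hsmul : ∀ (r : R) c, f (r • c) = r • f c := fun r c => eq_of_forall (I := I) fun n => (hf n).smul r c
  have hmul : ∀ c d, f (c * d) = f c * f d := fun c d => eq_of_forall (I := I) fun n => (hf n).mul c d
  have hone : f 1 = 1 := eq_of_forall (I := I) fun n => (hf n).one
  let F : C →ₐ[R] B := AlgHom.ofLinearMap
    { toFun := f, map_add' := hadd, map_smul' := hsmul } hone hmul
  refine ⟨BialgHom.ofAlgHom F ?_ ?_, fun _ => rfl⟩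
  · ext c
    change counit (R := R) (f c) = counit (R := R) c
    refine eq_of_forall (I := I) fun n => ?_
    rw [smul_eq_mul, Ideal.mul_top]
    exact (hf n).counit c
  · ext c
    change (TensorProduct.map F.toLinearMap F.toLinearMap) (comul (R := R) c) = comul (R := R) (f c)
    conv_lhs => rw [← (ℛ R c).eq]
    rw [map_sum]
    symm
    exact eq_of_forall (I := I) fun n => (hf n).comul c

/-- changing a function modulo `K` -/
theorem IsHomMod.congr {K : Ideal R} {f g : C → B} (hf : IsHomMod K f)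
    (h : ∀ c, g c - f c ∈ (K • ⊤ : Submodule R B)) : IsHomMod K g where
  add c d := by
    have : g (c + d) - (g c + g d) = (g (c + d) - f (c + d)) + (f (c + d) - (f c + f d)) -
      (g c - f c) - (g d - f d) := by abel
    rw [this]
    exact sub_mem (sub_mem (add_mem (h _) (hf.add c d)) (h _)) (h _)
  smul r c := by
    have : g (r • c) - r • g c = (g (r • c) - f (r • c)) + (f (r • c) - r • f c) - r • (g c - f c) := by
      rw [smul_sub]; abel
    rw [this]
    exact sub_mem (add_mem (h _) (hf.smul r c)) (Submodule.smul_mem _ _ (h _))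
  one := by
    have : g 1 - 1 = (g 1 - f 1) + (f 1 - 1) := by abel
    rw [this]
    exact add_mem (h _) hf.one
  mul c d := by
    have : g (c * d) - g c * g d = (g (c * d) - f (c * d)) + (f (c * d) - f c * f d) -
      (g c * g d - f c * f d) := by abel
    rw [this]
    exact sub_mem (add_mem (h _) (hf.mul c d)) (mul_sub_mem (h _) (h _))
  counit c := by
    have h1 := map_mem_smul_top (Coalgebra.counit (R := R) (A := B)) (h c)
    rw [smul_eq_mul, Ideal.mul_top, map_sub] at h1
    have : Coalgebra.counit (R := R) (g c) - Coalgebra.counit (R := R) c =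
      (Coalgebra.counit (R := R) (g c) - Coalgebra.counit (R := R) (f c)) +
      (Coalgebra.counit (R := R) (f c) - Coalgebra.counit (R := R) c) := by abel
    rw [this]
    exact add_mem h1 (hf.counit c)
  comul c := by
    have h1 := map_mem_smul_top (Coalgebra.comul (R := R) (A := B)) (h c)
    rw [map_sub] at h1
    have h2 : ∑ i ∈ (ℛ R c).index, g ((ℛ R c).left i) ⊗ₜ[R] g ((ℛ R c).right i) -
        ∑ i ∈ (ℛ R c).index, f ((ℛ R c).left i) ⊗ₜ[R] f ((ℛ R c).right i) ∈
        (K • ⊤ : Submodule R (B ⊗[R] B)) := by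
      rw [← Finset.sum_sub_distrib]
      exact Submodule.sum_mem _ fun i _ => tmul_sub_mem (h _) (h _)
    have := sub_mem (add_mem h1 (hf.comul c)) h2
    convert this using 1
    abel

end

section

variable {R : Type u} [CommRing R] [IsNoetherianRing R] {I : Ideal R} [IsAdicComplete I R]
variable {C B : Type u} [CommRing C] [Bialgebra R C] [CommRing B] [Bialgebra R B]
variable {S M : Type u} [CommRing S] [Algebra R S] [Module.Finite R S] [Module.FaithfullyFlat R S]
  [CommGroup M] (e : S ⊗[R] B ≃ₐc[S] MonoidAlgebra S M)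

include e in
/-- Algebraisation: a compatible system of bialgebra maps modulo `I ^ n` comes from a bialgebra map. -/
theorem exists_limit (f : ℕ → C → B) (hf : ∀ n, IsHomMod (I ^ n) (f n))
    (hfc : ∀ n c, f (n + 1) c - f n c ∈ (I ^ n • ⊤ : Submodule R B)) :
    ∃ φ : C →ₐc[R] B, ∀ n c, φ c - f n c ∈ (I ^ n • ⊤ : Submodule R B) := by
  classical
  have hSc : IsAdicComplete I S := Groth.Agent.FormalA.AdicFin.isAdicComplete_of_finite I
  have hSS : IsAdicComplete I (S ⊗[R] S) := Groth.Agent.FormalA.AdicFin.isAdicComplete_of_finite I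
  have hBh : IsHausdorff I B := haus_B e
  have hBBh : IsHausdorff I (B ⊗[R] B) := haus_BB e
  have hSSB : IsHausdorff I (S ⊗[R] (S ⊗[R] B)) := haus_tensor e S
  have hSN : IsNoetherianRing S := IsNoetherianRing.of_finite R S
  have hmono {m n : ℕ} (h : m ≤ n) {N : Type u} [AddCommGroup N] [Module R N] :
      (I ^ n • ⊤ : Submodule R N) ≤ I ^ m • ⊤ :=
    Submodule.smul_mono_left (Ideal.pow_le_pow_right h)
  -- Cauchy
  have hcauchy : ∀ (c : C) {m n : ℕ}, m ≤ n → f n c - f m c ∈ (I ^ m • ⊤ : Submodule R B) := by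
    intro c m n hmn
    induction n, hmn using Nat.le_induction with
    | base => rw [sub_self]; exact zero_mem _
    | succ n hmn ih =>
      have : f (n + 1) c - f m c = (f (n + 1) c - f n c) + (f n c - f m c) := by abel
      rw [this]
      exact add_mem (hmono hmn (hfc n c)) ih
  -- the coefficients
  have ha : ∀ (c : C) (m : M), ∃ a : S, ∀ n, a - L e m (f n c) ∈ (I ^ n • ⊤ : Submodule R S) := by
    intro c m
    obtain ⟨a, ha⟩ := IsPrecomplete.prec' (I := I) (M := S) (fun n => L e m (f n c)) (by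
      intro k n hkn
      rw [SModEq.comm, SModEq.sub_mem, ← map_sub]
      exact map_mem_smul_top (L e m) (hcauchy c hkn))
    refine ⟨a, fun n => ?_⟩
    have := ha n
    rw [SModEq.comm, SModEq.sub_mem] at this
    exact this
  choose a ha using ha
  -- finite support
  have hdiag : ∀ (c : C) (m m' : M), (if m = m' then a c m else 0) =
      ∑ i ∈ (ℛ R c).index, a ((ℛ R c).left i) m * a ((ℛ R c).right i) m' := by
    intro c m m'
    refine eq_of_forall (I := I) fun n => ?_
    have h1 := map_mem_smul_top (L2 e (m, m')) ((hf n).comul c)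
    rw [map_sub, map_sum, L2_comul] at h1
    simp only [L2_tmul] at h1
    have h2 : ∑ i ∈ (ℛ R c).index, L e m (f n ((ℛ R c).left i)) * L e m' (f n ((ℛ R c).right i)) -
        ∑ i ∈ (ℛ R c).index, a ((ℛ R c).left i) m * a ((ℛ R c).right i) m' ∈
        (I ^ n • ⊤ : Submodule R S) := by
      rw [← Finset.sum_sub_distrib]
      refine Submodule.sum_mem _ fun i _ => ?_
      have h3 := ha ((ℛ R c).left i) m n
      have h4 := ha ((ℛ R c).right i) m' n
      have h5 := map_mem_smul_top ((LinearMap.mul R S).flip (a ((ℛ R c).right i) m')) h3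
      have h6 := map_mem_smul_top ((LinearMap.mul R S) (L e m (f n ((ℛ R c).left i)))) h4
      have := neg_mem (add_mem h5 h6)
      convert this using 1
      simp only [LinearMap.flip_apply, LinearMap.mul_apply']
      ring
    have h3 : (if m = m' then a c m else 0) - (if m = m' then L e m (f n c) else 0) ∈
        (I ^ n • ⊤ : Submodule R S) := by
      split_ifs
      · exact ha c m n
      · rw [sub_zero]; exact zero_mem _
    have := add_mem (add_mem h3 h1) h2
    convert this using 1
    abel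
  have hfin : ∀ c : C, (Function.support (a c)).Finite := by
    intro c
    have h1 := Groth.Agent.S2978.result S M (fun p => if p.1 = p.2 then a c p.1 else 0)
      (fun m m' h => if_neg h) (ULift.{u} (Fin (ℛ R c).index.card))
      (fun i m => a ((ℛ R c).left ((ℛ R c).index.equivFin.symm i.down)) m)
      (fun i m => a ((ℛ R c).right ((ℛ R c).index.equivFin.symm i.down)) m) (by
        intro m m'
        change (if m = m' then a c m else 0) = _
        rw [hdiag, ← Finset.sum_coe_sort]
        symm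
        apply Fintype.sum_equiv (Equiv.ulift.trans (ℛ R c).index.equivFin.symm)
        intro i
        rfl)
    refine (h1.image Prod.fst).subset ?_
    intro m hm
    refine ⟨(m, m), ?_, rfl⟩
    change (if m = m then a c m else 0) ≠ 0
    rw [if_pos rfl]
    exact hm
  let g : C → S ⊗[R] B := fun c => e.symm (MonoidAlgebra.ofCoeff (Finsupp.ofSupportFinite (a c) (hfin c)))
  have hg : ∀ c m, (e (g c)).coeff m = a c m := by
    intro c m
    change (e (e.symm _)).coeff m = _
    have : ∀ x, e (e.symm x) = x := e.apply_symm_apply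
    rw [this]
    rfl
  have hgf : ∀ n c, g c - 1 ⊗ₜ f n c ∈ ((I ^ n).map (algebraMap R S) • ⊤ : Submodule S (S ⊗[R] B)) := by
    intro n c
    have h1 : e (g c - 1 ⊗ₜ f n c) ∈ ((I ^ n).map (algebraMap R S) • ⊤ : Submodule S (MonoidAlgebra S M)) := by
      rw [mem_smul_top_iff_coeff]
      intro m
      rw [map_sub, coeff_sub, hg, ← L_apply]
      have := ha c m n
      rw [← mem_map_smul_top_iff (S := S), smul_eq_mul, Ideal.mul_top] at this
      exact this
    have h2 := map_mem_smul_top (e.symm : MonoidAlgebra S M →ₗ[S] S ⊗[R] B) h1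
    have h3 : (e.symm : MonoidAlgebra S M →ₗ[S] S ⊗[R] B) (e (g c - 1 ⊗ₜ f n c)) = g c - 1 ⊗ₜ f n c :=
      e.symm_apply_apply _
    rwa [h3] at h2
  have hJ : JointlyPure R (fun _ : PUnit.{u + 1} => S) := JointlyPure.of_faithfullyFlat
  have hdesc : ∀ c, ∃ b : B, (1 : S) ⊗ₜ[R] b = g c := by
    intro c
    obtain ⟨b, hb⟩ := hJ.exists_eq (N := B) (fun _ => g c) (by
      intro _ _
      refine eq_of_forall (I := I) fun n => ?_
      have h1 := (mem_map_smul_top_iff _).1 (hgf n c)
      have h2 := map_mem_smul_top (TensorProduct.mk R S (S ⊗[R] B) 1) h1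
      have h3 := map_mem_smul_top ((TensorProduct.mk R S B 1).lTensor S) h1
      rw [map_sub] at h2 h3
      have := sub_mem h2 h3
      convert this using 1
      simp)
    exact ⟨b, hb PUnit.unit⟩
  choose φ hφ using hdesc
  have hφf : ∀ n c, φ c - f n c ∈ (I ^ n • ⊤ : Submodule R B) := by
    intro n c
    apply hJ.mem_smul_top
    intro _
    rw [TensorProduct.tmul_sub, hφ]
    exact hgf n c
  obtain ⟨Φ, hΦ⟩ := exists_bialgHom_of_forall (I := I) φ (fun n => (hf n).congr (hφf n))
  exact ⟨Φ, fun n c => by rw [hΦ]; exact hφf n c⟩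

omit [IsNoetherianRing R] [IsAdicComplete I R] in
theorem IsHomMod.mono {K K' : Ideal R} (h : K ≤ K') {f : C → B} (hf : IsHomMod K f) : IsHomMod K' f where
  add c d := Submodule.smul_mono_left h (hf.add c d)
  smul r c := Submodule.smul_mono_left h (hf.smul r c)
  one := Submodule.smul_mono_left h hf.one
  mul c d := Submodule.smul_mono_left h (hf.mul c d)
  counit c := h (hf.counit c)
  comul c := Submodule.smul_mono_left h (hf.comul c)

include e in
/-- Algebraisation, with the indexing of the formal completion. -/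
theorem exists_limit' (f : ℕ → C → B) (hf : ∀ n, IsHomMod (I ^ (n + 1)) (f n))
    (hfc : ∀ n c, f (n + 1) c - f n c ∈ (I ^ (n + 1) • ⊤ : Submodule R B)) :
    ∃ φ : C →ₐc[R] B, ∀ n c, φ c - f n c ∈ (I ^ (n + 1) • ⊤ : Submodule R B) := by
  obtain ⟨φ, hφ⟩ := exists_limit e f (fun n => (hf n).mono (Ideal.pow_le_pow_right (Nat.le_succ n)))
    (fun n c => Submodule.smul_mono_left (Ideal.pow_le_pow_right (Nat.le_succ n)) (hfc n c))
  refine ⟨φ, fun n c => ?_⟩
  have : φ c - f n c = (φ c - f (n + 1) c) + (f (n + 1) c - f n c) := by abel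
  rw [this]
  exact add_mem (hφ (n + 1) c) (hfc n c)

omit [IsNoetherianRing R] [IsAdicComplete I R] in
theorem exists_seq {α : Type*} (P : ℕ → α → Prop) (r : ℕ → α → α → Prop) (a : α) (h0 : P 0 a)
    (hs : ∀ n a, P n a → ∃ b, P (n + 1) b ∧ r n a b) :
    ∃ s : ℕ → α, s 0 = a ∧ (∀ n, P n (s n)) ∧ ∀ n, r n (s n) (s (n + 1)) := by
  choose g hg1 hg2 using hs
  let t : (n : ℕ) → {a // P n a} := fun n =>
    Nat.rec ⟨a, h0⟩ (fun n x => ⟨g n x.1 x.2, hg1 n x.1 x.2⟩) n
  exact ⟨fun n => (t n).1, rfl, fun n => (t n).2, fun n => hg2 n (t n).1 (t n).2⟩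

include e in
/-- Lifting of homomorphisms from `R ⧸ I` to a complete ring, given a stepwise lifting. -/
theorem exists_lift_of_step (f₀ : C → B) (hf₀ : IsHomMod I f₀)
    (hstep : ∀ (n : ℕ) (f : C → B), IsHomMod (I ^ (n + 1)) f →
      ∃ f' : C → B, IsHomMod (I ^ (n + 2)) f' ∧ ∀ c, f' c - f c ∈ (I ^ (n + 1) • ⊤ : Submodule R B)) :
    ∃ φ : C →ₐc[R] B, ∀ c, φ c - f₀ c ∈ (I • ⊤ : Submodule R B) := by
  obtain ⟨s, hs0, hs1, hs2⟩ := exists_seq (fun n f => IsHomMod (I ^ (n + 1)) f)
    (fun n f f' => ∀ c, f' c - f c ∈ (I ^ (n + 1) • ⊤ : Submodule R B)) f₀ (by simpa using hf₀)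
    (fun n f hf => hstep n f hf)
  obtain ⟨φ, hφ⟩ := exists_limit' e s hs1 hs2
  refine ⟨φ, fun c => ?_⟩
  have := hφ 0 c
  rwa [hs0, zero_add, pow_one] at this

end

end K201.Algebraize
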