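import Groth.Agent.Sga3B.HaarDef
import Groth.Agent.Sga3A.MTFamily
import Groth.Agent.Sga3A.MTBasis

/-!
A Hopf algebra of multiplicative type has a normalised invariant integral (descended from the split case).
-/

set_option autoImplicit false

open TensorProduct SGA3b Coalgebra Bialgebra
open Groth.Agent.Sga3A.BCIso Groth.Agent.Sga3A.GLBasic
open Groth.Agent.Sga3A.MTFamily Groth.Agent.Sga3B.HaarDef
open Groth.Agent.Sga3A.MTBasis (GBasis)

namespace K201.HaarMT

universe u v w

/-- the coordinate at `1` does not depend on the group-like basis -/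
theorem repr_one_eq {T D M M' : Type*} [CommRing T] [CommRing D] [Bialgebra T D] [CommGroup M]
    [CommGroup M'] (g : GBasis T D M) (g' : GBasis T D M') (x : D) :
    g.b.repr x 1 = g'.b.repr x 1 := by
  classical
  have key : ∀ m : M, g.b.repr (g.b m) 1 = g'.b.repr (g.b m) 1 := by
    intro m
    rw [Module.Basis.repr_self, Finsupp.single_apply]
    split_ifs with hm
    · subst hm
      rw [g.one, ← g'.one, Module.Basis.repr_self, Finsupp.single_eq_same]
    · set e := g'.b.repr (g.b m) 1 with he
      have hee : e * e = e := by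
        have := g'.repr_mul_repr (g.gl m) 1 1
        rwa [if_pos rfl] at this
      have h1 : e • g.b m = e • g.b 1 := by
        apply g'.b.repr.injective
        ext n
        rw [map_smul, map_smul, Finsupp.smul_apply, Finsupp.smul_apply, g.one, ← g'.one,
          Module.Basis.repr_self, Finsupp.single_apply, smul_eq_mul, smul_eq_mul]
        split_ifs with hn
        · subst hn
          rw [mul_one]; exact hee
        · have := g'.repr_mul_repr (g.gl m) 1 n
          rw [if_neg hn] at this
          rw [mul_zero]; exact this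
      have h2 := congrArg (fun z => g.b.repr z m) h1
      simp only [map_smul, Finsupp.smul_apply, Module.Basis.repr_self, Finsupp.single_apply,
        smul_eq_mul, if_pos, if_neg (Ne.symm hm), mul_one, mul_zero] at h2
      exact h2.symm
  have h1 : (Finsupp.lapply 1 ∘ₗ g.b.repr.toLinearMap : D →ₗ[T] T) =
      Finsupp.lapply 1 ∘ₗ g'.b.repr.toLinearMap := by
    apply g.b.ext
    intro m
    exact key m
  exact LinearMap.congr_fun h1 x

section

variable {R : Type u} [CommRing R] {A : Type u} [CommRing A] [HopfAlgebra R A]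

/-- transport of integrals -/
def haarCongr {D D' : Type*} [CommRing D] [CommRing D'] [Bialgebra R D] [Bialgebra R D']
    (e : D ≃ₐc[R] D') (μ : Haar R D') : Haar R D where
  int := μ.int ∘ₗ (e : D →ₗ[R] D')
  int_one := by
    change μ.int (e 1) = 1
    rw [map_one, μ.int_one]
  inv d := by
    apply EquivLike.injective e
    have h1 : comul (R := R) (e d) = TensorProduct.map (e : D →ₗ[R] D') (e : D →ₗ[R] D')
        (comul (R := R) d) := (CoalgHomClass.map_comp_comul_apply e d).symm
    have h2 := μ.inv (e d)
    rw [h1] at h2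
    have h3 : e (algebraMap R D ((μ.int ∘ₗ (e : D →ₗ[R] D')) d)) = algebraMap R D' (μ.int (e d)) :=
      AlgHomClass.commutes e _
    rw [h3, ← h2]
    generalize comul (R := R) d = z
    induction z using TensorProduct.induction_on with
    | zero => simp
    | tmul a b =>
      simp only [LinearMap.rTensor_tmul, TensorProduct.lid_tmul, TensorProduct.map_tmul,
        LinearMap.comp_apply]
      exact map_smul e _ _
    | add a b ha hb => simp only [map_add, ha, hb]

theorem exists_haar (h : IsMultType R A) : Nonempty (Haar R A) := by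
  classical
  obtain ⟨ι, _, S, _, _, hS, _, hd⟩ := exists_family h
  choose M hM e using hd
  let g : ∀ i, GBasis (S i) (S i ⊗[R] A) (M i) := fun i => GBasis.ofBialgEquiv (e i).some
  let t : ∀ i, A → S i := fun i a => (g i).b.repr ((1 : S i) ⊗ₜ[R] a) 1
  have hcompat : ∀ (a : A) i j, ((1 : S i) ⊗ₜ[R] t j a : S i ⊗[R] S j) = t i a ⊗ₜ[R] 1 := by
    intro a i j
    have h1 := (g i).bc_repr (Algebra.TensorProduct.includeLeft : S i →ₐ[R] S i ⊗[R] S j)
      ((1 : S i) ⊗ₜ[R] a) 1
    have h2 := (g j).bc_repr (Algebra.TensorProduct.includeRight : S j →ₐ[R] S i ⊗[R] S j)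
      ((1 : S j) ⊗ₜ[R] a) 1
    have h3 : Groth.Agent.Sga3A.MTBasis.bc A
        (Algebra.TensorProduct.includeLeft : S i →ₐ[R] S i ⊗[R] S j) ((1 : S i) ⊗ₜ[R] a) =
        Groth.Agent.Sga3A.MTBasis.bc A
        (Algebra.TensorProduct.includeRight : S j →ₐ[R] S i ⊗[R] S j) ((1 : S j) ⊗ₜ[R] a) := by
      rw [Groth.Agent.Sga3A.MTBasis.bc_tmul, Groth.Agent.Sga3A.MTBasis.bc_tmul, map_one, map_one]
    rw [h3, repr_one_eq _ ((g j).bc (Algebra.TensorProduct.includeRight : S j →ₐ[R] S i ⊗[R] S j)),
      h2] at h1
    exact h1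
  have hex : ∀ a : A, ∃ r : R, ∀ i, algebraMap R (S i) r = t i a := by
    intro a
    obtain ⟨r, hr⟩ := hS.exists_eq (N := R) (fun i => t i a ⊗ₜ[R] (1 : R)) (by
      intro i j
      rw [LinearMap.lTensor_tmul, TensorProduct.mk_apply]
      have h1 := congrArg (fun z => TensorProduct.assoc R (S i) (S j) R (z ⊗ₜ[R] (1 : R)))
        (hcompat a i j)
      simpa using h1)
    refine ⟨r, fun i => ?_⟩
    have h1 := congrArg (TensorProduct.rid R (S i)) (hr i)
    simp only [TensorProduct.rid_tmul, one_smul] at h1
    rw [← h1, Algebra.algebraMap_eq_smul_one]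
  choose int hint using hex
  have hinj : ∀ r s : R, (∀ i, algebraMap R (S i) r = algebraMap R (S i) s) → r = s := by
    intro r s hrs
    rw [← sub_eq_zero]
    apply hS
    intro i
    have : (1 : S i) ⊗ₜ[R] (r - s) = (r - s) • ((1 : S i) ⊗ₜ[R] (1 : R)) := by
      rw [← TensorProduct.tmul_smul, smul_eq_mul, mul_one]
    rw [this, TensorProduct.smul_tmul', ← Algebra.algebraMap_eq_smul_one, map_sub, hrs i, sub_self,
      TensorProduct.zero_tmul]
  let lint : A →ₗ[R] R :=
    { toFun := int
      map_add' := fun a b => by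
        apply hinj
        intro i
        rw [map_add, hint, hint, hint]
        simp only [t, TensorProduct.tmul_add, map_add, Finsupp.add_apply]
      map_smul' := fun r a => by
        apply hinj
        intro i
        rw [hint, RingHom.id_apply, smul_eq_mul, map_mul, hint]
        simp only [t]
        have : (1 : S i) ⊗ₜ[R] (r • a) = (algebraMap R (S i) r) • ((1 : S i) ⊗ₜ[R] a) := by
          rw [TensorProduct.tmul_smul, algebraMap_smul]
        rw [this, map_smul, Finsupp.smul_apply, smul_eq_mul] }
  have hlint : ∀ a i, algebraMap R (S i) (lint a) = t i a := fun a i => hint a i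
  let μ : ∀ i, Haar (S i) (S i ⊗[R] A) := fun i => haarCongr (e i).some (haarMonoidAlgebra (M i))
  have hμ : ∀ i a, (μ i).int (1 ⊗ₜ a) = t i a := by
    intro i a
    simp only [t]
    have : ∀ z : S i ⊗[R] A, (g i).b.repr z 1 = ((e i).some z).coeff 1 := by
      intro z
      obtain ⟨y, rfl⟩ := EquivLike.surjective (e i).some.symm z
      rw [BialgEquiv.apply_symm_apply]
      have hl : (Finsupp.lapply 1 ∘ₗ (g i).b.repr.toLinearMap ∘ₗ
          ((e i).some.symm : MonoidAlgebra (S i) (M i) →ₗ[S i] S i ⊗[R] A) :
          MonoidAlgebra (S i) (M i) →ₗ[S i] S i) =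
          Finsupp.lapply 1 ∘ₗ (MonoidAlgebra.coeffLinearEquiv (S i)).toLinearMap := by
        apply (MonoidAlgebra.basis (M i) (S i)).ext
        intro m
        simp only [MonoidAlgebra.basis_apply, LinearMap.comp_apply]
        change (g i).b.repr ((g i).b m) 1 = (MonoidAlgebra.single m (1 : S i)).coeff 1
        rw [Module.Basis.repr_self, MonoidAlgebra.coeff_single]
      exact LinearMap.congr_fun hl y
    rw [this]
    rfl
  refine ⟨⟨lint, ?_, ?_⟩⟩
  · apply hinj
    intro i
    rw [hlint, ← hμ, map_one]
    exact (μ i).int_one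
  · intro d
    rw [← sub_eq_zero]
    apply hS
    intro i
    rw [TensorProduct.tmul_sub, sub_eq_zero]
    have h1 := (μ i).inv (1 ⊗ₜ d)
    rw [hμ, ← hlint, comul_one_tmul] at h1
    have h2 : ∀ z : A ⊗[R] A, (1 : S i) ⊗ₜ[R] (TensorProduct.lid R A (lint.rTensor A z)) =
        TensorProduct.lid (S i) (S i ⊗[R] A) ((μ i).int.rTensor (S i ⊗[R] A)
          (TensorProduct.AlgebraTensorModule.distribBaseChange R (S i) A A (1 ⊗ₜ z))) := by
      intro z
      induction z using TensorProduct.induction_on with
      | zero => simp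
      | tmul a b =>
        simp only [LinearMap.rTensor_tmul, TensorProduct.lid_tmul,
          AlgebraTensorModule.distribBaseChange_tmul]
        rw [TensorProduct.tmul_smul, ← algebraMap_smul (S i) (lint a), hlint, ← hμ]
      | add a b ha hb => simp only [map_add, TensorProduct.tmul_add, ha, hb]
    rw [h2, h1]
    have h3 : (1 : S i) ⊗ₜ[R] (algebraMap R A (lint d)) =
        (algebraMap R (S i) (lint d)) • ((1 : S i) ⊗ₜ[R] (1 : A)) := by
      rw [Algebra.algebraMap_eq_smul_one, TensorProduct.tmul_smul, algebraMap_smul]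
    rw [h3, Algebra.algebraMap_eq_smul_one]
    rfl

end

end K201.HaarMT
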