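import Groth.Agent.SGA3b.K201.Algebraize
import Groth.Agent.SGA3b.K201.SmoothLift
import Groth.Agent.SGA3b.K201.HomConv
import Groth.Agent.Sga3A.GLHom

/-!
The dictionary between bialgebra maps over `R ⧸ K` and functions which are bialgebra maps modulo `K`.
-/

set_option autoImplicit false

open TensorProduct SGA3b Coalgebra Bialgebra
open Groth.Agent.Sga3A.BCIso Groth.Agent.Sga3A.GLBasic Groth.Agent.Sga3A.GLHom
open K201.Algebraize

namespace K201.HomMod

universe u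

section

variable {R : Type u} [CommRing R] {C B : Type u} [CommRing C] [Bialgebra R C] [CommRing B]
  [Bialgebra R B]

/-- a family of lifts of a bialgebra map over `R ⧸ K` is a bialgebra map modulo `K` -/
theorem isHomMod_of_bialgHom {K : Ideal R} (φ : ((R ⧸ K) ⊗[R] C) →ₐc[R ⧸ K] ((R ⧸ K) ⊗[R] B))
    (f : C → B) (hf : ∀ c, φ (1 ⊗ₜ c) = 1 ⊗ₜ f c) : IsHomMod K f where
  add c d := by
    rw [← one_tmul_eq_iff, TensorProduct.tmul_add, ← hf, ← hf, ← hf, TensorProduct.tmul_add, map_add]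
  smul r c := by
    rw [← one_tmul_eq_iff, ← hf]
    have h1 : (1 : R ⧸ K) ⊗ₜ[R] (r • c) = algebraMap R (R ⧸ K) r • ((1 : R ⧸ K) ⊗ₜ[R] c) := by
      rw [TensorProduct.tmul_smul, algebraMap_smul]
    have h2 : (1 : R ⧸ K) ⊗ₜ[R] (r • f c) = algebraMap R (R ⧸ K) r • ((1 : R ⧸ K) ⊗ₜ[R] f c) := by
      rw [TensorProduct.tmul_smul, algebraMap_smul]
    rw [h1, h2, map_smul, hf]
  one := by
    rw [← one_tmul_eq_iff, ← hf]
    exact map_one φ
  mul c d := by
    rw [← one_tmul_eq_iff, ← hf]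
    have h1 : (1 : R ⧸ K) ⊗ₜ[R] (f c * f d) = ((1 : R ⧸ K) ⊗ₜ[R] f c) * ((1 : R ⧸ K) ⊗ₜ[R] f d) := by
      rw [Algebra.TensorProduct.tmul_mul_tmul, one_mul]
    have h2 : (1 : R ⧸ K) ⊗ₜ[R] (c * d) = ((1 : R ⧸ K) ⊗ₜ[R] c) * ((1 : R ⧸ K) ⊗ₜ[R] d) := by
      rw [Algebra.TensorProduct.tmul_mul_tmul, one_mul]
    rw [h1, h2, map_mul, hf, hf]
  counit c := by
    have h1 := CoalgHomClass.counit_comp_apply φ (1 ⊗ₜ[R] c)
    rw [hf, counit_one_tmul, counit_one_tmul] at h1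
    rw [← Ideal.Quotient.mk_eq_mk_iff_sub_mem]
    exact h1
  comul c := by
    rw [← one_tmul_eq_iff]
    apply (AlgebraTensorModule.distribBaseChange R (R ⧸ K) B B).injective
    rw [← comul_one_tmul, ← hf]
    have h1 : comul (R := R ⧸ K) (φ (1 ⊗ₜ c)) = TensorProduct.map
      (φ : (R ⧸ K) ⊗[R] C →ₗ[R ⧸ K] (R ⧸ K) ⊗[R] B)
      (φ : (R ⧸ K) ⊗[R] C →ₗ[R ⧸ K] (R ⧸ K) ⊗[R] B) (comul (R := R ⧸ K) ((1 : R ⧸ K) ⊗ₜ[R] c)) :=
      (CoalgHomClass.map_comp_comul_apply φ _).symm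
    rw [h1, comul_one_tmul]
    conv_lhs => rw [← (ℛ R c).eq]
    rw [TensorProduct.tmul_sum, map_sum, map_sum, TensorProduct.tmul_sum, map_sum]
    refine Finset.sum_congr rfl fun i _ => ?_
    rw [AlgebraTensorModule.distribBaseChange_tmul, AlgebraTensorModule.distribBaseChange_tmul,
      TensorProduct.map_tmul]
    congr 1
    · exact hf _
    · exact hf _

/-- a bialgebra map modulo `K` defines a bialgebra map over `R ⧸ K` -/
theorem exists_bialgHom {K : Ideal R} {f : C → B} (hf : IsHomMod K f) :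
    ∃ φ : ((R ⧸ K) ⊗[R] C) →ₐc[R ⧸ K] ((R ⧸ K) ⊗[R] B), ∀ c, φ (1 ⊗ₜ c) = 1 ⊗ₜ f c := by
  let F : C →ₐ[R] (R ⧸ K) ⊗[R] B := AlgHom.ofLinearMap
    { toFun := fun c => 1 ⊗ₜ f c
      map_add' := fun c d => by
        rw [← TensorProduct.tmul_add, one_tmul_eq_iff]; exact hf.add c d
      map_smul' := fun r c => by
        rw [RingHom.id_apply, ← TensorProduct.tmul_smul, one_tmul_eq_iff]; exact hf.smul r c }
    ((one_tmul_eq_iff K (f 1) 1).2 hf.one)
    (fun c d => by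
      change (1 : R ⧸ K) ⊗ₜ[R] f (c * d) = ((1 : R ⧸ K) ⊗ₜ[R] f c) * ((1 : R ⧸ K) ⊗ₜ[R] f d)
      rw [Algebra.TensorProduct.tmul_mul_tmul, one_mul, one_tmul_eq_iff]
      exact hf.mul c d)
  let Φ : (R ⧸ K) ⊗[R] C →ₐ[R ⧸ K] (R ⧸ K) ⊗[R] B :=
    Algebra.TensorProduct.lift (Algebra.ofId _ _) F (fun _ _ => .all _ _)
  have hΦ : ∀ c, Φ (1 ⊗ₜ c) = 1 ⊗ₜ f c := fun c => by
    change Algebra.TensorProduct.lift (Algebra.ofId _ _) F (fun _ _ => .all _ _) (1 ⊗ₜ c) = _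
    rw [Algebra.TensorProduct.lift_tmul, map_one, one_mul]
    rfl
  refine ⟨BialgHom.ofAlgHom Φ ?_ ?_, hΦ⟩
  · apply Algebra.TensorProduct.ext
    · ext
    · ext c
      change counit (R := R ⧸ K) (Φ (1 ⊗ₜ c)) = counit (R := R ⧸ K) ((1 : R ⧸ K) ⊗ₜ[R] c)
      rw [hΦ, counit_one_tmul, counit_one_tmul]
      exact Ideal.Quotient.mk_eq_mk_iff_sub_mem _ _ |>.2 (hf.counit c)
  · apply Algebra.TensorProduct.ext
    · ext
    · ext c
      change (TensorProduct.map Φ.toLinearMap Φ.toLinearMap) (comul (R := R ⧸ K) ((1 : R ⧸ K) ⊗ₜ[R] c)) =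
        comul (R := R ⧸ K) (Φ (1 ⊗ₜ c))
      have h1 := (one_tmul_eq_iff K _ _).2 (hf.comul c)
      have h2 := congrArg (AlgebraTensorModule.distribBaseChange R (R ⧸ K) B B) h1
      rw [hΦ, comul_one_tmul, comul_one_tmul, h2]
      conv_lhs => rw [← (ℛ R c).eq]
      rw [TensorProduct.tmul_sum, map_sum, map_sum, TensorProduct.tmul_sum, map_sum]
      refine Finset.sum_congr rfl fun i _ => ?_
      rw [AlgebraTensorModule.distribBaseChange_tmul, AlgebraTensorModule.distribBaseChange_tmul,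
        TensorProduct.map_tmul]
      congr 1
      · exact hΦ _
      · exact hΦ _

/-- representatives -/
theorem exists_rep {K : Ideal R} (φ : ((R ⧸ K) ⊗[R] C) →ₐc[R ⧸ K] ((R ⧸ K) ⊗[R] B)) :
    ∃ f : C → B, IsHomMod K f ∧ ∀ c, φ (1 ⊗ₜ c) = 1 ⊗ₜ f c := by
  choose f hf using fun c => exists_one_tmul K (φ (1 ⊗ₜ c))
  exact ⟨f, isHomMod_of_bialgHom φ f (fun c => (hf c).symm), fun c => (hf c).symm⟩

end

section Smooth

open WithConv Groth.Agent.Sga3B.HaarDef K201.HomConv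

variable {R : Type u} [CommRing R] {C B : Type u} [CommRing C] [HopfAlgebra R C] [CommRing B]
  [HopfAlgebra R B]

theorem tmul_one_eq_iff (K : Ideal R) (a b : B) :
    a ⊗ₜ[R] (1 : R ⧸ K) = b ⊗ₜ[R] (1 : R ⧸ K) ↔ a - b ∈ (K • ⊤ : Submodule R B) := by
  rw [← one_tmul_eq_iff]
  constructor
  · intro h
    have := congrArg (TensorProduct.comm R B (R ⧸ K)) h
    simpa using this
  · intro h
    have := congrArg (TensorProduct.comm R (R ⧸ K) B) h
    simpa using this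

theorem isHomMod_of_isHom {K : Ideal R} (F : WithConv (C →ₐ[R] B ⊗[R] (R ⧸ K))) (hF : IsHom F)
    (f : C → B) (hf : ∀ c, F c = f c ⊗ₜ 1) : IsHomMod K f where
  add c d := by
    rw [← tmul_one_eq_iff, TensorProduct.add_tmul, ← hf, ← hf, ← hf]
    exact map_add F.ofConv c d
  smul r c := by
    rw [← tmul_one_eq_iff, ← TensorProduct.smul_tmul', ← hf, ← hf]
    exact map_smul F.ofConv r c
  one := by
    rw [← tmul_one_eq_iff, ← hf]
    exact map_one F.ofConv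
  mul c d := by
    rw [← tmul_one_eq_iff]
    have h1 : (f c * f d) ⊗ₜ[R] (1 : R ⧸ K) = (f c ⊗ₜ[R] (1 : R ⧸ K)) * (f d ⊗ₜ[R] (1 : R ⧸ K)) := by
      rw [Algebra.TensorProduct.tmul_mul_tmul, one_mul]
    rw [h1, ← hf, ← hf, ← hf]
    exact map_mul F.ofConv c d
  counit c := by
    have h1 := congrArg (fun G : WithConv (C →ₐ[R] (R ⧸ K)) => G c) (counit_of_isHom hF)
    have h2 : (pushG ((Algebra.TensorProduct.lid R (R ⧸ K)).toAlgHom.comp
      (Algebra.TensorProduct.map (counitAlgHom R B) (AlgHom.id R (R ⧸ K)))) F) c =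
      algebraMap R (R ⧸ K) (counit (R := R) (f c)) := by
      rw [pushG_apply, hf, Algebra.algebraMap_eq_smul_one]
      simp
    have h3 : (1 : WithConv (C →ₐ[R] (R ⧸ K))) c = algebraMap R (R ⧸ K) (counit (R := R) c) := rfl
    rw [← Ideal.Quotient.mk_eq_mk_iff_sub_mem]
    exact h2.symm.trans (h1.trans h3)
  comul c := by
    have h1 := (isHom_iff F (fun c => (1 : R ⧸ K) ⊗ₜ[R] f c) (fun c => by
      rw [hf, TensorProduct.comm_tmul])).1 hF c
    rw [comul_one_tmul] at h1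
    rw [← one_tmul_eq_iff]
    apply (AlgebraTensorModule.distribBaseChange R (R ⧸ K) B B).injective
    rw [h1, TensorProduct.tmul_sum, map_sum]
    refine Finset.sum_congr rfl fun i _ => ?_
    rw [AlgebraTensorModule.distribBaseChange_tmul]

/-- the point attached to a bialgebra map modulo `K` -/
theorem exists_isHom {K : Ideal R} {f : C → B} (hf : IsHomMod K f) :
    ∃ F : WithConv (C →ₐ[R] B ⊗[R] (R ⧸ K)), IsHom F ∧ ∀ c, F c = f c ⊗ₜ 1 := by
  obtain ⟨φ, hφ⟩ := exists_bialgHom hf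
  refine ⟨toPt φ, isHom_toPt φ, fun c => ?_⟩
  rw [toPt_apply, hφ, TensorProduct.comm_tmul]

/-- Bialgebra maps modulo `K` from a smooth group lift modulo smaller ideals. -/
theorem exists_lift_smooth [Algebra.FormallySmooth R C] (μ : Haar R B) {K K' : Ideal R} (hle : K' ≤ K)
    (m : ℕ) (hm : K ^ m ≤ K') {f : C → B} (hf : IsHomMod K f) :
    ∃ f' : C → B, IsHomMod K' f' ∧ ∀ c, f' c - f c ∈ (K • ⊤ : Submodule R B) := by
  obtain ⟨F₀, hF₀, hF₀f⟩ := exists_isHom hf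
  obtain ⟨F, hF, hFF⟩ := K201.SmoothLift.exists_lift μ (Ideal.Quotient.factorₐ R hle)
    (Ideal.Quotient.factor_surjective hle) (by
      refine ⟨m, ?_⟩
      have h1 : RingHom.ker (Ideal.Quotient.factorₐ R hle) = K.map (Ideal.Quotient.mk K') := by
        ext x
        obtain ⟨x, rfl⟩ := Ideal.Quotient.mk_surjective x
        rw [RingHom.mem_ker, Ideal.mem_map_iff_of_surjective _ Ideal.Quotient.mk_surjective]
        constructor
        · intro h
          exact ⟨x, Ideal.Quotient.eq_zero_iff_mem.1 h, rfl⟩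
        · rintro ⟨y, hy, hxy⟩
          rw [← hxy]
          exact Ideal.Quotient.eq_zero_iff_mem.2 hy
      rw [h1, ← Ideal.map_pow, Ideal.zero_eq_bot, Ideal.map_eq_bot_iff_le_ker, Ideal.mk_ker]
      exact hm) F₀ hF₀
  have hrep : ∀ c, ∃ b : B, F c = b ⊗ₜ[R] (1 : R ⧸ K') := by
    intro c
    obtain ⟨b, hb⟩ := exists_one_tmul K' (TensorProduct.comm R B (R ⧸ K') (F c))
    refine ⟨b, ?_⟩
    have := congrArg (TensorProduct.comm R (R ⧸ K') B) hb
    rw [TensorProduct.comm_tmul] at this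
    rw [this]
    exact ((TensorProduct.comm R B (R ⧸ K')).symm_apply_apply (F c)).symm
  choose f' hf' using hrep
  refine ⟨f', isHomMod_of_isHom F hF f' hf', fun c => ?_⟩
  rw [← tmul_one_eq_iff, ← hF₀f, ← hFF, pushG_apply, hf']
  simp [T]

end Smooth

end K201.HomMod
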