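import Groth.Agent.Sga3A.FibTorus
import Groth.Agent.Sga3A.BCIso

/-!
Base change of tori.
-/

set_option autoImplicit false

open TensorProduct SGA3b
open Groth.Agent.Sga3A.BCIso Groth.Agent.Sga3A.TypeLemma

namespace K201.TorusBC

universe u

variable {R : Type u} [CommRing R] {A : Type u} [CommRing A] [HopfAlgebra R A]

theorem isTorusConst_congr {B : Type u} [CommRing B] [HopfAlgebra R B] (e : A ≃ₐc[R] B)
    (h : IsTorusConst R A) : IsTorusConst R B := by
  obtain ⟨R', i1, i2, hff, n, ⟨f⟩⟩ := h
  exact ⟨R', i1, i2, hff, n, ⟨(congrBialg R' e).symm.trans f⟩⟩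

theorem isTorusConst_baseChange (S : Type u) [CommRing S] [Algebra R S] (h : IsTorusConst R A) :
    IsTorusConst S (S ⊗[R] A) := by
  obtain ⟨R', i1, i2, hff, n, hf⟩ := h
  obtain ⟨f⟩ := diag_of_algHom (Algebra.TensorProduct.includeRight : R' →ₐ[R] S ⊗[R] R') hf
  exact ⟨S ⊗[R] R', inferInstance, inferInstance, inferInstance, n,
    ⟨(cancelBialg R S (S ⊗[R] R') A).trans f⟩⟩

theorem isTorus_of_const (h : IsTorusConst R A) : IsTorus R A :=
  ⟨{1}, by simp, by rintro f rfl; exact isTorusConst_baseChange _ h⟩

theorem isTorus_baseChange (S : Type u) [CommRing S] [Algebra R S] (h : IsTorus R A) :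
    IsTorus S (S ⊗[R] A) := by
  obtain ⟨s, hs, H⟩ := h
  refine ⟨algebraMap R S '' s, ?_, ?_⟩
  · rw [← Ideal.map_span, hs, Ideal.map_top]
  · rintro _ ⟨f, hf, rfl⟩
    have hu : IsUnit ((algebraMap S (Localization.Away (algebraMap R S f))).comp (algebraMap R S) f) :=
      IsLocalization.Away.algebraMap_isUnit (S := Localization.Away (algebraMap R S f)) (algebraMap R S f)
    let : Algebra (Localization.Away f) (Localization.Away (algebraMap R S f)) :=
      (IsLocalization.Away.lift (S := Localization.Away f) f hu).toAlgebra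
    have : IsScalarTower R (Localization.Away f) (Localization.Away (algebraMap R S f)) := by
      refine IsScalarTower.of_algebraMap_eq fun r => ?_
      change _ = IsLocalization.Away.lift (S := Localization.Away f) f hu (algebraMap R _ r)
      rw [IsLocalization.Away.lift_eq]
      rfl
    have h1 := isTorusConst_baseChange (Localization.Away (algebraMap R S f)) (H f hf)
    have h2 := isTorusConst_congr (cancelBialg R (Localization.Away f) (Localization.Away (algebraMap R S f)) A) h1
    exact isTorusConst_congr (cancelBialg R S (Localization.Away (algebraMap R S f)) A).symm h2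

end K201.TorusBC
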