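import Groth.Agent.SGA3b.K201.ConnFib
import Groth.Agent.SGA3b.K201.Antipode
import Groth.Agent.Sga3A.MTTorsion
import Groth.Agent.Sga3A.TorsionDense
import Groth.Agent.SGA3b.K202.DenseField
import Mathlib.RingTheory.HopfAlgebra.Quotient
import Mathlib.RingTheory.Finiteness.Nakayama

/-!
The open and closed isotrivial subgroup of multiplicative type over a complete base (SGA3 X 3.1 / S5285).
-/

set_option autoImplicit false

open TensorProduct SGA3b Coalgebra Bialgebra
open Groth.Agent.Sga3A.BCIso Groth.Agent.Sga3A.GLBasic Groth.Agent.Sga3A.KernelLocal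
open Groth.Agent.Sga3A.GLHom

namespace K201.OpenIsotriv

universe u

section hopf

variable {R A B : Type*} [CommRing R] [CommRing A] [CommRing B] [HopfAlgebra R A] [HopfAlgebra R B]

/-- The kernel of a surjective bialgebra map between Hopf algebras is a Hopf ideal. -/
theorem isHopfIdeal_ker_of_surjective (f : A →ₐc[R] B) (hf : Function.Surjective f) :
    (RingHom.ker f).IsHopfIdeal R where
  counit_eq_zero x hx := by
    have : f x = 0 := hx
    rw [← CoalgHomClass.counit_comp_apply f x, this, map_zero]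
  map_mkQ_comul_eq_zero x hx := by
    have hx0 : f x = 0 := hx
    let g : A ⧸ ((RingHom.ker f).restrictScalars R) →ₗ[R] B :=
      ((RingHom.ker f).restrictScalars R).liftQ f.toLinearMap (fun y hy => hy)
    let e : (A ⧸ ((RingHom.ker f).restrictScalars R)) ≃ₗ[R] B :=
      LinearEquiv.ofBijective g ⟨by
        rw [← LinearMap.ker_eq_bot]
        exact Submodule.ker_liftQ_eq_bot _ _ _ (fun y hy => hy), fun b => by
          obtain ⟨a, rfl⟩ := hf b
          exact ⟨Submodule.Quotient.mk a, rfl⟩⟩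
    have key : TensorProduct.map e.toLinearMap e.toLinearMap
        (TensorProduct.map ((RingHom.ker f).restrictScalars R).mkQ
          ((RingHom.ker f).restrictScalars R).mkQ (CoalgebraStruct.comul x)) = 0 := by
      rw [← LinearMap.comp_apply, ← TensorProduct.map_comp]
      have : e.toLinearMap ∘ₗ ((RingHom.ker f).restrictScalars R).mkQ = f.toLinearMap := by
        ext a; rfl
      rw [this]
      have := CoalgHomClass.map_comp_comul_apply f x
      rw [hx0, map_zero] at this
      exact this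
    have inj : Function.Injective (TensorProduct.map e.toLinearMap e.toLinearMap) :=
      (TensorProduct.congr e e).injective
    exact inj (by rw [key, map_zero])
  antipode_mem x hx := by
    have hx0 : f x = 0 := hx
    change f (HopfAlgebra.antipode R x) = 0
    rw [← K201.Antipode.antipode_apply, hx0, map_zero]

/-- `A / J ≃ B` for a surjective bialgebra map with kernel `J`. -/
theorem exists_quotEquiv (f : A →ₐc[R] B) (hf : Function.Surjective f) (J : Ideal A)
    [J.IsHopfIdeal R] (hJ : ∀ a, f a = 0 ↔ a ∈ J) :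
    ∃ e : (A ⧸ J) ≃ₐc[R] B, ∀ a, e (Ideal.Quotient.mk J a) = f a := by
  let g : (A ⧸ J) →ₐ[R] B := Ideal.Quotient.liftₐ J (f : A →ₐ[R] B) (fun a ha => (hJ a).2 ha)
  have hg : ∀ a, g (Ideal.Quotient.mk J a) = f a := fun a => rfl
  have h1 : (counitAlgHom R B).comp g = counitAlgHom R (A ⧸ J) := by
    refine Ideal.Quotient.algHom_ext R ?_
    ext a
    change counit (R := R) (f a) = counit (R := R) a
    exact CoalgHomClass.counit_comp_apply f a
  have h2 : (Algebra.TensorProduct.map g g).comp (comulAlgHom R (A ⧸ J)) =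
      (comulAlgHom R B).comp g := by
    refine Ideal.Quotient.algHom_ext R ?_
    ext a
    change (Algebra.TensorProduct.map g g) (comul (R := R) (Ideal.Quotient.mk J a)) =
      comul (R := R) (f a)
    have h3 : comul (R := R) (f a) = TensorProduct.map (f : A →ₗ[R] B) (f : A →ₗ[R] B)
        (comul (R := R) a) := (CoalgHomClass.map_comp_comul_apply f a).symm
    rw [h3, Bialgebra.Quotient.comul_mk]
    generalize comul (R := R) a = z
    induction z using TensorProduct.induction_on with
    | zero => simp only [map_zero]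
    | tmul x y => rfl
    | add x y hx hy => simp only [map_add, hx, hy]
  refine ⟨BialgEquiv.ofBijective (BialgHom.ofAlgHom g h1 h2) ⟨?_, ?_⟩, fun a => rfl⟩
  · intro x y hxy
    obtain ⟨x, rfl⟩ := Ideal.Quotient.mk_surjective x
    obtain ⟨y, rfl⟩ := Ideal.Quotient.mk_surjective y
    have h4 : f x = f y := hxy
    rw [Ideal.Quotient.eq]
    apply (hJ _).1
    rw [map_sub, h4, sub_self]
  · intro b
    obtain ⟨a, rfl⟩ := hf b
    exact ⟨Ideal.Quotient.mk J a, rfl⟩

end hopf

section Inj

variable {R : Type u} [CommRing R] {I : Ideal R} {C B : Type u} [CommRing C] [HopfAlgebra R C] [CommRing B]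
  [HopfAlgebra R B]

/-- A surjection onto a flat Hopf algebra which is injective modulo `I ⊆ rad(R)` has a kernel
generated by an idempotent. -/
theorem exists_idem_of_mod (hI : I ≤ Ideal.jacobson ⊥) [Module.Flat R B]
    (φ : C →ₐc[R] B) (hφ : Function.Surjective φ) (hfg : (RingHom.ker φ).FG)
    (h : ∀ c, φ c = 0 → c ∈ (I • ⊤ : Submodule R C)) :
    ∃ e : C, IsIdempotentElem e ∧ RingHom.ker φ = Ideal.span {e} := by
  let N : Ideal C := RingHom.ker φ
  -- `N = I N`
  have h1 : N ≤ (I.map (algebraMap R C)) * N := by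
    intro n hn
    have h2 : n ∈ LinearMap.ker (φ : C →ₗ[R] B) ⊓ (I • (⊤ : Submodule R C)) := ⟨hn, h n hn⟩
    rw [LinearMap.ker_inf_smul_top_eq_smul_of_flat I (φ : C →ₗ[R] B) hφ] at h2
    exact ConnFib.mem_smul_of_mem I N _ (fun n hn => hn) n h2
  obtain ⟨x, hx, hxN⟩ := Submodule.exists_sub_one_mem_and_smul_eq_zero_of_fg_of_le_smul _ N hfg h1
  -- normalise
  have hεx : counit (R := R) x - 1 ∈ I := by
    have h2 : Ideal.map (algebraMap R C) I ≤ I.comap (counitAlgHom R C) := by
      rw [Ideal.map_le_iff_le_comap]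
      intro i hi
      rw [Ideal.mem_comap, Ideal.mem_comap, AlgHom.commutes]
      exact hi
    have h3 := h2 hx
    rw [Ideal.mem_comap, map_sub, map_one, counitAlgHom_apply] at h3
    exact h3
  have hu : IsUnit (counit (R := R) x) := by
    have := Ideal.mem_jacobson_bot.1 (hI hεx) 1
    have h9 : (counit (R := R) x - 1) * 1 + 1 = counit (R := R) x := by ring
    rwa [h9] at this
  obtain ⟨v, hv⟩ := hu.exists_left_inv
  have h2 : ∀ n, φ n = 0 → n ∈ N * N := by
    intro n hn
    apply K201.OpenSubgp.mem_mul_self φ hφ (v • x) _ _ n hn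
    · rw [map_smul, smul_eq_mul, hv]
    · intro n hn
      have := hxN n hn
      rw [smul_eq_mul] at this
      rw [smul_mul_assoc, this, smul_zero]
  have h3 : IsIdempotentElem N := le_antisymm Ideal.mul_le_left (fun n hn => h2 n hn)
  exact (Ideal.isIdempotentElem_iff_of_fg N hfg).1 h3

/-- An element which is zero in all fibres over the base is nilpotent. -/
theorem isNilpotent_of_fibres {R C : Type*} [CommRing R] [CommRing C] [Algebra R C] (e : C)
    (h : ∀ (p : Ideal R) [p.IsPrime], (1 : p.ResidueField) ⊗ₜ[R] e = 0) : IsNilpotent e := by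
  rw [nilpotent_iff_mem_prime]
  intro q hq
  let p : Ideal R := q.comap (algebraMap R C)
  have hp : p.IsPrime := inferInstance
  let g : p.ResidueField →ₐ[R] q.ResidueField := Ideal.ResidueField.mapₐ p q (Algebra.ofId R C) rfl
  let G : p.ResidueField ⊗[R] C →ₐ[R] q.ResidueField :=
    Algebra.TensorProduct.lift g (IsScalarTower.toAlgHom R C q.ResidueField) (fun _ _ => .all _ _)
  have h5 := congrArg G (h p)
  have h6 : G ((1 : p.ResidueField) ⊗ₜ[R] e) = algebraMap C q.ResidueField e := by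
    change (Algebra.TensorProduct.lift g (IsScalarTower.toAlgHom R C q.ResidueField)
      (fun _ _ => .all _ _)) ((1 : p.ResidueField) ⊗ₜ[R] e) = _
    rw [Algebra.TensorProduct.lift_tmul, map_one, one_mul]
    rfl
  rw [h6, map_zero, Ideal.algebraMap_residueField_eq_zero] at h5
  exact h5

theorem eq_zero_of_isNilpotent {C : Type*} [CommRing C] {e : C} (he : IsIdempotentElem e)
    (h : IsNilpotent e) : e = 0 := by
  obtain ⟨k, hk⟩ := h
  rcases Nat.eq_zero_or_pos k with rfl | hk0
  · rw [pow_zero] at hk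
    rw [← mul_one e, hk, mul_zero]
  · rw [← he.pow_eq hk0.ne', hk]

end Inj

section Main

variable {A : Type u} [CommRing A] [IsNoetherianRing A] (I : Ideal A) [IsAdicComplete I A]
    {C : Type u} [CommRing C] [HopfAlgebra A C]

/-- the isotrivial subgroup with the given reduction -/
theorem exists_quot [Algebra.FiniteType A C]
    (hfl : ∀ (q : Ideal C) [q.IsPrime], Ideal.map (algebraMap A C) I ≤ q →
      Module.Flat A (Localization.AtPrime q))
    (h0 : IsIsotrivial (A ⧸ I) ((A ⧸ I) ⊗[A] C)) :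
    ∃ (B : Type u) (_ : CommRing B) (_ : HopfAlgebra A B) (φ : C →ₐc[A] B),
      IsIsotrivial A B ∧ Function.Surjective φ ∧ ∀ c, φ c = 0 → c ∈ (I • ⊤ : Submodule A C) := by
  obtain ⟨B, _, _, hB, ⟨e₀⟩⟩ := Groth.Agent.S2980.result A I ((A ⧸ I) ⊗[A] C) h0
  have hBm : IsMultType A B := K201.Isotriv.isMultType_of_isIsotrivial hB
  have hBfl : Module.Flat A B := K201.MTBasics.flat hBm
  have hB' := hB
  obtain ⟨S, _, _, het, hfin, hff, M, _, ⟨e⟩⟩ := hB'
  have hmB : ∀ K : Ideal A, IsMultType (A ⧸ K) ((A ⧸ K) ⊗[A] B) := fun K =>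
    Groth.Agent.Sga3A.NilDescent.isMultType_baseChange _ hBm
  obtain ⟨f₀, hf₀, hφ₀⟩ := K201.HomMod.exists_rep
    (e₀.symm : ((A ⧸ I) ⊗[A] C) →ₐc[A ⧸ I] ((A ⧸ I) ⊗[A] B))
  obtain ⟨φ, hφ⟩ := K201.Algebraize.exists_lift_of_step e f₀ hf₀ (fun n f hf =>
    K201.MultLift.exists_lift_mult (Ideal.pow_le_pow_right (Nat.le_succ (n + 1))) 2 (by
      rw [← pow_mul]
      exact Ideal.pow_le_pow_right (by omega)) (hmB _)
      (K201.MultLift.isMultType_quot_pow I hfl (ConnFib.isQuasiIsotrivial_of_isIsotrivial h0)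
        (I ^ (n + 2)) (n + 2) le_rfl) hf)
  have hφe : ∀ c : C, e₀.symm ((1 : A ⧸ I) ⊗ₜ[A] c) = (1 : A ⧸ I) ⊗ₜ[A] (φ c) := by
    intro c
    refine (hφ₀ c).trans ?_
    rw [one_tmul_eq_iff, ← neg_mem_iff, neg_sub]
    exact hφ c
  have hI : I ≤ Ideal.jacobson ⊥ := IsAdicComplete.le_jacobson_bot I
  refine ⟨B, _, _, φ, hB, ?_, ?_⟩
  · apply ConnFib.surjective_of_mod hI e
    intro b
    obtain ⟨c, hc⟩ := exists_one_tmul I (e₀ ((1 : A ⧸ I) ⊗ₜ[A] b))
    refine ⟨c, ?_⟩
    rw [← one_tmul_eq_iff, ← hφe, hc]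
    exact (e₀.symm_apply_apply _).symm
  · intro c hc
    rw [← one_tmul_eq_zero_iff]
    apply EquivLike.injective e₀.symm
    rw [hφe, hc, TensorProduct.tmul_zero, map_zero]

/-- S5285 -/
theorem exists_clopen [Algebra.FiniteType A C]
    (hfl : ∀ (q : Ideal C) [q.IsPrime], Ideal.map (algebraMap A C) I ≤ q →
      Module.Flat A (Localization.AtPrime q))
    (h0 : IsIsotrivial (A ⧸ I) ((A ⧸ I) ⊗[A] C)) :
    ∃ e : C, IsIdempotentElem e ∧ e ∈ Ideal.map (algebraMap A C) I ∧
      ∃ _ : (Ideal.span {e}).IsHopfIdeal A, IsIsotrivial A (C ⧸ Ideal.span {e}) := by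
  obtain ⟨B, _, _, φ, hB, hs, hmod⟩ := exists_quot I hfl h0
  have hBfl : Module.Flat A B := K201.MTBasics.flat (K201.Isotriv.isMultType_of_isIsotrivial hB)
  have hI : I ≤ Ideal.jacobson ⊥ := IsAdicComplete.le_jacobson_bot I
  have : IsNoetherianRing C := Algebra.FiniteType.isNoetherianRing A C
  obtain ⟨e, he, hN⟩ := exists_idem_of_mod hI φ hs (IsNoetherian.noetherian _) hmod
  have heN : φ e = 0 := by
    have : e ∈ RingHom.ker φ := by rw [hN]; exact Submodule.mem_span_singleton_self e
    exact this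
  have hH : (Ideal.span {e}).IsHopfIdeal A := by
    have := isHopfIdeal_ker_of_surjective φ hs
    rwa [hN] at this
  refine ⟨e, he, ?_, hH, ?_⟩
  · have h1 := hmod e heN
    rwa [Ideal.smul_top_eq_map] at h1
  · obtain ⟨E, -⟩ := exists_quotEquiv φ hs (Ideal.span {e}) (fun a => by rw [← hN]; rfl)
    exact K201.QIBC.isIsotrivial_congr E.symm hB

end Main

section Torsion

/-- An idempotent in the kernel of the counit, zero modulo `I ⊆ rad(R)`, lies in the ideals of all finite
torsion subgroups. -/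
theorem mem_of_finite_quot {R C : Type*} [CommRing R] [CommRing C] [Algebra R C] {I : Ideal R}
    (hI : I ≤ Ideal.jacobson ⊥) {e : C} (he : IsIdempotentElem e)
    (heI : e ∈ Ideal.map (algebraMap R C) I) (J : Ideal C) [Module.Finite R (C ⧸ J)] : e ∈ J := by
  rw [← Ideal.Quotient.eq_zero_iff_mem]
  let π : C →+* C ⧸ J := Ideal.Quotient.mk J
  let P : Ideal (C ⧸ J) := Ideal.span {π e}
  -- `P = I P`
  have h1 : (P.restrictScalars R) ≤ I • (P.restrictScalars R) := by
    intro x hx
    obtain ⟨y, rfl⟩ := Ideal.mem_span_singleton'.mp (show x ∈ Ideal.span {π e} from hx)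
    have h2 : π e ∈ (I • (⊤ : Submodule R (C ⧸ J))) := by
      rw [Ideal.smul_top_eq_map]
      change π e ∈ I.map (algebraMap R (C ⧸ J))
      have h3 : algebraMap R (C ⧸ J) = π.comp (algebraMap R C) := rfl
      rw [h3, ← Ideal.map_map]
      exact Ideal.mem_map_of_mem _ heI
    have h3 : y * π e = (LinearMap.mulLeft R (y * π e)) (π e) := by
      rw [LinearMap.mulLeft_apply, mul_assoc, ← map_mul, he]
    rw [h3]
    have h4 : (LinearMap.mulLeft R (y * π e)) (π e) ∈
        Submodule.map (LinearMap.mulLeft R (y * π e)) (I • ⊤) := ⟨_, h2, rfl⟩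
    rw [Submodule.map_smul''] at h4
    refine Submodule.smul_mono le_rfl ?_ h4
    rintro _ ⟨z, -, rfl⟩
    change (y * π e) * z ∈ P
    rw [mul_right_comm]
    exact Ideal.mul_mem_left _ _ (Submodule.mem_span_singleton_self _)
  have hfg : (P.restrictScalars R).FG := by
    have h2 : P.restrictScalars R = LinearMap.range (LinearMap.mulRight R (π e)) := by
      ext x
      rw [Submodule.restrictScalars_mem, LinearMap.mem_range]
      exact Ideal.mem_span_singleton'
    rw [h2, LinearMap.range_eq_map]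
    exact (Module.Finite.fg_top (R := R) (M := C ⧸ J)).map _
  have h2 := Submodule.eq_bot_of_le_smul_of_le_jacobson_bot I (P.restrictScalars R) hfg h1 hI
  have h3 : π e ∈ P.restrictScalars R := Submodule.mem_span_singleton_self (R := C ⧸ J) (π e)
  rw [h2] at h3
  exact h3

/-- base change of a clopen subgroup -/
theorem exists_quot_baseChange {R C : Type u} [CommRing R] [CommRing C] [HopfAlgebra R C] {e : C}
    [(Ideal.span {e}).IsHopfIdeal R] (S : Type u) [CommRing S] [Algebra R S] :
    ∃ _ : (Ideal.span {(1 : S) ⊗ₜ[R] e}).IsHopfIdeal S,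
      Nonempty (((S ⊗[R] C) ⧸ Ideal.span {(1 : S) ⊗ₜ[R] e}) ≃ₐc[S] S ⊗[R] (C ⧸ Ideal.span {e})) := by
  let q : C →ₐc[R] C ⧸ Ideal.span {e} := Bialgebra.Quotient.mkBialgHom (Ideal.span {e})
  have hq : Function.Surjective (q : C →ₐ[R] C ⧸ Ideal.span {e}) := Ideal.Quotient.mk_surjective
  have hs : Function.Surjective (mapBialg S q) := by
    intro y
    induction y using TensorProduct.induction_on with
    | zero => exact ⟨0, map_zero _⟩
    | tmul s b =>
      obtain ⟨c, rfl⟩ := hq b
      exact ⟨s ⊗ₜ c, mapBialg_tmul _ _ _ _⟩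
    | add x y hx hy =>
      obtain ⟨a, rfl⟩ := hx
      obtain ⟨b, rfl⟩ := hy
      exact ⟨a + b, map_add _ _ _⟩
  have hker : RingHom.ker (mapBialg S q) = Ideal.span {(1 : S) ⊗ₜ[R] e} := by
    have h1 := Algebra.TensorProduct.lTensor_ker (A := S) (q : C →ₐ[R] C ⧸ Ideal.span {e}) hq
    have h2 : RingHom.ker (q : C →ₐ[R] C ⧸ Ideal.span {e}) = Ideal.span {e} := Ideal.mk_ker
    rw [h2, Ideal.map_span, Set.image_singleton] at h1
    have h3 : ∀ x, mapBialg S q x =
        Algebra.TensorProduct.map (AlgHom.id R S) (q : C →ₐ[R] C ⧸ Ideal.span {e}) x := by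
      intro x
      induction x using TensorProduct.induction_on with
      | zero => simp only [map_zero]
      | tmul s b => rfl
      | add x y hx hy => simp only [map_add, hx, hy]
    ext x
    rw [RingHom.mem_ker, h3]
    have h4 : (Algebra.TensorProduct.includeRight : C →ₐ[R] S ⊗[R] C) e = 1 ⊗ₜ e := rfl
    rw [← h4]
    rw [← h1]
    rfl
  have hH : (Ideal.span {(1 : S) ⊗ₜ[R] e}).IsHopfIdeal S := by
    have := isHopfIdeal_ker_of_surjective (mapBialg S q) hs
    rwa [hker] at this
  obtain ⟨E, -⟩ := exists_quotEquiv (mapBialg S q) hs (Ideal.span {(1 : S) ⊗ₜ[R] e})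
    (fun a => by rw [← hker]; rfl)
  exact ⟨hH, ⟨E⟩⟩

theorem eq_zero_of_torsion {R C : Type u} [CommRing R] [CommRing C] [HopfAlgebra R C]
    [IsCocomm R C] [Algebra.FiniteType R C] {I : Ideal R}
    (hI : I ≤ Ideal.jacobson ⊥) {e : C} (he : IsIdempotentElem e)
    (heI : e ∈ Ideal.map (algebraMap R C) I) [(Ideal.span {e}).IsHopfIdeal R]
    (hG : IsMultType R (C ⧸ Ideal.span {e}))
    (hfin : ∀ n : ℕ, 0 < n → Module.Finite R (C ⧸ torsionIdeal R C n)) : e = 0 := by
  have hmem : ∀ n : ℕ, 0 < n → e ∈ torsionIdeal R C n := fun n hn => by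
    have := hfin n hn
    exact mem_of_finite_quot hI he heI _
  refine eq_zero_of_isNilpotent he (isNilpotent_of_fibres (R := R) e fun p _ => ?_)
  obtain ⟨hH, ⟨E⟩⟩ := exists_quot_baseChange (R := R) (C := C) (e := e) p.ResidueField
  have h1 : IsMultType p.ResidueField ((p.ResidueField ⊗[R] C) ⧸
      Ideal.span {(1 : p.ResidueField) ⊗ₜ[R] e}) :=
    Groth.Agent.Sga3A.FibLocal.isDiag_congr' E.symm
      (Groth.Agent.Sga3A.NilDescent.isMultType_baseChange _ hG)
  have he1 : IsIdempotentElem ((1 : p.ResidueField) ⊗ₜ[R] e) := by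
    change ((1 : p.ResidueField) ⊗ₜ[R] e) * ((1 : p.ResidueField) ⊗ₜ[R] e) = _
    rw [Algebra.TensorProduct.tmul_mul_tmul, one_mul]
    congr 1
  have hd := K202.DenseField.dense_of_open (k := p.ResidueField) (C := p.ResidueField ⊗[R] C)
    inferInstance he1 h1
  obtain ⟨N, hN⟩ := hd 1 ((1 : p.ResidueField) ⊗ₜ[R] e) (fun n hn => ⟨0, by
    rw [pow_zero, one_mul]
    exact Groth.Agent.Sga3A.TorsionDense.torsionIdeal_le_comap_includeRight R C p.ResidueField n
      (hmem n hn)⟩)
  rwa [one_pow, one_mul] at hN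

end Torsion

/-- S6058 -/
theorem isIsotrivial_of_torsion {A : Type u} [CommRing A] [IsNoetherianRing A] (I : Ideal A)
    [IsAdicComplete I A] {C : Type u} [CommRing C] [HopfAlgebra A C] [IsCocomm A C]
    [Module.Flat A C] [Algebra.FiniteType A C]
    (h0 : IsIsotrivial (A ⧸ I) ((A ⧸ I) ⊗[A] C))
    (hfin : ∀ n : ℕ, 0 < n → Module.Finite A (C ⧸ torsionIdeal A C n)) :
    IsIsotrivial A C := by
  have hfl : ∀ (q : Ideal C) [q.IsPrime], Ideal.map (algebraMap A C) I ≤ q →
      Module.Flat A (Localization.AtPrime q) := fun q _ _ => Module.Flat.trans A C _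
  obtain ⟨e, he, heI, hH, hG⟩ := exists_clopen I hfl h0
  have hI : I ≤ Ideal.jacobson ⊥ := IsAdicComplete.le_jacobson_bot I
  have h0 : e = 0 := eq_zero_of_torsion hI he heI (K201.Isotriv.isMultType_of_isIsotrivial hG) hfin
  let q : C →ₐc[A] C ⧸ Ideal.span {e} := Bialgebra.Quotient.mkBialgHom (Ideal.span {e})
  have hq : Function.Bijective q := by
    refine ⟨?_, Ideal.Quotient.mk_surjective⟩
    rw [injective_iff_map_eq_zero]
    intro c hc
    have h1 : c ∈ Ideal.span {e} := Ideal.Quotient.eq_zero_iff_mem.1 hc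
    rw [h0] at h1
    simpa using h1
  exact K201.QIBC.isIsotrivial_congr (BialgEquiv.ofBijective q hq).symm hG

end K201.OpenIsotriv
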