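import Groth.Agent.Sga3A.GLBasic
import Mathlib.RingTheory.AdicCompletion.Basic
import Mathlib.LinearAlgebra.DirectSum.Finsupp

/-!
Coefficient functionals of a bialgebra which is diagonalisable after base change.
-/

set_option autoImplicit false

open TensorProduct Coalgebra Bialgebra
open Groth.Agent.Sga3A.BCIso Groth.Agent.Sga3A.GLBasic

namespace K201.Coef

universe u

section Haus

variable {R : Type*} [CommRing R] {I : Ideal R}

theorem haus_of_injective {N N' : Type*} [AddCommGroup N] [Module R N] [AddCommGroup N'] [Module R N']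
    [IsHausdorff I N'] (f : N →ₗ[R] N') (hf : Function.Injective f) : IsHausdorff I N where
  haus' x hx := by
    apply hf
    rw [map_zero]
    apply IsHausdorff.haus (inferInstance : IsHausdorff I N')
    intro n
    have := hx n
    rw [SModEq.zero] at this ⊢
    exact map_mem_smul_top f this

theorem haus_finsupp {N ι : Type*} [AddCommGroup N] [Module R N] [IsHausdorff I N] :
    IsHausdorff I (ι →₀ N) where
  haus' x hx := by
    ext i
    rw [Finsupp.zero_apply]
    apply IsHausdorff.haus (inferInstance : IsHausdorff I N)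
    intro n
    have := hx n
    rw [SModEq.zero] at this ⊢
    exact map_mem_smul_top (Finsupp.lapply i) this

theorem eq_of_forall {N : Type*} [AddCommGroup N] [Module R N] [IsHausdorff I N] {x y : N}
    (h : ∀ n : ℕ, x - y ∈ (I ^ n • ⊤ : Submodule R N)) : x = y := by
  rw [← sub_eq_zero]
  apply IsHausdorff.haus (inferInstance : IsHausdorff I N)
  intro n
  rw [SModEq.zero]
  exact h n

end Haus

section

variable {R S B M : Type*} [CommRing R] [CommRing S] [Algebra R S] [CommRing B] [Bialgebra R B]
  [CommMonoid M] (e : S ⊗[R] B ≃ₐc[S] MonoidAlgebra S M)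

/-- the coefficient of `m` in `b`. -/
noncomputable def L (m : M) : B →ₗ[R] S :=
  (((Finsupp.lapply m).comp (MonoidAlgebra.coeffLinearEquiv S).toLinearMap).restrictScalars R).comp
    (((e : S ⊗[R] B →ₗ[S] MonoidAlgebra S M).restrictScalars R).comp (TensorProduct.mk R S B 1))

theorem L_apply (m : M) (b : B) : L e m b = (e (1 ⊗ₜ b)).coeff m := rfl

/-- the coefficient of `(m, m')` in an element of `B ⊗ B` -/
noncomputable def L2 (p : M × M) : B ⊗[R] B →ₗ[R] S :=
  (((Finsupp.lapply p).comp (MonoidAlgebra.coeffLinearEquiv S).toLinearMap).restrictScalars R).comp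
    ((((MonoidAlgebra.tensorEquiv S : MonoidAlgebra S M ⊗[S] MonoidAlgebra S M ≃ₗ[S] _).toLinearMap.comp
      (TensorProduct.map (e : S ⊗[R] B →ₗ[S] MonoidAlgebra S M)
      (e : S ⊗[R] B →ₗ[S] MonoidAlgebra S M))).comp
      (AlgebraTensorModule.distribBaseChange R S B B).toLinearMap).restrictScalars R ∘ₗ
      (TensorProduct.mk R S (B ⊗[R] B) 1))

theorem L2_apply (p : M × M) (z : B ⊗[R] B) : L2 e p z =
    (MonoidAlgebra.tensorEquiv S (TensorProduct.map (e : S ⊗[R] B →ₗ[S] MonoidAlgebra S M)
      (e : S ⊗[R] B →ₗ[S] MonoidAlgebra S M)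
      (AlgebraTensorModule.distribBaseChange R S B B (1 ⊗ₜ z)))).coeff p := rfl

theorem L2_tmul (m m' : M) (x y : B) : L2 e (m, m') (x ⊗ₜ y) = L e m x * L e m' y := by
  rw [L2_apply, AlgebraTensorModule.distribBaseChange_tmul, TensorProduct.map_tmul,
    tensorEquiv_tmul_coeff]
  rfl

open Classical in
theorem L2_comul (m m' : M) (b : B) :
    L2 e (m, m') (comul (R := R) b) = if m = m' then L e m b else 0 := by
  rw [L2_apply, ← comul_one_tmul]
  have h1 : (TensorProduct.map (e : S ⊗[R] B →ₗ[S] MonoidAlgebra S M)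
      (e : S ⊗[R] B →ₗ[S] MonoidAlgebra S M)) (comul (R := S) (1 ⊗ₜ[R] b)) =
      comul (R := S) (e (1 ⊗ₜ b)) := CoalgHomClass.map_comp_comul_apply e _
  rw [h1, tensorEquiv_comul_coeff]
  rfl

variable [Module.FaithfullyFlat R S]

theorem eq_zero_of_L {b : B} (h : ∀ m, L e m b = 0) : b = 0 := by
  apply Module.FaithfullyFlat.tensorProduct_mk_injective (A := R) (B := S) B
  rw [TensorProduct.mk_apply, map_zero]
  apply EquivLike.injective e
  rw [map_zero]
  ext m
  exact h m

theorem eq_zero_of_L2 {z : B ⊗[R] B} (h : ∀ p, L2 e p z = 0) : z = 0 := by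
  apply Module.FaithfullyFlat.tensorProduct_mk_injective (A := R) (B := S) (B ⊗[R] B)
  rw [TensorProduct.mk_apply, map_zero]
  apply (AlgebraTensorModule.distribBaseChange R S B B).injective
  apply (TensorProduct.congr (e : S ⊗[R] B ≃ₗ[S] MonoidAlgebra S M)
    (e : S ⊗[R] B ≃ₗ[S] MonoidAlgebra S M)).injective
  apply (MonoidAlgebra.tensorEquiv S).injective
  rw [map_zero, map_zero, map_zero]
  ext p
  exact h p

variable {I : Ideal R}

include e in
theorem haus_B [IsHausdorff I S] : IsHausdorff I B where
  haus' x hx := by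
    apply eq_zero_of_L e
    intro m
    apply IsHausdorff.haus (inferInstance : IsHausdorff I S)
    intro n
    have := hx n
    rw [SModEq.zero] at this ⊢
    exact map_mem_smul_top (L e m) this

include e in
theorem haus_BB [IsHausdorff I S] : IsHausdorff I (B ⊗[R] B) where
  haus' x hx := by
    apply eq_zero_of_L2 e
    intro p
    apply IsHausdorff.haus (inferInstance : IsHausdorff I S)
    intro n
    have := hx n
    rw [SModEq.zero] at this ⊢
    exact map_mem_smul_top (L2 e p) this

omit [Module.FaithfullyFlat R S] in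
include e in
/-- `N ⊗ (S ⊗ B)` is separated if `N ⊗ S` is. -/
theorem haus_tensor (N : Type*) [AddCommGroup N] [Module R N] [IsHausdorff I (N ⊗[R] S)] :
    IsHausdorff I (N ⊗[R] (S ⊗[R] B)) := by
  classical
  have h1 : IsHausdorff I (M →₀ N ⊗[R] S) := haus_finsupp
  let f : (S ⊗[R] B) ≃ₗ[R] (M →₀ S) :=
    ((e : S ⊗[R] B ≃ₗ[S] MonoidAlgebra S M).trans (MonoidAlgebra.coeffLinearEquiv S)).restrictScalars R
  exact haus_of_injective (((TensorProduct.congr (LinearEquiv.refl R N) f).trans
    (TensorProduct.finsuppRight R R N S M)).toLinearMap) (LinearEquiv.injective _)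

end

end K201.Coef
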