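import Groth.Agent.HopfRep.K191.ExactSeq
import Groth.Agent.Sga3.H793.MultPart
import Groth.Agent.Sga3A.FibMain
import Mathlib.RingTheory.TensorProduct.IncludeLeftSubRight

/-!
# Commutative extensions of groups of multiplicative type over a field
-/

set_option autoImplicit false

universe u

open TensorProduct HopfRep SGA3b

namespace K201.ExtField

open Groth.Agent.Sga3A.ComodBasic Groth.Agent.Sga3A.ComodUnip Groth.Agent.Sga3.H793.UnipPart
open Groth.Agent.Sga3.H793.UnipPart2 Groth.Agent.Sga3.H793.UnipPart3 Groth.Agent.Sga3.H793.MultPart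
open K191.ExactSeq K191.Galois

variable {k : Type u} [Field k] {A C B : Type u} [CommRing A] [HopfAlgebra k A]
  [CommRing C] [HopfAlgebra k C] [CommRing B] [HopfAlgebra k B] [Algebra B A] [IsScalarTower k B A]
  {ψ : A →ₐc[k] C} {φ : B →ₐc[k] A}

/-- Coinvariant elements come from the quotient group. -/
theorem mem_range_of_rho_eq [Module.FaithfullyFlat B A] (hψ : Function.Surjective ψ)
    (hker : RingHom.ker (ψ : A →ₐ[k] C) =
      Ideal.map (φ : B →ₐ[k] A) (RingHom.ker (Bialgebra.counitAlgHom k B)))
    (hφ : ∀ b, φ b = algebraMap B A b) (a : A) (ha : rho ψ a = a ⊗ₜ[k] (1 : C)) :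
    ∃ b : B, a = φ b := by
  have hco := coinv hker hφ
  have hbij := can_bijective hψ hker hφ hco
  have h1 : (a ⊗ₜ[B] (1 : A)) = (1 : A) ⊗ₜ[B] a := by
    apply hbij.1
    rw [can_tmul, can_tmul, ha, map_one, mul_one]
    exact (one_mul (a ⊗ₜ[k] (1 : C))).symm
  have h2 := (Algebra.IsEffective.of_faithfullyFlat B A a).mp (by
    rw [Algebra.TensorProduct.includeLeftSubRight_apply, h1, sub_self])
  obtain ⟨b, hb⟩ := h2
  exact ⟨b, by rw [hφ]; exact hb.symm⟩

/-- **A commutative extension of groups of multiplicative type over a field is of multiplicative type.** -/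
theorem isMultType_of_ext [Module.FaithfullyFlat B A] [Algebra.FiniteType k A] [Coalgebra.IsCocomm k A]
    (hψ : Function.Surjective ψ)
    (hker : RingHom.ker (ψ : A →ₐ[k] C) =
      Ideal.map (φ : B →ₐ[k] A) (RingHom.ker (Bialgebra.counitAlgHom k B)))
    (hφ : ∀ b, φ b = algebraMap B A b) (hB : IsMultTypeConst k B) (hC : IsMultTypeConst k C) :
    IsMultType k A := by
  have hinj : Function.Injective φ := by
    have h1 := FaithfulSMul.algebraMap_injective B A
    intro x y hxy
    rw [hφ, hφ] at hxy
    exact h1 hxy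
  -- the unipotent part is trivial
  have key : ∀ b ∈ unipSub k A, b = algebraMap k A (CoalgebraStruct.counit (R := k) b) := by
    intro b hb
    obtain ⟨n, hn⟩ := id hb
    have hψu : ∀ u ∈ unipSub k A, ψ u = algebraMap k C (CoalgebraStruct.counit (R := k) u) := by
      rintro u ⟨m, hm⟩
      have h1 := eq_counit_of_mem_soc hC m _ (map_mem_soc ψ m u hm)
      rw [h1]
      congr 1
      exact CoalgHomClass.counit_comp_apply ψ u
    obtain ⟨z, hz⟩ := (isHopfSubalgebra_unipSub (k := k) (A := A)).1 b hb
    have hrho : rho ψ b = b ⊗ₜ[k] (1 : C) := by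
      have h1 : (CoalgebraStruct.counit (R := k) (A := A)).lTensor A
        (CoalgebraStruct.comul (R := k) b) = b ⊗ₜ[k] (1 : k) := Coalgebra.lTensor_counit_comul b
      rw [rho_apply]
      have h2 : ∀ z : unipSub k A ⊗[k] unipSub k A,
          (ψ : A →ₐ[k] C).toLinearMap.lTensor A
            (TensorProduct.map (unipSub k A).val.toLinearMap (unipSub k A).val.toLinearMap z) =
          (Algebra.linearMap k C).lTensor A ((CoalgebraStruct.counit (R := k) (A := A)).lTensor A
            (TensorProduct.map (unipSub k A).val.toLinearMap (unipSub k A).val.toLinearMap z)) := by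
        intro z
        induction z with
        | zero => simp
        | add x y hx hy => simp only [map_add, hx, hy]
        | tmul x y =>
          rw [TensorProduct.map_tmul, LinearMap.lTensor_tmul, LinearMap.lTensor_tmul, LinearMap.lTensor_tmul]
          congr 1
          exact hψu y.1 y.2
      rw [← hz, h2, hz, h1, LinearMap.lTensor_tmul]
      congr 1
      exact map_one (algebraMap k C)
    obtain ⟨b', hb'⟩ := mem_range_of_rho_eq hψ hker hφ b hrho
    have h3 : b' ∈ soc k B B n := mem_soc_of_map φ hinj n b' (hb' ▸ hn)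
    have h4 := eq_counit_of_mem_soc hB n b' h3
    have h5 : CoalgebraStruct.counit (R := k) b = CoalgebraStruct.counit (R := k) b' := by
      rw [hb']
      exact CoalgHomClass.counit_comp_apply φ b'
    rw [h5, hb']
    calc φ b' = φ (algebraMap k B (CoalgebraStruct.counit (R := k) b')) := congrArg φ h4
      _ = _ := AlgHom.commutes (φ : B →ₐ[k] A) _
  have hbot : multIdeal k A = ⊥ := by
    rw [eq_bot_iff]
    refine Ideal.span_le.2 ?_
    rintro b ⟨hb, hb0⟩
    have h1 := key b hb
    rw [hb0, map_zero] at h1
    exact h1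
  have h : IsMultType k (A ⧸ multIdeal k A) :=
    Groth.Agent.Sga3A.FibMain.isMultType_of_const (isMultTypeConst_quotient (k := k) (A := A))
  let q : A →ₐc[k] A ⧸ multIdeal k A := Bialgebra.Quotient.mkBialgHom (R := k) (multIdeal k A)
  have hq : Function.Bijective q := by
    refine ⟨?_, Ideal.Quotient.mk_surjective⟩
    rw [injective_iff_map_eq_zero]
    intro a ha
    have h1 : a ∈ multIdeal k A := Ideal.Quotient.eq_zero_iff_mem.mp ha
    rw [hbot] at h1
    exact h1
  let e : A ≃ₐc[k] A ⧸ multIdeal k A := BialgEquiv.ofBijective q hq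
  exact Groth.Agent.Sga3A.FibLocal.isDiag_congr' e.symm h

end K201.ExtField
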