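import Groth.Agent.SGA3b.K201.TorsGen

/-!
# Extensions of groups of multiplicative type: exact sequences of characters

* `CharExt R A M' M'' γ`: over every field the characters of `A` are an extension of `M'` by `M''`
  (through the group-likes `γ m` of `A`);
* `isMultType_of_charExt`: a flat finitely presented group with fibres of multiplicative type and such
  exact sequences is of multiplicative type;
* `charExt_of_exact`: the exact sequences of an extension of `D(M'')` by `D(M')`.
-/

set_option autoImplicit false
universe u

open TensorProduct SGA3b IsLocalRing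

namespace K201.ExtHens

open Groth.Agent.Sga3A TorsFib TorsGen
open FibRes BCIso MTBasis FibDef FibDomain FibCompat

/-- Over every field the characters of `A` are an extension of `M'` by `M''`. -/
structure CharExt (R A : Type u) [CommRing R] [CommRing A] [HopfAlgebra R A] (M' M'' : Type u)
    [CommGroup M'] [CommGroup M''] (γ : M'' → A) : Prop where
  gl : ∀ m, IsGroupLikeElem R (γ m)
  ext : ∀ (L : Type u) [Field L] [Algebra R L] (N : Type u) [CommGroup N]
    (e : (L ⊗[R] A) ≃ₐc[L] MonoidAlgebra L N), ∃ (a : M'' →* N) (b : N →* M'),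
      Function.Injective a ∧ Function.Surjective b ∧ b.ker = a.range ∧
        ∀ m, e (1 ⊗ₜ γ m) = MonoidAlgebra.single (a m) 1

variable {R A M' M'' : Type u} [CommRing R] [CommRing A] [HopfAlgebra R A] [CommGroup M'] [CommGroup M'']
  {γ : M'' → A}

theorem CharExt.baseChange (h : CharExt R A M' M'' γ) (S : Type u) [CommRing S] [Algebra R S] :
    CharExt S (S ⊗[R] A) M' M'' (fun m => 1 ⊗ₜ γ m) where
  gl m := MTBasis.isGroupLikeElem_one_tmul _ (h.gl m)
  ext L _ _ N _ e := by
    let _ : Algebra R L := ((algebraMap S L).comp (algebraMap R S)).toAlgebra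
    have : IsScalarTower R S L := .of_algebraMap_eq' rfl
    obtain ⟨a, b, ha, hb, hab, hg⟩ := h.ext L N ((cancelBialg R S L A).symm.trans e)
    refine ⟨a, b, ha, hb, hab, fun m => ?_⟩
    rw [← hg m]
    rfl

theorem CharExt.inj (h : CharExt R A M' M'' γ) [Group.FG M'] {κ L M N : Type u} [Field κ] [Field L] [Algebra R κ]
    [Algebra R L] [CommGroup M] [CommGroup N]
    (e₀ : (κ ⊗[R] A) ≃ₐc[κ] MonoidAlgebra κ M) (e : (L ⊗[R] A) ≃ₐc[L] MonoidAlgebra L N) (u : N →* M)
    (hu : Function.Surjective u)
    (hc : ∀ g : A, IsGroupLikeElem R g → ∀ (n : N) (m : M), e (1 ⊗ₜ g) = MonoidAlgebra.single n 1 →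
        e₀ (1 ⊗ₜ g) = MonoidAlgebra.single m 1 → u n = m) : Function.Injective u := by
  obtain ⟨a, b, ha, hb, hab, hg⟩ := h.ext L N e
  obtain ⟨a₀, b₀, ha₀, hb₀, hab₀, hg₀⟩ := h.ext κ M e₀
  have hua : ∀ m, u (a m) = a₀ m := fun m => hc (γ m) (h.gl m) _ _ (hg m) (hg₀ m)
  have h1 : b.ker ≤ (b₀.comp u).ker := by
    intro n hn
    rw [hab] at hn
    obtain ⟨m, rfl⟩ := hn
    rw [MonoidHom.mem_ker, MonoidHom.comp_apply, hua, ← MonoidHom.mem_ker, hab₀]
    exact ⟨m, rfl⟩
  let v : M' →* M' := (MonoidHom.liftOfSurjective b hb) ⟨b₀.comp u, h1⟩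
  have hv : ∀ n, v (b n) = b₀ (u n) := fun n => MonoidHom.liftOfRightInverse_comp_apply _ _ _ ⟨b₀.comp u, h1⟩ n
  have hvs : Function.Surjective v := by
    intro m'
    obtain ⟨m, rfl⟩ := hb₀ m'
    obtain ⟨n, rfl⟩ := hu m
    exact ⟨b n, hv n⟩
  have hvi : Function.Injective v := by
    have : Module.Finite ℤ (Additive M') := Module.Finite.iff_addGroup_fg.mpr (by
      rw [← GroupFG.iff_add_fg]; infer_instance)
    have h2 : Function.Injective (MonoidHom.toAdditive v).toIntLinearMap :=
      OrzechProperty.injective_of_surjective_endomorphism _ hvs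
    exact h2
  rw [injective_iff_map_eq_one]
  intro n hn
  have h3 : b n = 1 := hvi (by rw [hv, hn, map_one, map_one])
  have h4 : n ∈ a.range := hab ▸ h3
  obtain ⟨m, rfl⟩ := h4
  rw [hua] at hn
  rw [ha₀ (hn.trans (map_one _).symm), map_one]

/-- **The criterion.** -/
theorem isMultType_of_charExt [Module.Flat R A] (hfp : Algebra.FinitePresentation R A) (h : AllFib R A)
    [Group.FG M'] (hE : CharExt R A M' M'' γ) : IsMultType R A := by
  refine FibSpread.isMultType_of_forall_localization' R A @Groth.Agent.S2973.result fun p _ => ?_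
  refine TorsGen.isMultType_of_isLocalRing _ _ (h.baseChange (Localization.AtPrime p)) ?_
  intro S _ _ _ _ M _ _ e₀ L _ _ N _ _ e u hu hc
  exact ((hE.baseChange (Localization.AtPrime p)).baseChange S).inj e₀ e u hu hc

section exact

variable (φ : MonoidAlgebra R M'' →ₐc[R] A) (ψ : A →ₐc[R] MonoidAlgebra R M')

/-- **The exact sequences of characters of an extension of `D(M'')` by `D(M')`.** -/
theorem charExt_of_exact (hψ : Function.Surjective ψ)
    (hker : RingHom.ker (ψ : A →ₐ[R] MonoidAlgebra R M') = Ideal.map (φ : MonoidAlgebra R M'' →ₐ[R] A)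
      (RingHom.ker (Bialgebra.counitAlgHom R (MonoidAlgebra R M''))))
    (hinj : ∀ (L : Type u) [Field L] [Algebra R L], Function.Injective (mapBialg L φ)) :
    CharExt R A M' M'' (fun m => φ (MonoidAlgebra.single m 1)) where
  gl m := (MonoidAlgebra.isGroupLikeElem_single_one m).map φ
  ext L _ _ N _ e := by
    classical
    have hgl : ∀ m : M'', IsGroupLikeElem L (e (1 ⊗ₜ φ (MonoidAlgebra.single m 1))) := fun m =>
      (MTBasis.isGroupLikeElem_one_tmul _ ((MonoidAlgebra.isGroupLikeElem_single_one m).map φ)).map e
    choose a ha using fun m => FibCompat.exists_single (hgl m)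
    have hsl : ∀ {X : Type u} {x y : X}, MonoidAlgebra.single x (1 : L) = MonoidAlgebra.single y 1 → x = y :=
      fun h => (MonoidAlgebra.single_left_injective (one_ne_zero)) h
    let a' : M'' →* N := MonoidHom.mk' a (by
      intro m m'
      apply hsl
      have h1 : (MonoidAlgebra.single (a m * a m') (1 : L)) = MonoidAlgebra.single (a m) 1 * MonoidAlgebra.single (a m') 1 := by
        rw [MonoidAlgebra.single_mul_single, mul_one]
      have h2 : (MonoidAlgebra.single (m * m') (1 : R)) = MonoidAlgebra.single m 1 * MonoidAlgebra.single m' 1 := by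
        rw [MonoidAlgebra.single_mul_single, mul_one]
      rw [h1, ← ha, ← ha, ← ha, ← map_mul, Algebra.TensorProduct.tmul_mul_tmul, ← map_mul, h2, mul_one])
    let β : MonoidAlgebra L N →ₐc[L] MonoidAlgebra L M' :=
      ((scalarBialg R L M' : L ⊗[R] MonoidAlgebra R M' →ₐc[L] MonoidAlgebra L M').comp (mapBialg L ψ)).comp
        (e.symm : MonoidAlgebra L N →ₐc[L] (L ⊗[R] A))
    have hβ : ∀ x, β (e x) = scalarBialg R L M' (mapBialg L ψ x) := fun x => by
      change scalarBialg R L M' (mapBialg L ψ (e.symm (e x))) = _
      rw [BialgEquiv.symm_apply_apply]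
    choose b hb using fun n : N => FibCompat.exists_single ((MonoidAlgebra.isGroupLikeElem_single_one (R := L) (A := L) n).map β)
    let b' : N →* M' := MonoidHom.mk' b (by
      intro m m'
      apply hsl
      have h1 : (MonoidAlgebra.single (m * m') (1 : L)) = MonoidAlgebra.single m 1 * MonoidAlgebra.single m' 1 := by
        rw [MonoidAlgebra.single_mul_single, mul_one]
      rw [← hb, h1, map_mul, hb, hb, MonoidAlgebra.single_mul_single, mul_one])
    have hψφ : ∀ x, ψ (φ x) = algebraMap R _ (CoalgebraStruct.counit (R := R) x) := by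
      intro x
      have h1 : x - algebraMap R _ (CoalgebraStruct.counit (R := R) x) ∈
          RingHom.ker (Bialgebra.counitAlgHom R (MonoidAlgebra R M'')) := by
        rw [RingHom.mem_ker, map_sub, AlgHom.commutes]
        exact sub_self _
      have h2 : φ (x - algebraMap R _ (CoalgebraStruct.counit (R := R) x)) ∈
          RingHom.ker (ψ : A →ₐ[R] MonoidAlgebra R M') := by
        rw [hker]
        exact Ideal.mem_map_of_mem _ h1
      have h3 : ψ (φ (x - algebraMap R _ (CoalgebraStruct.counit (R := R) x))) = 0 := h2
      rw [map_sub, map_sub, sub_eq_zero] at h3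
      rw [h3]
      exact AlgHom.commutes ((ψ : A →ₐ[R] MonoidAlgebra R M').comp (φ : MonoidAlgebra R M'' →ₐ[R] A)) _
    refine ⟨a', b', ?_, ?_, ?_, ha⟩
    · intro m m' hm
      have hm' : a m = a m' := hm
      have h1 := (ha m).trans ((congrArg (fun x => MonoidAlgebra.single x (1 : L)) hm').trans (ha m').symm)
      have h2 : mapBialg L φ (1 ⊗ₜ MonoidAlgebra.single m 1) = mapBialg L φ (1 ⊗ₜ MonoidAlgebra.single m' 1) := by
        rw [mapBialg_tmul, mapBialg_tmul]
        exact EquivLike.injective e h1
      have h3 := congrArg (scalarBialg R L M'') (hinj L h2)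
      rw [scalarBialg_tmul_single, scalarBialg_tmul_single] at h3
      simp only [map_one, mul_one] at h3
      exact hsl h3
    · intro m'
      have hβs : Function.Surjective β := by
        intro y
        obtain ⟨x, hx⟩ : ∃ x, mapBialg L ψ x = (scalarBialg R L M').symm y := by
          generalize (scalarBialg R L M').symm y = z
          induction z using TensorProduct.induction_on with
          | zero => exact ⟨0, map_zero _⟩
          | add x y hx hy =>
            obtain ⟨x', rfl⟩ := hx
            obtain ⟨y', rfl⟩ := hy
            exact ⟨x' + y', map_add _ _ _⟩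
          | tmul c x =>
            obtain ⟨x', rfl⟩ := hψ x
            exact ⟨c ⊗ₜ x', rfl⟩
        exact ⟨e x, by rw [hβ, hx, BialgEquiv.apply_symm_apply]⟩
      obtain ⟨y, hy⟩ := hβs (MonoidAlgebra.single m' 1)
      by_contra hcon
      have hcoef : ∀ z : MonoidAlgebra L N, (β z).coeff m' = 0 := by
        intro z
        induction z using MonoidAlgebra.induction_linear with
        | zero => simp
        | add x y hx hy => rw [map_add, MonoidAlgebra.coeff_add, Finsupp.add_apply, hx, hy, add_zero]
        | single n r =>
          have h1 : MonoidAlgebra.single n r = r • MonoidAlgebra.single n (1 : L) := by simp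
          have h2 : b n ≠ m' := fun h => hcon ⟨n, h⟩
          rw [h1, map_smul, hb, MonoidAlgebra.coeff_smul, Finsupp.smul_apply, MonoidAlgebra.coeff_single,
            Finsupp.single_eq_of_ne' h2, smul_zero]
      have h3 := hcoef y
      rw [hy, MonoidAlgebra.coeff_single, Finsupp.single_eq_same] at h3
      exact one_ne_zero h3
    · apply le_antisymm
      · intro n hn
        have hn' : b n = 1 := hn
        let q : MonoidAlgebra L N →ₐc[L] MonoidAlgebra L (N ⧸ a'.range) :=
          MonoidAlgebra.mapDomainBialgHom L (QuotientGroup.mk' a'.range)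
        have hx : (e.symm (MonoidAlgebra.single n 1 - 1)) ∈ RingHom.ker
            (Algebra.TensorProduct.map (AlgHom.id R L) (ψ : A →ₐ[R] MonoidAlgebra R M')) := by
          rw [RingHom.mem_ker]
          change mapBialg L ψ (e.symm (MonoidAlgebra.single n 1 - 1)) = 0
          have h1 : scalarBialg R L M' (mapBialg L ψ (e.symm (MonoidAlgebra.single n 1 - 1))) = 0 := by
            rw [← hβ, BialgEquiv.apply_symm_apply, map_sub, hb, hn', map_one]
            exact sub_self _
          exact (EquivLike.injective (scalarBialg R L M')) (h1.trans (map_zero _).symm)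
        rw [Algebra.TensorProduct.lTensor_ker _ hψ, hker] at hx
        change _ ∈ Ideal.map (Algebra.TensorProduct.includeRight : A →ₐ[R] L ⊗[R] A).toRingHom
          (Ideal.map (φ : MonoidAlgebra R M'' →ₐ[R] A).toRingHom _) at hx
        rw [Ideal.map_map] at hx
        have hle : Ideal.map ((Algebra.TensorProduct.includeRight : A →ₐ[R] L ⊗[R] A).toRingHom.comp
            (φ : MonoidAlgebra R M'' →ₐ[R] A).toRingHom)
            (RingHom.ker (Bialgebra.counitAlgHom R (MonoidAlgebra R M''))) ≤
            RingHom.ker ((q : MonoidAlgebra L N →ₐ[L] MonoidAlgebra L (N ⧸ a'.range)).comp (e : (L ⊗[R] A) →ₐ[L] MonoidAlgebra L N)) := by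
          rw [Ideal.map_le_iff_le_comap]
          intro x hx
          rw [Ideal.mem_comap, RingHom.mem_ker]
          change q (e (1 ⊗ₜ φ x)) = 0
          have hall : ∀ x : MonoidAlgebra R M'', q (e (1 ⊗ₜ φ x)) =
              algebraMap R _ (CoalgebraStruct.counit (R := R) x) := by
            intro x
            induction x using MonoidAlgebra.induction_linear with
            | zero => simp
            | add x y hx hy => rw [map_add, tmul_add, map_add, map_add, hx, hy, map_add, map_add]
            | single m r =>
              have h1 : MonoidAlgebra.single m r = r • MonoidAlgebra.single m (1 : R) := by simp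
              have h2 : q (MonoidAlgebra.single (a m) 1) = 1 := by
                change MonoidAlgebra.mapDomain _ _ = _
                rw [MonoidAlgebra.mapDomain_single]
                have h3 : (QuotientGroup.mk' a'.range) (a m) = 1 :=
                  (QuotientGroup.eq_one_iff (N := a'.range) (a m)).mpr ⟨m, rfl⟩
                rw [h3]
                rfl
              have h4 : q (e (1 ⊗ₜ φ (MonoidAlgebra.single m r))) = algebraMap R L r • q (e (1 ⊗ₜ φ (MonoidAlgebra.single m 1))) := by
                rw [← map_smul, ← map_smul, TensorProduct.smul_tmul', smul_eq_mul, mul_one, h1, map_smul,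
                  TensorProduct.tmul_smul, TensorProduct.smul_tmul', Algebra.smul_def, mul_one]
              rw [h4, ha, h2]
              have h5 : CoalgebraStruct.counit (R := R) (MonoidAlgebra.single m r) = r := by simp
              rw [h5, Algebra.smul_def, mul_one]
              exact (IsScalarTower.algebraMap_apply R L _ r).symm
          rw [hall x]
          have h6 : CoalgebraStruct.counit (R := R) x = 0 := hx
          rw [h6, map_zero]
        have h1 := hle hx
        rw [RingHom.mem_ker] at h1
        change q (e (e.symm _)) = 0 at h1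
        rw [BialgEquiv.apply_symm_apply, map_sub, map_one, sub_eq_zero] at h1
        have h2 : (MonoidAlgebra.single ((QuotientGroup.mk' a'.range) n) (1 : L)) = MonoidAlgebra.single 1 1 := by
          rw [← MonoidAlgebra.mapDomain_single]
          exact h1
        exact (QuotientGroup.eq_one_iff (N := a'.range) n).mp (hsl h2)
      · rintro _ ⟨m, rfl⟩
        change b (a m) = 1
        apply hsl
        rw [← hb, ← ha, hβ, mapBialg_tmul, hψφ]
        simp

end exact

end K201.ExtHens
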