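import Mathlib.RingTheory.LocalProperties.Basic
import Mathlib.RingTheory.Nakayama
import Mathlib.RingTheory.Finiteness.Ideal
import Mathlib.RingTheory.Localization.AtPrime.Basic
import Mathlib.RingTheory.Localization.Ideal

/-!
A finitely generated ideal all of whose fibres over the base vanish is zero.
-/

set_option autoImplicit false

namespace K201.FibreZero

universe u

variable {R : Type*} [CommRing R] {B : Type*} [CommRing B] [Algebra R B]

/-- `K` a finitely generated ideal of `B` with `K ⊗ κ(p) = 0` for all primes `p` of the form `q ∩ R`, `q` a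
maximal ideal of `B`: then `K = 0`. -/
theorem eq_bot_of_fibres (K : Ideal B) (hK : K.FG)
    (h : ∀ q : Ideal B, q.IsMaximal → ∀ a ∈ K, ∃ r : R, r ∉ q.comap (algebraMap R B) ∧
      algebraMap R B r * a ∈ q * K) : K = ⊥ := by
  refine Ideal.eq_of_localization_maximal fun q hq => ?_
  have := hq.isPrime
  rw [Ideal.map_bot]
  apply Submodule.eq_bot_of_le_smul_of_le_jacobson_bot (IsLocalRing.maximalIdeal (Localization.AtPrime q))
    _ (Ideal.FG.map hK _)
  · rw [Ideal.map_le_iff_le_comap]
    intro a ha
    obtain ⟨r, hr, h1⟩ := h q hq a ha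
    rw [Ideal.mem_comap]
    have hu : IsUnit (algebraMap B (Localization.AtPrime q) (algebraMap R B r)) :=
      IsLocalization.map_units (Localization.AtPrime q) (⟨algebraMap R B r, hr⟩ : q.primeCompl)
    have h2 := Ideal.mem_map_of_mem (algebraMap B (Localization.AtPrime q)) h1
    rw [Ideal.map_mul, Localization.AtPrime.map_eq_maximalIdeal, map_mul] at h2
    rw [smul_eq_mul]
    exact (Ideal.unit_mul_mem_iff_mem _ hu).1 h2
  · exact IsLocalRing.maximalIdeal_le_jacobson _

end K201.FibreZero
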