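import Groth.Agent.Sga3B.HaarDef
import Groth.Agent.SGA3b.K201.HomConv
import Mathlib.LinearAlgebra.TensorProduct.RightExactness
import Mathlib.RingTheory.Flat.Basic

/-!
A flat closed subgroup which is open along the unit section is open: its ideal is idempotent.
-/

set_option autoImplicit false

open TensorProduct Coalgebra Bialgebra WithConv
open Groth.Agent.Sga3B.HaarDef

namespace K201.OpenSubgp

universe u v w

variable {R : Type*} [CommRing R] {C B : Type*} [CommRing C] [HopfAlgebra R C] [CommRing B]
  [HopfAlgebra R B]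

/-- If `s` kills the ideal `N` of the closed subgroup `Spec B` and `ε(s) = 1`, then `N = N²`. -/
theorem mem_mul_self [Module.Flat R B] (φ : C →ₐc[R] B) (hφ : Function.Surjective φ) (s : C)
    (hs : counit (R := R) s = 1) (hsN : ∀ n, φ n = 0 → s * n = 0) (n : C) (hn : φ n = 0) :
    n ∈ RingHom.ker φ * RingHom.ker φ := by
  let f : C →ₐ[R] B := φ
  have hf : Function.Surjective f := hφ
  -- the universal points of `H` and of `G` with values in `C ⊗ B`
  let x : WithConv (C →ₐ[R] C ⊗[R] B) := toConv Algebra.TensorProduct.includeLeft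
  let y : WithConv (C →ₐ[R] C ⊗[R] B) := toConv (Algebra.TensorProduct.includeRight.comp f)
  -- `x * y` maps `N` to `N (C ⊗ B)`
  have h1 : ∀ n, φ n = 0 → (x * y) n ∈ (RingHom.ker f).map
      (Algebra.TensorProduct.includeLeft : C →ₐ[R] C ⊗[R] B) := by
    intro n hn
    rw [← Algebra.TensorProduct.rTensor_ker f hf, RingHom.mem_ker]
    have h2 : (Algebra.TensorProduct.map f (AlgHom.id R B)) ((x * y) n) =
        comul (R := R) (φ n) := by
      rw [K201.HomConv.mul_apply_repr, map_sum]
      have h3 : comul (R := R) (φ n) = TensorProduct.map (φ : C →ₗ[R] B) (φ : C →ₗ[R] B)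
          (comul (R := R) n) := (CoalgHomClass.map_comp_comul_apply φ _).symm
      rw [h3]
      conv_rhs => rw [← (ℛ R n).eq]
      rw [map_sum]
      refine Finset.sum_congr rfl fun i _ => ?_
      change (Algebra.TensorProduct.map f (AlgHom.id R B)) (((ℛ R n).left i ⊗ₜ[R] (1 : B)) *
        ((1 : C) ⊗ₜ[R] f ((ℛ R n).right i))) = _
      rw [Algebra.TensorProduct.tmul_mul_tmul, mul_one, one_mul, Algebra.TensorProduct.map_tmul,
        TensorProduct.map_tmul]
      rfl
    rw [h2, hn, map_zero]
  have h2 : ∀ z ∈ (RingHom.ker f).map (Algebra.TensorProduct.includeLeft : C →ₐ[R] C ⊗[R] B),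
      (s ⊗ₜ[R] (1 : B)) * z = 0 := by
    intro z hz
    induction hz using Submodule.span_induction with
    | mem z hz =>
      obtain ⟨n, hn, rfl⟩ := hz
      change (s ⊗ₜ[R] (1 : B)) * (n ⊗ₜ[R] (1 : B)) = 0
      rw [Algebra.TensorProduct.tmul_mul_tmul, hsN n hn, TensorProduct.zero_tmul]
    | zero => rw [mul_zero]
    | add a b _ _ ha hb => rw [mul_add, ha, hb, add_zero]
    | smul a b _ hb => rw [smul_eq_mul, mul_left_comm, hb, mul_zero]
  -- the automorphism of `C ⊗ B` over `B` given by translation by `y⁻¹`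
  let τ : C ⊗[R] B →ₐ[R] C ⊗[R] B := Algebra.TensorProduct.lift (x * y⁻¹).ofConv
    Algebra.TensorProduct.includeRight (fun _ _ => .all _ _)
  have hτx : pushG τ x = x * y⁻¹ := by
    apply WithConv.ofConv_injective
    ext c
    change τ (c ⊗ₜ 1) = (x * y⁻¹) c
    change (Algebra.TensorProduct.lift (x * y⁻¹).ofConv
      Algebra.TensorProduct.includeRight (fun _ _ => .all _ _)) (c ⊗ₜ 1) = _
    rw [Algebra.TensorProduct.lift_tmul, map_one, mul_one]
  have hτy : pushG τ y = y := by
    apply WithConv.ofConv_injective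
    ext c
    change τ (1 ⊗ₜ f c) = 1 ⊗ₜ f c
    change (Algebra.TensorProduct.lift (x * y⁻¹).ofConv
      Algebra.TensorProduct.includeRight (fun _ _ => .all _ _)) (1 ⊗ₜ f c) = _
    rw [Algebra.TensorProduct.lift_tmul, map_one, one_mul]
    rfl
  have hτxy : pushG τ (x * y) = x := by
    rw [map_mul, hτx, hτy, inv_mul_cancel_right]
  -- `(x y⁻¹)(s)` kills `N`
  have h3 : ((x * y⁻¹) s) * (n ⊗ₜ[R] (1 : B)) = 0 := by
    have h4 := congrArg τ (h2 _ (h1 n hn))
    rw [map_mul, map_zero] at h4
    have h5 : τ (s ⊗ₜ[R] (1 : B)) = (x * y⁻¹) s := by rw [← hτx]; rfl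
    have h6 : τ ((x * y) n) = n ⊗ₜ[R] (1 : B) := by
      have : τ ((x * y) n) = (pushG τ (x * y)) n := rfl
      rw [this, hτxy]
      rfl
    rwa [h5, h6] at h4
  -- lift to `C ⊗ C`
  let x₀ : WithConv (C →ₐ[R] C ⊗[R] C) := toConv Algebra.TensorProduct.includeLeft
  let y₀ : WithConv (C →ₐ[R] C ⊗[R] C) := toConv Algebra.TensorProduct.includeRight
  let W : C ⊗[R] C := (x₀ * y₀⁻¹) s
  have hW1 : Algebra.TensorProduct.map (AlgHom.id R C) f W = (x * y⁻¹) s := by
    have hx : pushG (Algebra.TensorProduct.map (AlgHom.id R C) f) x₀ = x := by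
      apply WithConv.ofConv_injective
      ext c
      change (Algebra.TensorProduct.map (AlgHom.id R C) f) (c ⊗ₜ 1) = c ⊗ₜ 1
      rw [Algebra.TensorProduct.map_tmul, map_one]
      rfl
    have hy : pushG (Algebra.TensorProduct.map (AlgHom.id R C) f) y₀ = y := by
      apply WithConv.ofConv_injective
      ext c
      change (Algebra.TensorProduct.map (AlgHom.id R C) f) (1 ⊗ₜ c) = 1 ⊗ₜ f c
      rw [Algebra.TensorProduct.map_tmul, map_one]
    have : pushG (Algebra.TensorProduct.map (AlgHom.id R C) f) (x₀ * y₀⁻¹) = x * y⁻¹ := by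
      rw [map_mul, map_inv, hx, hy]
    exact congrArg (fun g : WithConv (C →ₐ[R] C ⊗[R] B) => g s) this
  have hW2 : Algebra.TensorProduct.lmul' R W = 1 := by
    have hx : pushG (Algebra.TensorProduct.lmul' R : C ⊗[R] C →ₐ[R] C) x₀ = toConv (AlgHom.id R C) := by
      apply WithConv.ofConv_injective
      ext c
      change Algebra.TensorProduct.lmul' R (c ⊗ₜ 1) = c
      simp
    have hy : pushG (Algebra.TensorProduct.lmul' R : C ⊗[R] C →ₐ[R] C) y₀ = toConv (AlgHom.id R C) := by
      apply WithConv.ofConv_injective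
      ext c
      change Algebra.TensorProduct.lmul' R (1 ⊗ₜ c) = c
      simp
    have h5 : pushG (Algebra.TensorProduct.lmul' R : C ⊗[R] C →ₐ[R] C) (x₀ * y₀⁻¹) = 1 := by
      rw [map_mul, map_inv, hx, hy, mul_inv_cancel]
    have h6 := congrArg (fun g : WithConv (C →ₐ[R] C) => g s) h5
    have h7 : (1 : WithConv (C →ₐ[R] C)) s = algebraMap R C (counit (R := R) s) := rfl
    rw [h7, hs, map_one] at h6
    exact h6
  -- the module `N`
  let N : Submodule R C := LinearMap.ker f.toLinearMap
  let l : C →ₗ[R] N :=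
    { toFun := fun a => ⟨a * n, by
        rw [LinearMap.mem_ker]
        change f (a * n) = 0
        rw [map_mul]
        have : f n = 0 := hn
        rw [this, mul_zero]⟩
      map_add' := fun a b => by ext; simp [add_mul]
      map_smul' := fun r a => by ext; simp }
  let z : N ⊗[R] C := l.rTensor C W
  have hz : f.toLinearMap.lTensor N z = 0 := by
    apply Module.Flat.rTensor_preserves_injective_linearMap (M := B) N.subtype N.subtype_injective
    rw [map_zero, ← h3, ← hW1]
    have : ∀ V : C ⊗[R] C, (N.subtype.rTensor B) (f.toLinearMap.lTensor N (l.rTensor C V)) =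
        (Algebra.TensorProduct.map (AlgHom.id R C) f V) * (n ⊗ₜ[R] (1 : B)) := by
      intro V
      induction V using TensorProduct.induction_on with
      | zero => simp only [map_zero, zero_mul]
      | tmul a b =>
        rw [LinearMap.rTensor_tmul, LinearMap.lTensor_tmul, LinearMap.rTensor_tmul,
          Algebra.TensorProduct.map_tmul, Algebra.TensorProduct.tmul_mul_tmul, mul_one]
        rfl
      | add a b ha hb => simp only [map_add, add_mul, ha, hb]
    exact this W
  have hex : Function.Exact (N.subtype.lTensor N) (f.toLinearMap.lTensor N) :=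
    lTensor_exact N (LinearMap.exact_subtype_ker_map f.toLinearMap) hf
  obtain ⟨t, ht⟩ := (hex z).1 hz
  -- multiplication
  let mul : N ⊗[R] C →ₗ[R] C := (LinearMap.mul' R C).comp (N.subtype.rTensor C)
  have h8 : mul z = n := by
    have : ∀ V : C ⊗[R] C, mul (l.rTensor C V) = Algebra.TensorProduct.lmul' R V * n := by
      intro V
      induction V using TensorProduct.induction_on with
      | zero => simp only [map_zero, zero_mul]
      | tmul a b =>
        simp only [mul, l, LinearMap.rTensor_tmul, LinearMap.comp_apply, LinearMap.mul'_apply,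
          Algebra.TensorProduct.lmul'_apply_tmul]
        change a * n * b = a * b * n
        ring
      | add a b ha hb => simp only [map_add, add_mul, ha, hb]
    rw [this, hW2, one_mul]
  have h9 : ∀ t : N ⊗[R] N, mul (N.subtype.lTensor N t) ∈
      ((RingHom.ker φ * RingHom.ker φ : Ideal C)) := by
    intro t
    induction t using TensorProduct.induction_on with
    | zero => rw [map_zero, map_zero]; exact zero_mem _
    | tmul a b =>
      change (a : C) * (b : C) ∈ _
      exact Ideal.mul_mem_mul a.2 b.2
    | add a b ha hb => rw [map_add, map_add]; exact add_mem ha hb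
  rw [← h8, ← ht]
  exact h9 t

end K201.OpenSubgp
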