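import Groth.Agent.SGA3b.K201.TorsFib

/-!
# Flat groups with fibres of multiplicative type: the general specialisation criterion

* `exists_equiv_of_fibres`: over a strictly henselian local ring, a flat finitely presented group whose
  fibres are of multiplicative type is diagonalisable as soon as every surjective specialisation map
  from the characters of a geometric fibre to the characters of the closed fibre (compatible with the
  characters of the group) is injective;
* `isMultType_of_ordLe`: the criterion by the orders of the torsion kernels.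
-/

set_option autoImplicit false
universe u

open TensorProduct SGA3b IsLocalRing

namespace K201.TorsGen

open Groth.Agent.Sga3A TorsFib
open FibRes BCIso MTBasis FibDef FibDomain FibCompat

/-- The domain case. -/
theorem exists_equiv_of_domain {R A M L N : Type u} [CommRing R] [IsDomain R] [IsLocalRing R]
    [CommRing A] [HopfAlgebra R A] [CommGroup M] [Group.FG M] [Field L] [Algebra R L]
    [CommGroup N] [Module.Flat R A] [Algebra.FinitePresentation R A]
    [Algebra (FractionRing R) L] [IsScalarTower R (FractionRing R) L]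
    (hR : ∃ r : R, r ≠ 0 ∧ ¬ IsUnit r)
    (q : ∀ l : ℕ, A →ₐc[R] MonoidAlgebra R (Q M l))
    (hq : ∀ l, 0 < l → Function.Surjective (q l))
    (e : (L ⊗[R] A) ≃ₐc[L] MonoidAlgebra L N)
    (e₀ : (ResidueField R ⊗[R] A) ≃ₐc[ResidueField R] MonoidAlgebra (ResidueField R) M)
    (hqe : ∀ l, 0 < l → ∀ a, MonoidAlgebra.mapRingHom (Q M l) (residue R) (q l a) =
      MonoidAlgebra.mapDomainBialgHom (ResidueField R) (qm M l) (e₀ (1 ⊗ₜ a)))
    (hinj : ∀ [Group.FG N] (h : N →* M), Function.Surjective h →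
      (∀ g : A, IsGroupLikeElem R g → ∀ (n : N) (m : M), e (1 ⊗ₜ g) = MonoidAlgebra.single n 1 →
        e₀ (1 ⊗ₜ g) = MonoidAlgebra.single m 1 → h n = m) → Function.Injective h)
    (hC : ∀ r : R, r ≠ 0 → ¬ IsUnit r → Compat q r) :
    Nonempty (A ≃ₐc[R] MonoidAlgebra R M) := by
  have hRL : Function.Injective (algebraMap R L) := by
    rw [IsScalarTower.algebraMap_eq R (FractionRing R) L]
    exact (algebraMap (FractionRing R) L).injective.comp (IsFractionRing.injective R _)
  obtain ⟨h, hsurj, hl⟩ := exists_hom hR q hq e hC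
  have hNfg : Group.FG N := MTConst.fg_of_gbasis (GBasis.ofBialgEquiv e)
  obtain ⟨ρ, hs, hρ, hρq⟩ := exists_rho q e hC h hsurj hl
  have hgrp : ∀ g : A, IsGroupLikeElem R g → ∀ (n : N) (m : M), e (1 ⊗ₜ g) = MonoidAlgebra.single n 1 →
        e₀ (1 ⊗ₜ g) = MonoidAlgebra.single m 1 → h n = m := by
    intro g hg n m hn hm
    obtain ⟨m', hm'⟩ := FibCompat.exists_single (hg.map ρ)
    have h1 := hρ g
    rw [hn, hm'] at h1
    have h2 : (MonoidAlgebra.single m' (1 : L)) = MonoidAlgebra.single (h n) 1 := by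
      simpa using h1
    have h3 : h n = m' := ((MonoidAlgebra.single_left_injective (one_ne_zero)) h2).symm
    rw [h3]
    by_contra hne
    have hne' : m'⁻¹ * m ≠ 1 := fun h => hne (by rw [inv_mul_eq_one] at h; exact h)
    obtain ⟨l, hl0, hl1⟩ := exists_notMem_range hne'
    apply hl1
    have h4 := hqe l hl0 g
    rw [hρq l hl0 g, hm', hm] at h4
    have h5 : (MonoidAlgebra.single (QuotientGroup.mk m' : Q M l) (1 : ResidueField R)) =
        MonoidAlgebra.single (QuotientGroup.mk m) 1 := by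
      simpa using h4
    exact QuotientGroup.eq.mp ((MonoidAlgebra.single_left_injective (one_ne_zero)) h5)
  have hinj' : Function.Injective h := hinj h hsurj hgrp
  have hρi : Function.Injective ρ := by
    intro a b hab
    have h1 : MonoidAlgebra.mapDomainBialgHom L h (e (1 ⊗ₜ a)) =
        MonoidAlgebra.mapDomainBialgHom L h (e (1 ⊗ₜ b)) := by rw [← hρ, ← hρ, hab]
    have h2 : e (1 ⊗ₜ a) = e (1 ⊗ₜ b) := by
      refine MonoidAlgebra.mapDomain_injective hinj' ?_
      exact h1
    have h3 : (1 : L) ⊗ₜ[R] a = 1 ⊗ₜ b := EquivLike.injective e h2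
    exact FibDomain.one_tmul_injective hRL h3
  exact ⟨BialgEquiv.ofBijective ρ ⟨hρi, hs⟩⟩

/-- The domain case. -/
theorem exists_equiv_of_domain' (R A M : Type u) [CommRing R] [IsDomain R] [HenselianLocalRing R]
    [IsSepClosed (ResidueField R)] (hR : ¬ IsField R) [CommRing A] [HopfAlgebra R A] [CommGroup M]
    [Group.FG M] [Module.Flat R A] [Algebra.FinitePresentation R A]
    (hK : IsMultType (FractionRing R) (FractionRing R ⊗[R] A))
    (h : ∀ r ∈ maximalIdeal R, r ≠ 0 → DiagMod R A M (Ideal.span {r}))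
    (e₀ : (ResidueField R ⊗[R] A) ≃ₐc[ResidueField R] MonoidAlgebra (ResidueField R) M)
    (hinj : ∀ (L : Type u) [Field L] [Algebra R L] (N : Type u) [CommGroup N] [Group.FG N]
      (e : (L ⊗[R] A) ≃ₐc[L] MonoidAlgebra L N) (h : N →* M), Function.Injective (algebraMap R L) →
      Function.Surjective h →
      (∀ g : A, IsGroupLikeElem R g → ∀ (n : N) (m : M), e (1 ⊗ₜ g) = MonoidAlgebra.single n 1 →
        e₀ (1 ⊗ₜ g) = MonoidAlgebra.single m 1 → h n = m) → Function.Injective h) :
    Nonempty (A ≃ₐc[R] MonoidAlgebra R M) := by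
  classical
  choose q hqs hq using FibTors.exists_quotient_torsion R A M hR hK h e₀
  let q' : ∀ l : ℕ, A →ₐc[R] MonoidAlgebra R (Q M l) := fun l =>
    if hl : 0 < l then q l hl else
      (BialgHom.ofAlgHom (Algebra.ofId R (MonoidAlgebra R (Q M l))) (by ext) (by ext)).comp
        (Bialgebra.counitBialgHom R A)
  have hq' : ∀ l (hl : 0 < l), q' l = q l hl := fun l hl => dif_pos hl
  have hqe : ∀ l, 0 < l → ∀ a, MonoidAlgebra.mapRingHom (Q M l) (residue R) (q' l a) =
      MonoidAlgebra.mapDomainBialgHom (ResidueField R) (qm M l) (e₀ (1 ⊗ₜ a)) := fun l hl a => by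
    rw [hq' l hl, hq l hl]; rfl
  have hC : ∀ r : R, r ≠ 0 → ¬ IsUnit r → Compat q' r := fun r hr0 hru =>
    compat_of_residue q' e₀ hqe r hru (h r ((mem_maximalIdeal r).mpr hru) hr0)
  obtain ⟨L, _, _, N, _, ⟨e⟩⟩ := FibLocal.exists_splitting_field _ _ hK
  let _ : Algebra R L := ((algebraMap (FractionRing R) L).comp (algebraMap R (FractionRing R))).toAlgebra
  have : IsScalarTower R (FractionRing R) L := IsScalarTower.of_algebraMap_eq (fun _ => rfl)
  have hR' : ∃ r : R, r ≠ 0 ∧ ¬ IsUnit r := by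
    by_contra hcon
    push Not at hcon
    exact hR ⟨⟨0, 1, zero_ne_one⟩, mul_comm, fun {a} ha => (hcon a ha).exists_right_inv⟩
  have hRL : Function.Injective (algebraMap R L) := by
    rw [IsScalarTower.algebraMap_eq R (FractionRing R) L]
    exact (algebraMap (FractionRing R) L).injective.comp (IsFractionRing.injective R _)
  exact exists_equiv_of_domain hR' q' (fun l hl => by rw [hq' l hl]; exact hqs l hl)
    ((cancelBialg R (FractionRing R) L A).symm.trans e) e₀ hqe
    (fun h hs hg => hinj L N _ h hRL hs hg) hC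

/-- **The strictly henselian case.** -/
theorem exists_equiv_of_fibres (R A M : Type u) [CommRing R] [HenselianLocalRing R]
    [IsSepClosed (ResidueField R)] [CommRing A] [HopfAlgebra R A] [CommGroup M] [Group.FG M]
    [Module.Flat R A] [Algebra.FinitePresentation R A]
    (e₀ : (ResidueField R ⊗[R] A) ≃ₐc[ResidueField R] MonoidAlgebra (ResidueField R) M)
    (hfib : ∀ (p : Ideal R) [p.IsPrime], IsMultType p.ResidueField (p.ResidueField ⊗[R] A))
    (hinj : ∀ (L : Type u) [Field L] [Algebra R L] (N : Type u) [CommGroup N] [Group.FG N]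
      (e : (L ⊗[R] A) ≃ₐc[L] MonoidAlgebra L N) (h : N →* M), Function.Surjective h →
      (∀ g : A, IsGroupLikeElem R g → ∀ (n : N) (m : M), e (1 ⊗ₜ g) = MonoidAlgebra.single n 1 →
        e₀ (1 ⊗ₜ g) = MonoidAlgebra.single m 1 → h n = m) → Function.Injective h) :
    Nonempty (A ≃ₐc[R] MonoidAlgebra R M) := by
  classical
  by_contra hcon
  have hbot : ¬ DiagMod R A M ⊥ := fun h => hcon (FibLocal.diagMod_iff_of_bot h)
  obtain ⟨J, -, hJ⟩ := zorn_le_nonempty₀ {J : Ideal R | J ≤ maximalIdeal R ∧ ¬ DiagMod R A M J}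
    (by
      intro c hcs hc y hy
      refine ⟨sSup c, ⟨sSup_le fun J hJ => (hcs hJ).1, fun h => ?_⟩, fun z hz => le_sSup hz⟩
      obtain ⟨J, hJc, hJ⟩ := FibChain.exists_mem_diagMod_of_sSup R A M c ⟨y, hy⟩ hc h
      exact (hcs hJc).2 hJ) ⊥ ⟨bot_le, hbot⟩
  obtain ⟨⟨hJm, hJn⟩, hJmax⟩ := hJ
  have hJtop : J ≠ ⊤ := fun h => (maximalIdeal.isMaximal R).ne_top (top_le_iff.mp (h ▸ hJm))
  have hens : HenselianLocalRing (R ⧸ J) := FibLocal.henselianLocalRing_quotient R J hJtop
  have hsep : IsSepClosed (ResidueField (R ⧸ J)) := FibLocal.isSepClosed_residueField_quotient R J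
  -- larger ideals
  have hup : ∀ I : Ideal (R ⧸ J), I ≠ ⊥ → I ≤ maximalIdeal (R ⧸ J) →
      DiagMod (R ⧸ J) ((R ⧸ J) ⊗[R] A) M I := by
    intro I hI hIm
    have h1 : J ≤ I.comap (Ideal.Quotient.mk J) := by
      intro x hx
      rw [Ideal.mem_comap, Ideal.Quotient.eq_zero_iff_mem.mpr hx]
      exact I.zero_mem
    have h2 : ¬ (I.comap (Ideal.Quotient.mk J) ≤ J) := by
      intro h
      apply hI
      rw [eq_bot_iff]
      intro x hx
      obtain ⟨x, rfl⟩ := Ideal.Quotient.mk_surjective x
      exact Ideal.Quotient.eq_zero_iff_mem.mpr (h hx)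
    have h3 : I.comap (Ideal.Quotient.mk J) ≤ maximalIdeal R := by
      refine IsLocalRing.le_maximalIdeal fun h => ?_
      rw [Ideal.comap_eq_top_iff] at h
      rw [h] at hIm
      exact (maximalIdeal.isMaximal (R ⧸ J)).ne_top (top_le_iff.mp hIm)
    have h4 : DiagMod R A M (I.comap (Ideal.Quotient.mk J)) := by
      by_contra h5
      exact h2 (hJmax ⟨h3, h5⟩ h1)
    let f : (R ⧸ I.comap (Ideal.Quotient.mk J)) →ₐ[R] (R ⧸ J) ⧸ I :=
      Ideal.quotientMapₐ I (Ideal.Quotient.mkₐ R J) le_rfl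
    obtain ⟨e⟩ := TypeLemma.diag_of_algHom f h4
    exact ⟨(cancelBialg R (R ⧸ J) ((R ⧸ J) ⧸ I) A).trans e⟩
  have hdom : IsDomain (R ⧸ J) := by
    have : NoZeroDivisors (R ⧸ J) := by
      refine ⟨fun {a b} hab => ?_⟩
      by_contra hcon'
      push Not at hcon'
      have ha : a ∈ maximalIdeal (R ⧸ J) := by
        rw [mem_maximalIdeal]
        intro hu
        exact hcon'.2 ((hu.mul_right_eq_zero).mp hab)
      have hb : b ∈ maximalIdeal (R ⧸ J) := by
        rw [mem_maximalIdeal]
        intro hu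
        exact hcon'.1 ((hu.mul_left_eq_zero).mp hab)
      apply hJn
      exact FibLocal.diagMod_iff_of_bot (FibGlue.diagMod_bot_of_mul_eq_zero (R ⧸ J) ((R ⧸ J) ⊗[R] A) M a b ha hb hab
        (hup _ (by rw [Ne, Ideal.span_singleton_eq_bot]; exact hcon'.1)
          (by rwa [Ideal.span_singleton_le_iff_mem]))
        (hup _ (by rw [Ne, Ideal.span_singleton_eq_bot]; exact hcon'.2)
          (by rwa [Ideal.span_singleton_le_iff_mem])))
    exact NoZeroDivisors.to_isDomain _
  have hprime : J.IsPrime := (Ideal.Quotient.isDomain_iff_prime J).mp hdom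
  have hnf : ¬ IsField (R ⧸ J) := by
    intro h
    have h1 : J.IsMaximal := Ideal.Quotient.maximal_of_isField J h
    have h2 : J = maximalIdeal R := eq_maximalIdeal h1
    subst h2
    exact hJn ⟨e₀⟩
  -- closed fibre
  have hlh : IsLocalHom (Ideal.Quotient.mk J) := Ideal.Quotient.mk_surjective.isLocalHom _
  let g : ResidueField R →ₐ[R] ResidueField (R ⧸ J) :=
    { ResidueField.map (Ideal.Quotient.mk J) with
      commutes' := fun r => rfl }
  obtain ⟨e₁, he₁⟩ := exists_bc_equiv g e₀
  -- generic fibre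
  have hm := hfib J
  let K' := FractionRing (R ⧸ J)
  let i₀ : J.ResidueField ≃ₐ[R ⧸ J] K' := IsLocalization.algEquiv (nonZeroDivisors (R ⧸ J)) _ _
  let i : J.ResidueField ≃ₐ[R] K' := i₀.restrictScalars R
  have hK : IsMultType K' (K' ⊗[R ⧸ J] ((R ⧸ J) ⊗[R] A)) := by
    let _ : Algebra J.ResidueField K' := i.toRingHom.toAlgebra
    have : IsScalarTower R J.ResidueField K' := .of_algebraMap_eq' (i : J.ResidueField →ₐ[R] K').comp_algebraMap.symm
    exact FibLocal.isDiag_congr' ((cancelBialg R J.ResidueField K' A).trans (cancelBialg R (R ⧸ J) K' A).symm)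
      (NilDescent.isMultType_baseChange K' hm)
  refine hJn (exists_equiv_of_domain' (R ⧸ J) ((R ⧸ J) ⊗[R] A) M hnf hK ?_
    ((cancelBialg R (R ⧸ J) (ResidueField (R ⧸ J)) A).trans e₁) ?_)
  · intro r hr hr0
    exact hup _ (by rw [Ne, Ideal.span_singleton_eq_bot]; exact hr0)
      (by rwa [Ideal.span_singleton_le_iff_mem])
  · intro L _ _ N _ _ e h _ hs hg
    let _ : Algebra R L := ((algebraMap (R ⧸ J) L).comp (algebraMap R (R ⧸ J))).toAlgebra
    have : IsScalarTower R (R ⧸ J) L := .of_algebraMap_eq' rfl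
    refine hinj L N ((cancelBialg R (R ⧸ J) L A).symm.trans e) h hs fun x hx n m hn hm' => ?_
    have hx1 : IsGroupLikeElem (R ⧸ J) ((1 : R ⧸ J) ⊗ₜ[R] x) := MTBasis.isGroupLikeElem_one_tmul _ hx
    refine hg _ hx1 n m ?_ ?_
    · exact hn
    · have h1 := he₁ (1 ⊗ₜ x)
      rw [hm'] at h1
      have h2 : MTBasis.bc A g ((1 : ResidueField R) ⊗ₜ[R] x) = 1 ⊗ₜ x := by
        simp [MTBasis.bc]
      rw [h2] at h1
      change e₁ (cancelBialg R (R ⧸ J) (ResidueField (R ⧸ J)) A (1 ⊗ₜ (1 ⊗ₜ x))) = _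
      have h3 : cancelBialg R (R ⧸ J) (ResidueField (R ⧸ J)) A (1 ⊗ₜ (1 ⊗ₜ x)) = 1 ⊗ₜ x := by
        change (Algebra.TensorProduct.cancelBaseChange R (R ⧸ J) (R ⧸ J) (ResidueField (R ⧸ J)) A) _ = _
        simp
      rw [h3, h1]
      simp

/-- **The local criterion.** -/
theorem isMultType_of_isLocalRing (R A : Type u) [CommRing R] [IsLocalRing R] [CommRing A]
    [HopfAlgebra R A] [Module.Flat R A] [Algebra.FinitePresentation R A] (h : AllFib R A)
    (hinj : ∀ (S : Type u) [CommRing S] [Algebra R S] [HenselianLocalRing S] [IsSepClosed (ResidueField S)]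
      (M : Type u) [CommGroup M] [Group.FG M]
      (e₀ : (ResidueField S ⊗[S] (S ⊗[R] A)) ≃ₐc[ResidueField S] MonoidAlgebra (ResidueField S) M)
      (L : Type u) [Field L] [Algebra S L] (N : Type u) [CommGroup N] [Group.FG N]
      (e : (L ⊗[S] (S ⊗[R] A)) ≃ₐc[L] MonoidAlgebra L N) (h : N →* M), Function.Surjective h →
      (∀ g : S ⊗[R] A, IsGroupLikeElem S g → ∀ (n : N) (m : M), e (1 ⊗ₜ g) = MonoidAlgebra.single n 1 →
        e₀ (1 ⊗ₜ g) = MonoidAlgebra.single m 1 → h n = m) → Function.Injective h) :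
    IsMultType R A := by
  obtain ⟨S, _, _, _, _, hS⟩ := Groth.Agent.S0537.result R
  have hff : Module.FaithfullyFlat R S := Groth.Agent.S0539.result R S
  have hhens : HenselianLocalRing S := Hensel.IsStrictHenselization.henselian R
  have hsep : IsSepClosed (ResidueField S) :=
    (Hensel.IsStrictHenselization.isSepClosure (R := R) (S := S)).sep_closed
  have h' := h.baseChange S
  obtain ⟨M, _, ⟨e₀⟩⟩ := FibMain.isDiag_of_isSepClosed (ResidueField S)
    (ResidueField S ⊗[S] (S ⊗[R] A)) inferInstance (h' (ResidueField S))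
  have hfg : Group.FG M := by
    have : Algebra.FiniteType (ResidueField S) (MonoidAlgebra (ResidueField S) M) :=
      Algebra.FiniteType.equiv inferInstance
        (e₀ : (ResidueField S ⊗[S] (S ⊗[R] A)) ≃ₐ[ResidueField S] _)
    exact MonoidAlgebra.finiteType_iff_group_fg.mp this
  obtain ⟨e⟩ := exists_equiv_of_fibres S (S ⊗[R] A) M e₀ (fun p _ => h' p.ResidueField)
    (fun L _ _ N _ _ e h hs hg => hinj S M e₀ L N e h hs hg)
  exact FibMain.isMultType_of_const ⟨S, _, _, hff, M, _, ⟨e⟩⟩

/-- The orders of the torsion kernels of the fibres do not decrease under specialisation. -/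
def OrdLe (R A : Type u) [CommRing R] [CommRing A] [HopfAlgebra R A] : Prop :=
  ∀ n : ℕ, 0 < n → ∀ (L L' : Type u) [Field L] [Field L'] [Algebra R L] [Algebra R L'] (N N' : Type u)
    [CommGroup N] [CommGroup N'] [Group.FG N] [Group.FG N'],
    RingHom.ker (algebraMap R L) ≤ RingHom.ker (algebraMap R L') →
    ((L ⊗[R] A) ≃ₐc[L] MonoidAlgebra L N) → ((L' ⊗[R] A) ≃ₐc[L'] MonoidAlgebra L' N') →
    Nat.card (Q N n) ≤ Nat.card (Q N' n)

theorem OrdLe.baseChange {R A : Type u} [CommRing R] [CommRing A] [HopfAlgebra R A]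
    (h : OrdLe R A) (S : Type u) [CommRing S] [Algebra R S] : OrdLe S (S ⊗[R] A) := by
  intro n hn L L' _ _ _ _ N N' _ _ _ _ hk e e'
  let _ : Algebra R L := ((algebraMap S L).comp (algebraMap R S)).toAlgebra
  have : IsScalarTower R S L := .of_algebraMap_eq' rfl
  let _ : Algebra R L' := ((algebraMap S L').comp (algebraMap R S)).toAlgebra
  have : IsScalarTower R S L' := .of_algebraMap_eq' rfl
  refine h n hn L L' N N' (fun x hx => ?_) ((cancelBialg R S L A).symm.trans e) ((cancelBialg R S L' A).symm.trans e')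
  exact hk (show algebraMap R S x ∈ _ from hx)

/-- **The criterion by the orders of the torsion kernels.** -/
theorem isMultType_of_ordLe (R : Type u) [CommRing R] (A : Type u) [CommRing A] [HopfAlgebra R A]
    [Module.Flat R A] (hfp : Algebra.FinitePresentation R A) (h : AllFib R A) (ho : OrdLe R A) :
    IsMultType R A := by
  refine FibSpread.isMultType_of_forall_localization' R A @Groth.Agent.S2973.result fun p _ => ?_
  refine isMultType_of_isLocalRing _ _ (h.baseChange (Localization.AtPrime p)) ?_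
  intro S _ _ _ _ M _ _ e₀ L _ _ N _ _ e h hs _
  refine injective_of_card_le h hs fun l hl => ?_
  refine ((ho.baseChange (Localization.AtPrime p)).baseChange S) l hl L (ResidueField S) N M ?_ e e₀
  intro x hx
  have h1 : x ∈ maximalIdeal S := by
    rw [mem_maximalIdeal]
    intro hu
    exact (hu.map (algebraMap S L)).ne_zero hx
  exact Ideal.Quotient.eq_zero_iff_mem.mpr h1

end K201.TorsGen
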